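import Mathlib
import Cfsg.Agent.H775.PU.Bound_m3
import Cfsg.Agent.S0496
import Cfsg.Agent.H659.PU.Over_m3
import Cfsg.Agent.Lib.FinFast
import Cfsg.Agent.Lib.DivFast
import Cfsg.Agent.Lib.MatDec
import Cfsg.Agent.H650.GU.Root
import Cfsg.Agent.H781.Realized
import Cfsg.Agent.S1044
import Cfsg.Agent.S1035
import Cfsg.Agent.H638.G2Iso
import Cfsg.Agent.H245.DG.GTwo
import Cfsg.Agent.H756.PU.AsmGen
import Cfsg.Agent.H805.PU.Main_m3
import Cfsg.Agent.H802.FusSat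
import Cfsg.Agent.H802.FusBasic
import Cfsg.Agent.FastGrp
import Cfsg.Agent.Prune
set_option linter.all false

section
prune_inst 0x7f00000000000000000000000000000000000000000000000000000000000000000000000000000000000000000000000000000000000000000000000000000000000000000000000000000000000000003fffffffffffffffffffffffffffbeffbdffffffff

section
prune_inst 0xfcbcfbabf8addfffff7e77fedddffdbfbcffffefdff9cbffe161ff8fdf4b77c9c5fbad8fec50ff9ed6e21410f87b53fbfffeffea6bdc7ffffd5ff45ffbff9fffffbd08519488341ffc6ffefbf0778e7f000000000000000000000000000041004200000000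

-- part: H24/Q5/Fus
section
set_option linter.all false
open scoped Cfsg.Agent.FastGrp

-- part: H24/Q5/Mat
section
/-!
# S5211, block q = 5: the matrix block (exact statements)

`V = Q₁/Z₁` is the symplectic space of dimension 4 over `F₅`, coordinates `(b, c, d, e)` of `H650.G.GU`. The element
`x₁(1)` acts by `mA` (one Jordan block), the torus `tor s t` by `diag(s³t, s²t, st, t)`. `L` is the group generated by the
elements of order 5 of `Out_F(Q₁)`. Plan: `outputs/live/tools/plans/S5211_helper24.md`, Part Q5.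
-/

set_option autoImplicit false

namespace Cfsg.Agent.H24.Q5

open Matrix

abbrev M5 := Matrix (Fin 4) (Fin 4) (ZMod 5)

/-- the action of `x₁(1)` -/
def mA : M5 := !![1, -3, 3, 1; 0, 1, -2, -1; 0, 0, 1, 1; 0, 0, 0, 1]

/-- the commutator form `b e' - e b' + 3 (c d' - d c')` -/
def Om : M5 := !![0, 0, 0, 1; 0, 0, 3, 0; 0, -3, 0, 0; -1, 0, 0, 0]

/-- torus element `h₂(2)`: `s = 3, t = 4` -/
def mh2 : M5 := !![3, 0, 0, 0; 0, 1, 0, 0; 0, 0, 2, 0; 0, 0, 0, 4]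

/-- torus element `h₁(2)`: `s = 4, t = 2` -/
def mh1 : M5 := !![3, 0, 0, 0; 0, 2, 0, 0; 0, 0, 3, 0; 0, 0, 0, 2]

/-- the second generators of the four groups: `SL₂(5)` (irreducible), `2^(1+4).5`, `2.A₆`, `2^(1+4).A₅`, and of the
reducible `SL₂(5)` -/
def mS : M5 := !![1, 0, 0, 0; 1, 1, 0, 0; 1, 2, 1, 0; 4, 2, 2, 1]
def mR : M5 := !![1, 1, 0, 0; 0, 1, 0, 0; 2, 4, 1, 3; 3, 4, 0, 1]
def mC : M5 := !![1, 1, 0, 0; 0, 1, 0, 0; 1, 2, 1, 3; 4, 2, 0, 1]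
def mB : M5 := !![1, 0, 0, 0; 1, 1, 0, 0; 2, 4, 1, 0; 3, 4, 2, 1]
def mP : M5 := !![1, 0, 3, 1; 3, 1, 3, 4; 0, 0, 1, 0; 0, 0, 1, 1]

theorem mA5 : mA ^ 5 = 1 := by decide +kernel
theorem mS5 : mS ^ 5 = 1 := by decide +kernel
theorem mR5 : mR ^ 5 = 1 := by decide +kernel
theorem mC5 : mC ^ 5 = 1 := by decide +kernel
theorem mB5 : mB ^ 5 = 1 := by decide +kernel
theorem mP5 : mP ^ 5 = 1 := by decide +kernel
theorem mh24 : mh2 ^ 4 = 1 := by decide +kernel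
theorem mh14 : mh1 ^ 4 = 1 := by decide +kernel

/-- a unit from a matrix of finite order -/
def un (m : M5) (n : ℕ) (h : m ^ (n + 1) = 1) : M5ˣ := ⟨m, m ^ n, by rw [← pow_succ', h], by rw [← pow_succ, h]⟩

def gA : M5ˣ := un mA 4 mA5
def gS : M5ˣ := un mS 4 mS5
def gR : M5ˣ := un mR 4 mR5
def gC : M5ˣ := un mC 4 mC5
def gB : M5ˣ := un mB 4 mB5
def gP : M5ˣ := un mP 4 mP5
def gh2 : M5ˣ := un mh2 3 mh24
def gh1 : M5ˣ := un mh1 3 mh14

/-- the hypotheses on `L` -/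
structure Hyp (L : Subgroup M5ˣ) : Prop where
  iso : ∀ g ∈ L, (g : M5)ᵀ * Om * g = Om
  memA : gA ∈ L
  card : ¬ 25 ∣ Nat.card L
  gen : L ≤ Subgroup.closure {g | g ∈ L ∧ g ^ 5 = 1}
  h2 : ∀ g ∈ L, gh2 * g * gh2⁻¹ ∈ L
  irr1 : ¬ ∀ g ∈ L, (g : M5) 1 0 = 0 ∧ (g : M5) 2 0 = 0 ∧ (g : M5) 3 0 = 0
  irr2 : ¬ ∀ g ∈ L, (g : M5) 2 0 = 0 ∧ (g : M5) 3 0 = 0 ∧ (g : M5) 2 1 = 0 ∧ (g : M5) 3 1 = 0

/-- the four groups -/
def LS : Subgroup M5ˣ := Subgroup.closure {gA, gS}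
def LR : Subgroup M5ˣ := Subgroup.closure {gA, gR}
def LC : Subgroup M5ˣ := Subgroup.closure {gA, gC}
def LB : Subgroup M5ˣ := Subgroup.closure {gA, gB}
def LP : Subgroup M5ˣ := Subgroup.closure {gA, gP}

/-! ### The statements -/

/-- (M1) elements of order 5 and centralizers -/
def StM1 : Prop := ∀ L : Subgroup M5ˣ, Hyp L →
  (∀ g ∈ L, g ^ 5 = 1 → g ≠ 1 → ∃ x ∈ L, ∃ k : ℕ, x * gA ^ k * x⁻¹ = g) ∧
  (∀ g ∈ L, g ^ 5 = 1 → g ≠ 1 → ((g : M5) - 1) ^ 3 ≠ 0) ∧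
  (∀ g ∈ L, g * gA = gA * g → ∃ k : ℕ, g = gA ^ k ∨ g = - gA ^ k) ∧
  (∀ g ∈ L, ∀ k : ℕ, g * gA * g⁻¹ = gA ^ k → gA ^ k = gA ∨ gA ^ k = gA⁻¹) ∧
  Nat.card L ∣ 2 ^ 7 * 3 ^ 2 * 5 * 13

/-- (M2) there is a second Sylow subgroup normalized by `gh2`, and it is one of five -/
def StM2 : Prop := ∀ L : Subgroup M5ˣ, Hyp L → gS ∈ L ∨ gR ∈ L ∨ gC ∈ L ∨ gB ∈ L ∨ gP ∈ L

/-- (M3) the structure: either a normal extraspecial subgroup of order 32 or order 120, 720 -/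
def StM3 : Prop := ∀ L : Subgroup M5ˣ, Hyp L → -1 ∈ L →
  (∃ R : Subgroup M5ˣ, R ≤ L ∧ (∀ g ∈ L, ∀ r ∈ R, g * r * g⁻¹ ∈ R) ∧ Nat.card R = 32 ∧ -1 ∈ R ∧
    (∀ r ∈ R, r ^ 2 = 1 ∨ r ^ 2 = -1) ∧ (∀ r ∈ R, ∀ s ∈ R, r * s = s * r ∨ r * s = - (s * r)) ∧
    (∀ r ∈ R, r * gA = gA * r → r = 1 ∨ r = -1) ∧ (∀ g ∈ L, gh2 * g * gh2⁻¹ ∈ R → g ∈ R) ∧
    (Nat.card L = 160 ∨ Nat.card L = 1920)) ∨
  Nat.card L = 120 ∨ Nat.card L = 720

/-- (M4) uniqueness of the extraspecial group and of the two groups above it -/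
def StM4 : Prop := ∀ L R : Subgroup M5ˣ, Hyp L → R ≤ L → (∀ g ∈ L, ∀ r ∈ R, g * r * g⁻¹ ∈ R) → Nat.card R = 32 → -1 ∈ R →
    (∀ r ∈ R, r ^ 2 = 1 ∨ r ^ 2 = -1) → (∀ r ∈ R, ∀ s ∈ R, r * s = s * r ∨ r * s = - (s * r)) →
    (∀ r ∈ R, r * gA = gA * r → r = 1 ∨ r = -1) → (∀ r ∈ R, gh2 * r * gh2⁻¹ ∈ R) →
    (Nat.card L = 160 → L = LR) ∧ (Nat.card L = 1920 → L = LB)

/-- (M5) the case of order 720 -/
def StM5 : Prop := ∀ L : Subgroup M5ˣ, Hyp L → Nat.card L = 720 → gC ∈ L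

/-- (M6) the orders of the five explicit groups, `-1` and `gh1` -/
def StM6 : Prop := (120 ≤ Nat.card LS ∧ 160 ≤ Nat.card LR ∧ 720 ≤ Nat.card LC ∧ 1920 ≤ Nat.card LB ∧ 120 ≤ Nat.card LP) ∧
  (-1 ∈ LS ∧ -1 ∈ LR ∧ -1 ∈ LC ∧ -1 ∈ LB ∧ -1 ∈ LP) ∧ gh1 ∈ LS ∧ gh1 ∈ LC ∧ gh1 ∈ LB ∧
  (∀ g ∈ LP, (g : M5) 2 0 = 0 ∧ (g : M5) 3 0 = 0 ∧ (g : M5) 2 1 = 0 ∧ (g : M5) 3 1 = 0)

/-- (M) the classification -/
def StM : Prop := ∀ L : Subgroup M5ˣ, Hyp L →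
  (Nat.card L = 120 ∧ L = LS) ∨ (Nat.card L = 160 ∧ L = LR) ∨ (Nat.card L = 720 ∧ L = LC) ∨ (Nat.card L = 1920 ∧ L = LB)

end Cfsg.Agent.H24.Q5
end

-- part: H24/Q5/Fus
section
/-!
# S5211, block q = 5: the fusion part (exact statements)

Plan: `outputs/live/tools/plans/S5211_helper24.md`, Part Q5; leader of S5211: helper779 (`H779/G2/Stmts.lean`).
The goal is `StMain5` for `K = ZMod 5` (`StMain5Z` below); `StPush5` reduces `StMain5` to it.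
-/

set_option autoImplicit false

namespace Cfsg.Agent.H24.Q5

open Cfsg Cfsg.FusionSystem Cfsg.Agent.H756.PU Cfsg.Agent.H779.G2

universe u

instance fact5 : Fact (Nat.Prime 5) := ⟨by norm_num⟩

/-- the Sylow 5-subgroup of `G₂(5)` -/
abbrev U5 : Type := GU (ZMod 5)

/-- `Q_a` -/
abbrev A5 : Subgroup U5 := Qa (ZMod 5)

/-- `Q_b` -/
abbrev B5 : Subgroup U5 := Qb (ZMod 5)

/-- the coordinates of `Q_a / Z₁` -/
def vec (g : U5) : Fin 4 → ZMod 5 := ![g.e, - g.d, g.c, g.b]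

/-- `γ` acts on `Q_a / Z₁` as the matrix `g` (so `c_x` for `x = x_a(-1)` acts as `gA`, and `tor(s,t)` acts as
`diag(s³t, s²t, st, t)`) -/
def Acts (γ : MulAut A5) (g : M5ˣ) : Prop :=
  ∀ x : A5, vec ((γ x : A5) : U5) = (g : M5).mulVec (vec (x : U5))

/-- the diagonal matrix of `tor(s,t)` -/
def mdg (s t : ZMod 5) : M5 := Matrix.diagonal ![s ^ 3 * t, s ^ 2 * t, s * t, t]

/-- `L` : generated by the matrices of order 5 of `Γ = Aut_F(Q_a)` -/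
def LG (Γ : Subgroup (MulAut A5)) : Subgroup M5ˣ :=
  Subgroup.closure {g | g ^ 5 = 1 ∧ ∃ γ ∈ Γ, Acts γ g}

/-- the plain automorphism `tor(s,t)` -/
def IsT (α : MulAut U5) (s t : ZMod 5) : Prop := IsTor α s t (RingEquiv.refl _)

/-! ### The short root parabolic -/

/-- (F2) `L` satisfies the hypotheses of the matrix block -/
def StF2 : Prop :=
  ∀ (Γ : Subgroup (MulAut A5)) (D : Subgroup (MulAut U5)), Par 5 A5 Γ D → HasTor D (fun t => t⁻¹) (fun t => t ^ 2) →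
    ¬ Inv Γ (Z2 (ZMod 5)) → ¬ Inv Γ (Z3 (ZMod 5)) → Hyp (LG Γ)

/-- (F3) `D` consists of plain torus elements and contains those whose matrices are in `L`; `Γ` is determined by `L` and `D`;
the order of `Γ` -/
def StF3 : Prop :=
  ∀ (Γ : Subgroup (MulAut A5)) (D : Subgroup (MulAut U5)), Par 5 A5 Γ D →
    (∀ d ∈ D, ∃ s t, IsT d s t) ∧
    (∀ s t (α : MulAut U5), IsT α s t → (∃ g ∈ LG Γ, (g : M5) = mdg s t) → α ∈ D) ∧
    (∀ γ : MulAut A5, γ ∈ Γ ↔ ∃ g ∈ LG Γ, ∃ d ∈ D, ∃ s t, IsT d s t ∧ ∃ h : M5ˣ, (h : M5) = mdg s t ∧ Acts γ (g * h)) ∧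
    Nat.card Γ * Nat.card {g : M5ˣ // g ∈ LG Γ ∧ ∃ d ∈ D, ∃ s t, IsT d s t ∧ (g : M5) = mdg s t} =
      625 * Nat.card (LG Γ) * Nat.card D

/-- (Lb5) the long root parabolic at `q = 5` without `Full D`: it is enough that `tor(1,-1) ∈ D` -/
def StLb5 : Prop :=
  ∀ (Γ : Subgroup (MulAut B5)) (D : Subgroup (MulAut U5)), Par 5 B5 Γ D →
    HasTor D (fun t => t⁻¹) (fun t => t ^ 2) ∧ ((∀ α, IsT α 1 (-1) → α ∈ D) → Γ = Gen IsWb D)

/-! ### The systems -/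

/-- (ESS5) what the general theory gives for a core-free system at `q = 5` (StE5, StCon, StCompl, StPos, StTwist, StTI, StEss):
after a twist `Aut_F(S) = Inn(S)·D`, both parabolics satisfy `Par`, neither `Z₂` nor `Z₃` is `Aut_F(Q_a)`-invariant;
or `F` is realizable -/
structure Good (F : FusionSystem (⊤ : Subgroup U5)) (D : Subgroup (MulAut U5)) : Prop where
  sat : F.IsSaturated 5
  ess : ∀ E, F.IsEssential 5 E → E = A5 ∨ E = B5
  af : AF F = (MulAut.conj : U5 →* MulAut U5).range ⊔ D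
  parA : Par 5 A5 (F.autGroup A5) D
  parB : Par 5 B5 (F.autGroup B5) D
  z2 : ¬ Inv (F.autGroup A5) (Z2 (ZMod 5))
  z3 : ¬ Inv (F.autGroup A5) (Z3 (ZMod 5))

/-- (G) reduction of a core-free system to a good one -/
def StGood : Prop :=
  ∀ (F : FusionSystem (⊤ : Subgroup U5)), F.IsSaturated 5 → F.core = ⊥ →
    ∃ (F' : FusionSystem (⊤ : Subgroup U5)) (D : Subgroup (MulAut U5)), Good F' D ∧
      (F'.IsRealizable 5 ↔ F.IsRealizable 5) ∧ Nat.card (F'.autGroup A5) = Nat.card (F.autGroup A5)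

/-- (U) two good systems with automizers of `Q_a` of the same order are equal -/
def StUniq : Prop :=
  ∀ (F F' : FusionSystem (⊤ : Subgroup U5)) (D D' : Subgroup (MulAut U5)), Good F D → Good F' D' →
    Nat.card (F.autGroup A5) = Nat.card (F'.autGroup A5) → ∀ P, F.Hom P = F'.Hom P

/-- (V) the five possible orders -/
def StFive : Prop :=
  ∀ (F : FusionSystem (⊤ : Subgroup U5)) (D : Subgroup (MulAut U5)), Good F D →
    Nat.card (F.autGroup A5) ∈ ({625 * 480, 625 * 640, 625 * 1280, 625 * 2880, 625 * 7680} : Set ℕ)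

/-! ### Rows: the local data of a finite group -/

/-- `G` has a Sylow 5-subgroup isomorphic to `U5` with the local properties (a1), (a2): `N_G(Q_a)` moves `Z₂` and `Z₃`,
(b): `Z₁` is not strongly closed -/
structure Loc (G : Type) [Group G] (T : Sylow 5 G) (e : (T : Subgroup G) ≃* U5) : Prop where
  a1 : ∃ g : G, (∀ x : (T : Subgroup G), e x ∈ A5 → ∃ y : (T : Subgroup G), (y : G) = g * x * g⁻¹ ∧ e y ∈ A5) ∧
    ∃ x y : (T : Subgroup G), e x ∈ Z2 (ZMod 5) ∧ (y : G) = g * x * g⁻¹ ∧ e y ∉ Z2 (ZMod 5)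
  a2 : ∃ g : G, (∀ x : (T : Subgroup G), e x ∈ A5 → ∃ y : (T : Subgroup G), (y : G) = g * x * g⁻¹ ∧ e y ∈ A5) ∧
    ∃ x y : (T : Subgroup G), e x ∈ Z3 (ZMod 5) ∧ (y : G) = g * x * g⁻¹ ∧ e y ∉ Z3 (ZMod 5)
  b : ∃ (g : G) (x y : (T : Subgroup G)), e x ∈ Z1 (ZMod 5) ∧ (y : G) = g * x * g⁻¹ ∧ e y ∉ Z1 (ZMod 5)

/-- the subgroup of `G` corresponding to `Q_a` -/
def QG {G : Type} [Group G] (T : Sylow 5 G) (e : (T : Subgroup G) ≃* U5) : Subgroup G :=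
  (A5.comap e.toMonoidHom).map (T : Subgroup G).subtype

/-- the order of `N_G(Q)/C_G(Q)` -/
noncomputable def autN {G : Type} [Group G] (T : Sylow 5 G) (e : (T : Subgroup G) ≃* U5) : ℕ :=
  (Subgroup.centralizer (QG T e : Set G)).relIndex (Subgroup.normalizer (QG T e : Set G))

/-- a row -/
def Row (P : ℕ → Prop) : Prop :=
  ∃ (G : Type) (_ : Group G) (_ : Finite G) (T : Sylow 5 G) (e : (T : Subgroup G) ≃* U5), Loc G T e ∧ P (autN T e)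

/-- (ROW) a row gives a core-free realizable system over `U5` -/
def StRowSys : Prop :=
  ∀ (G : Type) [Group G] [Finite G] (T : Sylow 5 G) (e : (T : Subgroup G) ≃* U5), Loc G T e →
    ∃ F : FusionSystem (⊤ : Subgroup U5), F.IsSaturated 5 ∧ F.IsRealizable 5 ∧ F.core = ⊥ ∧
      Nat.card (F.autGroup A5) = autN T e

/-- (row `G₂(5)`; the true value is `625 * 480`) -/
def StRowG2 : Prop := Row fun n => 3 ∣ n ∧ ¬ 9 ∣ n ∧ ¬ 128 ∣ n
/-- (row `HN`; the true value is `625 * 640`) -/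
def StRowHN : Prop := Row fun n => ¬ 3 ∣ n ∧ ¬ 256 ∣ n
/-- (row `Aut(HN)`; the true value is `625 * 1280`) -/
def StRowHN2 : Prop := Row fun n => ¬ 3 ∣ n ∧ 256 ∣ n
/-- (row `Ly`; the true value is `625 * 2880`) -/
def StRowLy : Prop := Row fun n => 9 ∣ n
/-- (row `B`; the true value is `625 * 7680`) -/
def StRowB : Prop := Row fun n => 3 ∣ n ∧ 128 ∣ n

/-- the goal over `ZMod 5` -/
def StMain5Z : Prop :=
  ∀ (F : FusionSystem (⊤ : Subgroup U5)), F.IsSaturated 5 → F.core = ⊥ → F.IsRealizable 5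

/-- (PUSH) transport of core-free systems to `U5` -/
def StPush5 : Prop := StMain5Z → StMain5.{u}

end Cfsg.Agent.H24.Q5
end
end

-- part: H689/Q5/M3_mg
section
set_option linter.all false
open scoped Cfsg.Agent.FastGrp
private noncomputable def lq26321636b6 {T : Sort _} (f :
    type_of% (@_root_.Matrix.vecCons.{0}) →
    type_of% (@_root_.Matrix.vecEmpty.{0}) →
    ((Nat) → (Nat)) →
    type_of% (@_root_.List.cons.{0} (Nat)) →
    ((Cfsg.Agent.H24.Q5.M5) → (Cfsg.Agent.H24.Q5.M5)) →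
    type_of% (@_root_.List.cons.{0} (Matrix (Fin 4) (Fin 4) (ZMod 5))) →
    type_of% (@_root_.List.cons.{0}) →
    type_of% (@_root_.Bool.false) →
    type_of% (@_root_.Bool.true) →
    type_of% (@_root_.List.nil.{0}) →
    type_of% (@_root_.List.cons.{0} (List Bool)) →
    ((List Bool) → (List Bool)) → T) : T :=
  f (@_root_.Matrix.vecCons.{0}) (@_root_.Matrix.vecEmpty.{0}) (fun x => x) (@_root_.List.cons.{0} (Nat)) (fun x => x) (@_root_.List.cons.{0} (Matrix (Fin 4) (Fin 4) (ZMod 5))) (@_root_.List.cons.{0}) (@_root_.Bool.false) (@_root_.Bool.true) (@_root_.List.nil.{0}) (@_root_.List.cons.{0} (List Bool)) (fun x => x)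

-- part: H689/Q5/Grp
section
/-!
# Task 5260 [Q5-M3] (S5211, block q = 5): the abstract group theory (helper689)

A finite group with a self centralizing subgroup of order 5 whose normalizer has order at most 10.
-/

set_option autoImplicit false

namespace Cfsg.Agent.H689.Q5

open Subgroup
open scoped Pointwise

/-- fixed points of a map of order 5 -/
theorem card_mod {α : Type*} [Finite α] (f : α → α) (hf : ∀ x, f (f (f (f (f x)))) = x) :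
    Nat.card α % 5 = Nat.card {x // f x = x} % 5 := by
  classical
  have := Fintype.ofFinite α
  let F : Function.End α := f
  have h : F ^ 5 ^ 1 = 1 := by
    funext x
    exact hf x
  have : Fact (Nat.Prime 5) := ⟨by norm_num⟩
  have := Equiv.Perm.card_fixedPoints_modEq (p := 5) (n := 1) h
  rw [Nat.card_eq_fintype_card, Nat.card_eq_fintype_card]
  rw [Nat.ModEq] at this
  rw [this]
  congr 1

/-- the situation -/
structure HQ {Q : Type*} [Group Q] (a : Q) : Prop where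
  ord : orderOf a = 5
  cent : ∀ x : Q, x * a = a * x → x ∈ zpowers a
  norm : ∀ (x : Q) (k : ℕ), x * a * x⁻¹ = a ^ k → x * a * x⁻¹ = a ∨ x * a * x⁻¹ = a⁻¹
  gen : closure {x : Q | x ^ 5 = 1} = ⊤
  card : ¬ 25 ∣ Nat.card Q

variable {Q : Type*} [Group Q] {a : Q}

theorem HQ.a5 (H : HQ a) : a ^ 5 = 1 := by rw [← H.ord]; exact pow_orderOf_eq_one a

theorem HQ.ne (H : HQ a) : a ≠ 1 := by
  intro h
  have := H.ord
  rw [h, orderOf_one] at this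
  omega

/-- a subgroup of order prime to 5 meets `⟨a⟩` trivially -/
theorem HQ.meet (H : HQ a) {P : Subgroup Q} (h5 : ¬ 5 ∣ Nat.card P) {x : Q} (hx : x ∈ P) (hxa : x ∈ zpowers a) :
    x = 1 := by
  by_contra hne
  have h1 : orderOf x ∣ 5 := by
    rw [← H.ord, ← Nat.card_zpowers a]
    exact (Subgroup.orderOf_dvd_natCard _ hxa)
  have h2 : orderOf x = 5 := ((Nat.dvd_prime (by norm_num)).mp h1).resolve_left (by simpa using hne)
  exact h5 (by rw [← h2]; exact Subgroup.orderOf_dvd_natCard _ hx)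


variable [Finite Q]

/-- a subgroup of order prime to 5 normalized by `a` has order 1 modulo 5 -/
theorem HQ.mod_one (H : HQ a) {P : Subgroup Q} (h5 : ¬ 5 ∣ Nat.card P) (hn : ∀ x ∈ P, a * x * a⁻¹ ∈ P) :
    Nat.card P % 5 = 1 := by
  have h := card_mod (fun x : P => (⟨a * x * a⁻¹, hn x x.2⟩ : P)) (by
    intro x
    apply Subtype.ext
    have h5' := H.a5
    have : a⁻¹ ^ 5 = 1 := by rw [inv_pow, h5', inv_one]
    calc _ = a ^ 5 * (x : Q) * a⁻¹ ^ 5 := by simp only [pow_succ, pow_zero, one_mul, mul_assoc]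
      _ = x := by rw [h5', this]; group)
  rw [h]
  have : Nat.card {x : P // (⟨a * x * a⁻¹, hn x x.2⟩ : P) = x} = 1 := by
    rw [Nat.card_eq_one_iff_unique]
    constructor
    · constructor
      rintro ⟨x, hx⟩ ⟨y, hy⟩
      have key : ∀ z : P, (⟨a * z * a⁻¹, hn z z.2⟩ : P) = z → (z : Q) = 1 := by
        intro z hz
        have hz' : a * (z : Q) * a⁻¹ = z := congrArg Subtype.val hz
        refine H.meet h5 z.2 (H.cent _ ?_)
        rw [mul_inv_eq_iff_eq_mul] at hz'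
        exact hz'.symm
      apply Subtype.ext; apply Subtype.ext
      rw [key x hx, key y hy]
    · exact ⟨⟨1, by apply Subtype.ext; simp⟩⟩
  rw [this]

/-- `a` normalizes a Sylow subgroup of each normal subgroup of order prime to 5 -/
theorem HQ.syl (H : HQ a) {N : Subgroup Q} [N.Normal] (h5 : ¬ 5 ∣ Nat.card N) (r : ℕ) [Fact r.Prime] :
    ∃ i : ℕ, r ^ i ∣ Nat.card N ∧ ¬ r ^ (i + 1) ∣ Nat.card N ∧ r ^ i % 5 = 1 := by
  let φ : MulAut N := MulAut.conjNormal a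
  have hφ5 : φ ^ 5 = 1 := by
    change (MulAut.conjNormal a : MulAut N) ^ 5 = 1
    rw [← map_pow, H.a5, map_one]
  have h := card_mod (fun P : Sylow r N => φ • P) (by
    intro P
    calc _ = (φ ^ 5) • P := by simp only [pow_succ, pow_zero, one_mul, mul_smul]
      _ = P := by rw [hφ5, one_smul])
  have hd : Nat.card (Sylow r N) ∣ Nat.card N := by
    have := (default : Sylow r N).card_dvd_index
    exact this.trans (Subgroup.index_dvd_card _)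
  have hne : Nat.card {P : Sylow r N // φ • P = P} ≠ 0 := by
    intro h0
    rw [h0] at h
    exact h5 ((Nat.dvd_of_mod_eq_zero h).trans hd)
  have : Nonempty {P : Sylow r N // φ • P = P} := (Nat.card_ne_zero.mp hne).1
  obtain ⟨P, hP⟩ := (inferInstance : Nonempty {P : Sylow r N // φ • P = P})
  obtain ⟨i, hi⟩ := IsPGroup.iff_card.mp P.2
  refine ⟨i, ?_, ?_, ?_⟩
  · rw [← hi]; exact Subgroup.card_subgroup_dvd_card _
  · intro hcon
    have h1 := P.card_eq_multiplicity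
    rw [hi] at h1
    have h2 : i = (Nat.card N).factorization r := Nat.pow_right_injective (Fact.out : r.Prime).two_le h1
    rw [h2] at hcon
    exact (Nat.pow_succ_factorization_not_dvd (Nat.card_pos.ne') Fact.out) hcon
  · have hcard : Nat.card ((P : Subgroup N).map N.subtype) = r ^ i := by
      rw [Subgroup.card_map_of_injective (Subgroup.subtype_injective N)]
      exact hi
    rw [← hcard]
    refine H.mod_one ?_ ?_
    · intro hcon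
      apply h5
      refine hcon.trans ?_
      rw [Subgroup.card_map_of_injective (Subgroup.subtype_injective N)]
      exact Subgroup.card_subgroup_dvd_card _
    · rintro _ ⟨y, hy, rfl⟩
      refine ⟨φ y, ?_, ?_⟩
      · have : φ y ∈ φ • (P : Subgroup N) := Subgroup.smul_mem_pointwise_smul y φ _ hy
        rw [← Sylow.pointwise_smul_def, hP] at this
        exact this
      · rfl

theorem arith1 : ∀ d ∈ Nat.divisors 7488, (∀ i ≤ 6, 2 ^ i ∣ d → ¬ 2 ^ (i + 1) ∣ d → 2 ^ i % 5 = 1) →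
    (∀ i ≤ 2, 3 ^ i ∣ d → ¬ 3 ^ (i + 1) ∣ d → 3 ^ i % 5 = 1) →
    (∀ i ≤ 1, 13 ^ i ∣ d → ¬ 13 ^ (i + 1) ∣ d → 13 ^ i % 5 = 1) → d = 1 ∨ d = 16 := by
  (rewrite [Cfsg.Agent.Lib.DivFast.divisors_eq]; decide +kernel)

theorem exp_unique {r i j d : ℕ} (h1 : r ^ i ∣ d) (h2 : ¬ r ^ (i + 1) ∣ d) (h3 : r ^ j ∣ d)
    (h4 : ¬ r ^ (j + 1) ∣ d) : i = j := by
  rcases Nat.lt_trichotomy i j with h | h | h
  · exact absurd ((pow_dvd_pow r (show i + 1 ≤ j by omega)).trans h3) h2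
  · exact h
  · exact absurd ((pow_dvd_pow r (show j + 1 ≤ i by omega)).trans h1) h4

/-- a normal subgroup of order prime to 5 has order 1 or 16 -/
theorem HQ.small (H : HQ a) (hd : Nat.card Q ∣ 37440) {N : Subgroup Q} [N.Normal] (h5 : ¬ 5 ∣ Nat.card N) :
    Nat.card N = 1 ∨ Nat.card N = 16 := by
  have h1 : Nat.card N ∣ 5 * 7488 := (Subgroup.card_subgroup_dvd_card N).trans hd
  have h2 : Nat.card N ∣ 7488 := by
    refine Nat.Coprime.dvd_of_dvd_mul_left ?_ h1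
    rw [Nat.coprime_comm]
    exact (Nat.Prime.coprime_iff_not_dvd (by norm_num)).mpr h5
  have key : ∀ r : ℕ, r.Prime → ∀ i : ℕ, r ^ i ∣ Nat.card N → ¬ r ^ (i + 1) ∣ Nat.card N → r ^ i % 5 = 1 := by
    intro r hr i hi1 hi2
    have : Fact r.Prime := ⟨hr⟩
    obtain ⟨j, hj1, hj2, hj3⟩ := H.syl h5 r
    rw [exp_unique hi1 hi2 hj1 hj2]
    exact hj3
  exact arith1 _ (Nat.mem_divisors.mpr ⟨h2, by norm_num⟩) (fun i _ => key 2 (by norm_num) i)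
    (fun i _ => key 3 (by norm_num) i) (fun i _ => key 13 (by norm_num) i)

/-- two normal subgroups of order 16 are equal -/
theorem HQ.uniq (H : HQ a) (hd : Nat.card Q ∣ 37440) {N M : Subgroup Q} [N.Normal] [M.Normal]
    (hN : Nat.card N = 16) (hM : Nat.card M = 16) : N = M := by
  have h5 : ¬ 5 ∣ Nat.card ↥(N ⊓ M) := by
    intro h
    have := h.trans (Subgroup.card_dvd_of_le (inf_le_left : N ⊓ M ≤ N))
    rw [hN] at this
    omega
  rcases H.small hd h5 with h | h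
  · exfalso
    have hbot : N ⊓ M = ⊥ := Subgroup.card_eq_one.mp h
    have h256 : Nat.card ↥(N ⊔ M) = 256 := by
      have h1 := relIndex_mul_relIndex ⊥ N (N ⊔ M) bot_le le_sup_left
      rw [relIndex_sup_left, ← inf_relIndex_right N M, hbot] at h1
      simp only [relIndex_bot_left] at h1
      rw [← h1, hN, hM]
    have := (Subgroup.card_subgroup_dvd_card (N ⊔ M)).trans hd
    rw [h256] at this
    omega
  · have h1 : N ⊓ M = N := Subgroup.eq_of_le_of_card_ge inf_le_left (by rw [h, hN])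
    have h2 : N ⊓ M = M := Subgroup.eq_of_le_of_card_ge inf_le_right (by rw [h, hM])
    rw [← h1]; exact h2

omit [Finite Q] in
/-- powers of `a` other than 1 have the same centralizer -/
theorem HQ.cent_pow (H : HQ a) {k : ℕ} (hk : a ^ k ≠ 1) {x : Q} (hx : x * a ^ k = a ^ k * x) : x ∈ zpowers a := by
  apply H.cent
  have hk5 : Nat.Coprime k 5 := by
    rw [Nat.coprime_comm, Nat.Prime.coprime_iff_not_dvd (by norm_num)]
    rintro ⟨m, rfl⟩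
    exact hk (by rw [pow_mul, H.a5, one_pow])
  obtain ⟨m, hm⟩ : ∃ m : ℕ, (a ^ k) ^ m = a := by
    obtain ⟨m, -, hm⟩ := Nat.exists_mul_mod_eq_one_of_coprime hk5 (by norm_num)
    refine ⟨m, ?_⟩
    rw [← pow_mul, ← Nat.div_add_mod (k * m) 5, hm, pow_add, pow_mul, H.a5, one_pow, one_mul, pow_one]
  have : Commute x (a ^ k) := hx
  rw [← hm]
  exact (this.pow_right m).eq

/-- all elements of a coset of a normal subgroup of order prime to 5 are conjugate -/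
theorem HQ.coset (H : HQ a) {N : Subgroup Q} [hN : N.Normal] (h5 : ¬ 5 ∣ Nat.card N) {k : ℕ} (hk : a ^ k ≠ 1)
    {m : Q} (hm : m ∈ N) : ∃ n ∈ N, m * a ^ k = n * a ^ k * n⁻¹ := by
  have hmem : ∀ n : N, (n : Q) * a ^ k * (n : Q)⁻¹ * (a ^ k)⁻¹ ∈ N := by
    intro n
    have h1 : a ^ k * (n : Q)⁻¹ * (a ^ k)⁻¹ ∈ N := hN.conj_mem _ (N.inv_mem n.2) _
    have h2 : (n : Q) * (a ^ k * (n : Q)⁻¹ * (a ^ k)⁻¹) ∈ N := N.mul_mem n.2 h1
    simpa only [mul_assoc] using h2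
  have hinj : Function.Injective (fun n : N => (⟨(n : Q) * a ^ k * (n : Q)⁻¹ * (a ^ k)⁻¹, hmem n⟩ : N)) := by
    intro x y hxy
    have h1 : (x : Q) * a ^ k * (x : Q)⁻¹ * (a ^ k)⁻¹ = (y : Q) * a ^ k * (y : Q)⁻¹ * (a ^ k)⁻¹ :=
      congrArg Subtype.val hxy
    have h2 := mul_right_cancel h1
    have h3 : ((y : Q)⁻¹ * x) * a ^ k = a ^ k * ((y : Q)⁻¹ * x) := by
      rw [mul_inv_eq_iff_eq_mul] at h2
      calc ((y : Q)⁻¹ * x) * a ^ k = (y : Q)⁻¹ * (x * a ^ k) := by group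
        _ = (y : Q)⁻¹ * (y * a ^ k * (y : Q)⁻¹ * x) := by rw [h2]
        _ = a ^ k * ((y : Q)⁻¹ * x) := by group
    have h4 := H.meet h5 (N.mul_mem (N.inv_mem y.2) x.2) (H.cent_pow hk h3)
    apply Subtype.ext
    exact (inv_mul_eq_one.mp h4).symm
  obtain ⟨n, hn⟩ := (Finite.injective_iff_surjective.mp hinj) ⟨m, hm⟩
  refine ⟨n, n.2, ?_⟩
  have h1 : (n : Q) * a ^ k * (n : Q)⁻¹ * (a ^ k)⁻¹ = m := congrArg Subtype.val hn
  rw [← h1]; group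

/-- the situation passes to the quotient by a normal subgroup of order prime to 5 -/
theorem HQ.quot (H : HQ a) (N : Subgroup Q) [hN : N.Normal] (h5 : ¬ 5 ∣ Nat.card N) :
    HQ (QuotientGroup.mk a : Q ⧸ N) := by
  have hmk : ∀ x y : Q, (QuotientGroup.mk x : Q ⧸ N) = QuotientGroup.mk y → ∃ m ∈ N, x = m * y := by
    intro x y h
    rw [eq_comm, QuotientGroup.eq] at h
    refine ⟨x * y⁻¹, ?_, by group⟩
    have := hN.conj_mem _ h y
    simpa only [mul_assoc, mul_inv_cancel_left] using this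
  have hak : ∀ k : ℕ, (QuotientGroup.mk (a ^ k) : Q ⧸ N) = 1 → a ^ k = 1 := by
    intro k h
    exact H.meet h5 ((QuotientGroup.eq_one_iff _).mp h) (Subgroup.npow_mem_zpowers a k)
  have hne : (QuotientGroup.mk a : Q ⧸ N) ≠ 1 := by
    intro h
    have := hak 1 (by rw [pow_one]; exact h)
    rw [pow_one] at this
    exact H.ne this
  have hz : ∀ x : Q, x ∈ zpowers a → (QuotientGroup.mk x : Q ⧸ N) ∈ zpowers (QuotientGroup.mk a : Q ⧸ N) := by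
    rintro _ ⟨k, rfl⟩
    exact ⟨k, rfl⟩
  refine ⟨?_, ?_, ?_, ?_, ?_⟩
  · have h1 : (QuotientGroup.mk a : Q ⧸ N) ^ 5 = 1 := by
      rw [← QuotientGroup.mk_pow, H.a5]; rfl
    have : Fact (Nat.Prime 5) := ⟨by norm_num⟩
    exact orderOf_eq_prime h1 hne
  · intro x hx
    induction x using QuotientGroup.induction_on with
    | H x =>
      rw [← QuotientGroup.mk_mul, ← QuotientGroup.mk_mul] at hx
      obtain ⟨m, hm, hxm⟩ := hmk _ _ hx
      -- x a = m a x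
      have h1 : a ^ 1 ≠ 1 := by rw [pow_one]; exact H.ne
      obtain ⟨n, hn, hn2⟩ := H.coset h5 h1 hm
      rw [pow_one] at hn2
      have h2 : (n⁻¹ * x) * a = a * (n⁻¹ * x) := by
        calc (n⁻¹ * x) * a = n⁻¹ * (x * a) := by group
          _ = n⁻¹ * (m * a) * x := by rw [hxm]; group
          _ = a * (n⁻¹ * x) := by rw [hn2]; group
      have h3 := hz _ (H.cent _ h2)
      have h4 : (QuotientGroup.mk (n⁻¹ * x) : Q ⧸ N) = QuotientGroup.mk x := by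
        rw [QuotientGroup.mk_mul, (QuotientGroup.eq_one_iff _).mpr (N.inv_mem hn), one_mul]
      rw [h4] at h3
      exact h3
  · intro x k hx
    induction x using QuotientGroup.induction_on with
    | H x =>
      rw [← QuotientGroup.mk_mul, ← QuotientGroup.mk_inv, ← QuotientGroup.mk_mul, ← QuotientGroup.mk_pow] at hx
      obtain ⟨m, hm, hxm⟩ := hmk _ _ hx
      have h1 : a ^ k ≠ 1 := by
        intro h
        rw [h] at hx
        have h2 : (QuotientGroup.mk (x * a * x⁻¹) : Q ⧸ N) = 1 := hx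
        rw [QuotientGroup.mk_mul, QuotientGroup.mk_mul, QuotientGroup.mk_inv, mul_inv_eq_one] at h2
        exact hne (mul_eq_left.mp h2)
      obtain ⟨n, hn, hn2⟩ := H.coset h5 h1 hm
      have h2 : (n⁻¹ * x) * a * (n⁻¹ * x)⁻¹ = a ^ k := by
        calc (n⁻¹ * x) * a * (n⁻¹ * x)⁻¹ = n⁻¹ * (x * a * x⁻¹) * n := by group
          _ = a ^ k := by rw [hxm, hn2]; group
      have h3 := H.norm _ k h2
      rw [h2] at h3
      rcases h3 with h3 | h3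
      · left
        rw [← QuotientGroup.mk_mul, ← QuotientGroup.mk_inv, ← QuotientGroup.mk_mul, hx, h3]
      · right
        rw [← QuotientGroup.mk_mul, ← QuotientGroup.mk_inv, ← QuotientGroup.mk_mul, hx, h3]
        rfl
  · rw [eq_top_iff]
    have h1 : (closure {x : Q | x ^ 5 = 1}).map (QuotientGroup.mk' N) = ⊤ := by
      rw [H.gen]
      exact Subgroup.map_top_of_surjective _ (QuotientGroup.mk'_surjective N)
    rw [← h1, MonoidHom.map_closure]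
    apply Subgroup.closure_mono
    rintro _ ⟨x, hx, rfl⟩
    change (QuotientGroup.mk' N x) ^ 5 = 1
    rw [← map_pow]
    rw [Set.mem_ofPred_eq] at hx
    rw [hx, map_one]
  · intro h
    apply H.card
    rw [N.card_eq_card_quotient_mul_card_subgroup]
    exact h.mul_right _

/-- Sylow subgroups have order at most 5 -/
theorem HQ.card_syl (H : HQ a) [Fact (Nat.Prime 5)] (P : Sylow 5 Q) : Nat.card P ≤ 5 := by
  rw [P.card_eq_multiplicity]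
  have : (Nat.card Q).factorization 5 < 2 := by
    by_contra hlt
    push Not at hlt
    apply H.card
    have := (Nat.Prime.pow_dvd_iff_le_factorization (p := 5) (by norm_num) (Nat.card_pos (α := Q)).ne').mpr hlt
    exact this
  interval_cases (Nat.card Q).factorization 5 <;> norm_num

theorem HQ.sylow (H : HQ a) [Fact (Nat.Prime 5)] {y : Q} (hy : orderOf y = 5) :
    ∃ R : Sylow 5 Q, (R : Subgroup Q) = zpowers y := by
  have hpy : IsPGroup 5 (zpowers (y : Q)) := IsPGroup.of_card (n := 1) (by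
    rw [Nat.card_zpowers, hy, pow_one])
  obtain ⟨R, hR⟩ := hpy.exists_le_sylow
  exact ⟨R, (Subgroup.eq_of_le_of_card_ge hR (by rw [Nat.card_zpowers, hy]; exact H.card_syl R)).symm⟩

/-- a normal subgroup of order divisible by 5 is everything -/
theorem HQ.big (H : HQ a) {N : Subgroup Q} [hN : N.Normal] (h5 : 5 ∣ Nat.card N) : N = ⊤ := by
  have : Fact (Nat.Prime 5) := ⟨by norm_num⟩
  rw [eq_top_iff, ← H.gen, Subgroup.closure_le]
  intro x hx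
  rw [Set.mem_ofPred_eq] at hx
  by_cases hx1 : x = 1
  · rw [hx1]; exact N.one_mem
  obtain ⟨P, hP⟩ := H.sylow (orderOf_eq_prime hx hx1)
  obtain ⟨y, hy⟩ := exists_prime_orderOf_dvd_card' 5 h5
  have hy2 : orderOf (y : Q) = 5 := by rw [Subgroup.orderOf_coe]; exact hy
  obtain ⟨R, hR⟩ := H.sylow hy2
  have hRN : (R : Subgroup Q) ≤ N := by
    rw [hR, Subgroup.zpowers_le]
    exact y.2
  obtain ⟨g, hg⟩ := MulAction.exists_smul_eq Q R P
  have hPN : (P : Subgroup Q) ≤ N := by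
    rw [← hg, Sylow.coe_subgroup_smul]
    rintro _ ⟨z, hz, rfl⟩
    exact hN.conj_mem _ (hRN hz) g
  exact hPN (hP ▸ mem_zpowers x)

/-- simplicity -/
theorem HQ.simple (H : HQ a) (h : ∀ N : Subgroup Q, N.Normal → ¬ 5 ∣ Nat.card N → N = ⊥) : IsSimpleGroup Q where
  exists_pair_ne := ⟨a, 1, H.ne⟩
  eq_bot_or_eq_top_of_normal := by
    intro N hN
    by_cases h5 : 5 ∣ Nat.card N
    · right; exact H.big h5
    · left; exact h N hN h5

/-- the order of a simple group in the situation -/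
theorem HQ.count (H : HQ a) [IsSimpleGroup Q] : Nat.card Q = 5 ∨ ∃ m, Nat.card Q = 10 * m ∧ m % 5 = 1 := by
  have : Fact (Nat.Prime 5) := ⟨by norm_num⟩
  obtain ⟨P, hP⟩ := H.sylow H.ord
  have haP : a ∈ (P : Subgroup Q) := by rw [hP]; exact mem_zpowers a
  have hcP : ∀ x ∈ (P : Subgroup Q), x * a * x⁻¹ = a := by
    intro x hx
    rw [hP] at hx
    obtain ⟨k, rfl⟩ := hx
    change a ^ k * a * (a ^ k)⁻¹ = a
    group
  have hcard : Nat.card (P : Subgroup Q) = 5 := by rw [hP, Nat.card_zpowers, H.ord]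
  have hnorm : ∀ x ∈ normalizer (P : Set Q), x * a * x⁻¹ = a ∨ x * a * x⁻¹ = a⁻¹ := by
    intro x hx
    have h1 : x * a * x⁻¹ ∈ (P : Subgroup Q) := (Subgroup.mem_normalizer_iff.mp hx a).mp haP
    rw [hP, ← (isOfFinOrder_of_finite a).mem_powers_iff_mem_zpowers] at h1
    obtain ⟨k, hk⟩ := h1
    exact H.norm x k hk.symm
  have hinv : a ≠ a⁻¹ := by
    intro h
    have h2 : a ^ 2 = 1 := by rw [pow_two]; nth_rw 2 [h]; exact mul_inv_cancel a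
    have := orderOf_dvd_of_pow_eq_one h2
    rw [H.ord] at this
    omega
  by_cases hall : ∀ x ∈ normalizer (P : Set Q), x * a * x⁻¹ = a
  · left
    have hle : normalizer (P : Set Q) ≤ centralizer (P : Set Q) := by
      intro x hx
      rw [Subgroup.mem_centralizer_iff]
      intro y hy
      have h1 := hall x hx
      have hy2 : y ∈ (P : Subgroup Q) := hy
      rw [hP] at hy2
      obtain ⟨k, rfl⟩ := hy2
      change a ^ k * x = x * a ^ k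
      have : Commute x a := by
        rw [mul_inv_eq_iff_eq_mul] at h1
        exact h1
      exact (this.zpow_right k).eq.symm
    have hc := MonoidHom.ker_transferSylow_isComplement' P hle
    have hn : (MonoidHom.transferSylow P hle).ker.Normal := inferInstance
    rcases hn.eq_bot_or_eq_top with h | h
    · have h1 := hc.card_mul_card
      rw [h] at h1
      rw [← h1, Subgroup.card_bot, one_mul, hcard]
    · exfalso
      have h1 := hc.disjoint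
      rw [h, top_disjoint] at h1
      have h2 : Nat.card (P : Subgroup Q) = 1 := by rw [h1, Subgroup.card_bot]
      omega
  · right
    push Not at hall
    obtain ⟨y, hy, hya⟩ := hall
    have hya' := (hnorm y hy).resolve_left hya
    have hmem : ∀ x : Q, x * a * x⁻¹ = a → x ∈ (P : Subgroup Q) := by
      intro x hx
      rw [hP]
      apply H.cent
      rw [mul_inv_eq_iff_eq_mul] at hx
      exact hx
    have hrel : (P : Subgroup Q).relIndex (normalizer (P : Set Q)) = 2 := by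
      rw [relIndex_eq_two_iff]
      refine ⟨y, hy, ?_⟩
      intro b hb
      rcases hnorm b hb with hb1 | hb1
      · right
        refine ⟨hmem b hb1, ?_⟩
        intro hby
        apply hya
        have := hcP _ ((P : Subgroup Q).mul_mem ((P : Subgroup Q).inv_mem (hmem b hb1)) hby)
        rw [inv_mul_cancel_left] at this
        exact this
      · left
        refine ⟨?_, ?_⟩
        · apply hmem
          have hb2 : b * a⁻¹ * b⁻¹ = a := by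
            have := congrArg (·⁻¹) hb1
            simp only [mul_inv_rev, inv_inv] at this
            rw [mul_assoc]; exact this
          calc b * y * a * (b * y)⁻¹ = b * (y * a * y⁻¹) * b⁻¹ := by group
            _ = a := by rw [hya', hb2]
        · intro hbP
          exact hinv ((hcP b hbP).symm.trans hb1)
    refine ⟨Nat.card (Sylow 5 Q), ?_, ?_⟩
    · have h1 := (P : Subgroup Q).card_mul_index
      have h2 : (P : Subgroup Q).index = 2 * (normalizer (P : Set Q)).index := by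
        rw [← relIndex_mul_index (H := (P : Subgroup Q)) (K := normalizer (P : Set Q)) le_normalizer, hrel]
      rw [← h1, hcard, h2, ← P.card_eq_index_normalizer]
      ring
    · exact card_sylow_modEq_one 5 Q

theorem arith2 : ∀ n ∈ Nat.divisors 2880, n % 13 = 1 → n = 1 ∨ n = 40 ∨ n = 144 := by
  (rewrite [Cfsg.Agent.Lib.DivFast.divisors_eq]; decide +kernel)

theorem HQ.no_thirteen (H : HQ a) (hd : Nat.card Q ∣ 37440)
    (C2 : ∀ z c : Q, orderOf z = 13 → c * z = z * c → c ^ 2 = 1 → c = 1)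
    (C3 : ∀ z c : Q, orderOf z = 13 → c * z = z * c → c ^ 3 = 1 → c = 1)
    (N3 : ∀ z x : Q, orderOf z = 13 → x * z * x⁻¹ ≠ z ^ 3)
    {m : ℕ} (hm : Nat.card Q = 10 * m) (hm5 : m % 5 = 1) : ¬ 13 ∣ Nat.card Q := by
  intro h13
  have : Fact (Nat.Prime 13) := ⟨by norm_num⟩
  obtain ⟨z, hz⟩ := exists_prime_orderOf_dvd_card' 13 h13
  have hpz : IsPGroup 13 (zpowers z) := IsPGroup.of_card (n := 1) (by rw [Nat.card_zpowers, hz, pow_one])
  obtain ⟨R, hR⟩ := hpz.exists_le_sylow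
  have hRz : (R : Subgroup Q) = zpowers z := by
    refine (Subgroup.eq_of_le_of_card_ge hR ?_).symm
    rw [Nat.card_zpowers, hz]
    obtain ⟨i, hi⟩ := IsPGroup.iff_card.mp R.2
    have h1 : Nat.card R ∣ 37440 := (Subgroup.card_subgroup_dvd_card _).trans hd
    rw [hi] at h1 ⊢
    have : i < 2 := by
      by_contra hlt
      push Not at hlt
      have := (pow_dvd_pow 13 hlt).trans h1
      omega
    interval_cases i <;> norm_num
  -- the centralizer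
  have hC13 : Nat.card (centralizer (zpowers z : Set Q)) = 13 := by
    have hcz : ∀ c ∈ centralizer (zpowers z : Set Q), c * z = z * c := by
      intro c hc
      exact ((Subgroup.mem_centralizer_iff.mp hc) z (mem_zpowers z)).symm
    have hdvd : Nat.card (centralizer (zpowers z : Set Q)) ∣ 2880 * 13 :=
      (Subgroup.card_subgroup_dvd_card _).trans hd
    have hge : 13 ∣ Nat.card (centralizer (zpowers z : Set Q)) := by
      have hle : zpowers z ≤ centralizer (zpowers z : Set Q) := by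
        intro y hy
        rw [Subgroup.mem_centralizer_iff]
        rintro _ ⟨j, rfl⟩
        obtain ⟨i, rfl⟩ := hy
        change z ^ j * z ^ i = z ^ i * z ^ j
        rw [← zpow_add, ← zpow_add, add_comm]
      have := Subgroup.card_dvd_of_le hle
      rw [Nat.card_zpowers, hz] at this
      exact this
    have hcop : Nat.Coprime (Nat.card (centralizer (zpowers z : Set Q))) 2880 := by
      rw [Nat.coprime_comm]
      apply Nat.Coprime.symm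
      apply Nat.Coprime.symm
      rw [show (2880 : ℕ) = 2 ^ 6 * 3 ^ 2 * 5 by norm_num]
      refine Nat.Coprime.mul_left (Nat.Coprime.mul_left (Nat.Coprime.pow_left _ ?_) (Nat.Coprime.pow_left _ ?_)) ?_
      · rw [Nat.Prime.coprime_iff_not_dvd (by norm_num)]
        intro h
        have : Fact (Nat.Prime 2) := ⟨by norm_num⟩
        obtain ⟨c, hc⟩ := exists_prime_orderOf_dvd_card' 2 h
        have h1 := C2 z c hz (hcz c c.2) (by
          rw [← hc, ← Subgroup.coe_pow, pow_orderOf_eq_one]; rfl)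
        rw [OneMemClass.coe_eq_one] at h1
        rw [h1, orderOf_one] at hc
        omega
      · rw [Nat.Prime.coprime_iff_not_dvd (by norm_num)]
        intro h
        have : Fact (Nat.Prime 3) := ⟨by norm_num⟩
        obtain ⟨c, hc⟩ := exists_prime_orderOf_dvd_card' 3 h
        have h1 := C3 z c hz (hcz c c.2) (by
          rw [← hc, ← Subgroup.coe_pow, pow_orderOf_eq_one]; rfl)
        rw [OneMemClass.coe_eq_one] at h1
        rw [h1, orderOf_one] at hc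
        omega
      · rw [Nat.Prime.coprime_iff_not_dvd (by norm_num)]
        intro h
        have : Fact (Nat.Prime 5) := ⟨by norm_num⟩
        obtain ⟨c, hc⟩ := exists_prime_orderOf_dvd_card' 5 h
        have hc' : orderOf (c : Q) = 5 := by rw [Subgroup.orderOf_coe]; exact hc
        obtain ⟨P, hP⟩ := H.sylow H.ord
        obtain ⟨P', hP'⟩ := H.sylow hc'
        obtain ⟨g, hg⟩ := MulAction.exists_smul_eq Q P' P
        have h1 : g * (c : Q) * g⁻¹ ∈ zpowers a := by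
          rw [← hP, ← hg, Sylow.coe_subgroup_smul]
          exact ⟨c, by rw [hP']; exact mem_zpowers _, rfl⟩
        rw [← (isOfFinOrder_of_finite a).mem_powers_iff_mem_zpowers] at h1
        obtain ⟨k, hk⟩ := h1
        have hk' : a ^ k = g * (c : Q) * g⁻¹ := hk
        have hk1 : a ^ k ≠ 1 := by
          rw [hk']
          intro h2
          have h3 : (c : Q) = 1 := by
            calc (c : Q) = g⁻¹ * (g * c * g⁻¹) * g := by group
              _ = 1 := by rw [h2]; group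
          rw [h3, orderOf_one] at hc'
          omega
        have h4 : (g * z * g⁻¹) * a ^ k = a ^ k * (g * z * g⁻¹) := by
          rw [hk']
          calc (g * z * g⁻¹) * (g * (c : Q) * g⁻¹) = g * (z * c) * g⁻¹ := by group
            _ = g * (c * z) * g⁻¹ := by rw [hcz c c.2]
            _ = (g * (c : Q) * g⁻¹) * (g * z * g⁻¹) := by group
        have h5 := Subgroup.orderOf_dvd_natCard _ (H.cent_pow hk1 h4)
        rw [Nat.card_zpowers, H.ord] at h5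
        have h6 : orderOf (g * z * g⁻¹) = 13 := by
          rw [← hz]
          exact orderOf_injective (MulAut.conj g).toMonoidHom (MulAut.conj g).injective z
        rw [h6] at h5
        omega
    have hdvd13 : Nat.card (centralizer (zpowers z : Set Q)) ∣ 13 := hcop.dvd_of_dvd_mul_left hdvd
    exact Nat.dvd_antisymm hdvd13 hge
  -- the normalizer
  obtain ⟨k, hk124, hk⟩ : ∃ k, k ∈ ({1, 2, 4} : Finset ℕ) ∧
      Nat.card (normalizer (zpowers z : Set Q)) = 13 * k := by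
    set φ := (zpowers z).normalizerMonoidHom with hφ
    have h1 : Nat.card φ.ker = 13 := by
      rw [hφ, Subgroup.normalizerMonoidHom_ker]
      rw [← hC13]
      exact Nat.card_congr (Subgroup.subgroupOfEquivOfLe (Subgroup.centralizer_le_normalizer _)).toEquiv
    have h2 : Nat.card (normalizer (zpowers z : Set Q)) = 13 * Nat.card φ.range := by
      rw [← h1]
      have := φ.ker.card_mul_index
      rw [Subgroup.index_ker] at this
      exact this.symm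
    have h3 : Nat.card φ.range ∣ 12 := by
      refine (Subgroup.card_subgroup_dvd_card _).trans ?_
      rw [IsCyclic.card_mulAut, Nat.card_zpowers, hz]
      decide
    have h4 : ¬ 3 ∣ Nat.card φ.range := by
      intro h
      have : Fact (Nat.Prime 3) := ⟨by norm_num⟩
      obtain ⟨⟨_, x, rfl⟩, hy⟩ := exists_prime_orderOf_dvd_card' 3 h
      rw [← Subgroup.orderOf_coe] at hy
      have hx3 : φ x ^ 3 = 1 := by rw [← hy]; exact pow_orderOf_eq_one _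
      have hx1 : φ x ≠ 1 := by
        intro h1
        have hy' : orderOf (φ x) = 3 := hy
        rw [h1, orderOf_one] at hy'
        omega
      have hval : ∀ (y : normalizer (zpowers z : Set Q)) (t : zpowers z),
          ((φ y t : zpowers z) : Q) = y * t * (y : Q)⁻¹ := fun y t => rfl
      have hmem := (φ x ⟨z, mem_zpowers z⟩).2
      rw [hval] at hmem
      obtain ⟨i, hi13, hi⟩ : ∃ i, i < 13 ∧ z ^ i = (x : Q) * z * (x : Q)⁻¹ := by
        obtain ⟨i, hi⟩ := (isOfFinOrder_of_finite z).mem_powers_iff_mem_zpowers.mpr hmem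
        refine ⟨i % 13, Nat.mod_lt _ (by norm_num), ?_⟩
        rw [← hi, ← hz, pow_mod_orderOf]
      have hpow : ∀ j : ℕ, (x : Q) * z ^ j * (x : Q)⁻¹ = z ^ (i * j) := by
        intro j
        rw [pow_mul, hi, conj_pow]
      have hx3' : z ^ (i * i * i) = z ^ 1 := by
        have h3 : ((φ (x ^ 3) ⟨z, mem_zpowers z⟩ : zpowers z) : Q) = z := by
          rw [map_pow, hx3]; rfl
        rw [hval] at h3
        rw [pow_one]
        calc z ^ (i * i * i) = z ^ (i * (i * i)) := by rw [mul_assoc]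
          _ = (x : Q) * z ^ (i * i) * (x : Q)⁻¹ := (hpow _).symm
          _ = (x : Q) * ((x : Q) * z ^ i * (x : Q)⁻¹) * (x : Q)⁻¹ := by rw [hpow i]
          _ = (x : Q) * ((x : Q) * ((x : Q) * z * (x : Q)⁻¹) * (x : Q)⁻¹) * (x : Q)⁻¹ := by rw [← hi]
          _ = ((x ^ 3 : normalizer (zpowers z : Set Q)) : Q) * z *
              ((x ^ 3 : normalizer (zpowers z : Set Q)) : Q)⁻¹ := by
              rw [Subgroup.coe_pow, show (x : Q) ^ 3 = x * x * x by rw [pow_succ, pow_succ, pow_one], mul_inv_rev,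
                mul_inv_rev]
              simp only [mul_assoc]
          _ = z := h3
      rw [pow_eq_pow_iff_modEq, hz] at hx3'
      have hi39 : i = 1 ∨ i = 3 ∨ i = 9 := by
        have key : ∀ i < 13, i * i * i % 13 = 1 → i = 1 ∨ i = 3 ∨ i = 9 := by decide
        exact key i hi13 hx3'
      rcases hi39 with rfl | rfl | rfl
      · apply hx1
        ext t
        rw [hval]
        obtain ⟨t, j, rfl⟩ := t
        rw [pow_one] at hi
        change (x : Q) * z ^ j * (x : Q)⁻¹ = z ^ j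
        rw [← conj_zpow, ← hi]
      · exact N3 z x hz hi.symm
      · refine N3 z ((x : Q) * x) hz ?_
        calc (x : Q) * x * z * ((x : Q) * x)⁻¹ = x * (x * z * (x : Q)⁻¹) * (x : Q)⁻¹ := by group
          _ = z ^ (9 * 9) := by rw [← hi, hpow]
          _ = z ^ 3 := by
            rw [pow_eq_pow_iff_modEq, hz]; decide
    have h5 : Nat.card φ.range ∈ Nat.divisors 12 := Nat.mem_divisors.mpr ⟨h3, by norm_num⟩
    have h6 : ∀ d ∈ Nat.divisors 12, ¬ 3 ∣ d → d ∈ ({1, 2, 4} : Finset ℕ) := by decide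
    exact ⟨_, h6 _ h5 h4, h2⟩
  have h1 := (normalizer (zpowers z : Set Q)).card_mul_index
  have h2 : (normalizer (zpowers z : Set Q)).index = Nat.card (Sylow 13 Q) := by
    rw [R.card_eq_index_normalizer, ← hRz]
    rfl
  have h3 := card_sylow_modEq_one 13 Q
  rw [← h2] at h3
  set n := (normalizer (zpowers z : Set Q)).index with hn
  rw [hk] at h1
  have h4 : n ∣ 2880 := by
    have h5 : 13 * k * n ∣ 37440 := by rw [h1]; exact hd
    have h6 : 13 * (k * n) ∣ 13 * 2880 := by rw [← mul_assoc]; exact h5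
    exact (Dvd.intro_left k rfl).trans (Nat.dvd_of_mul_dvd_mul_left (by norm_num) h6)
  rw [hm] at h1
  have h5 := arith2 n (Nat.mem_divisors.mpr ⟨h4, by norm_num⟩) h3
  simp only [Finset.mem_insert, Finset.mem_singleton] at hk124
  rcases h5 with h5 | h5 | h5 <;> rcases hk124 with h6 | h6 | h6 <;> rw [h5, h6] at h1 <;> omega

theorem arith3 : ∀ m ∈ Nat.divisors 3744, m % 5 = 1 → m = 1 ∨ m = 6 ∨ m = 16 ∨ m = 26 ∨ m = 36 ∨ m = 96 ∨
    13 ∣ 10 * m := by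
  (rewrite [Cfsg.Agent.Lib.DivFast.divisors_eq]; decide +kernel)

/-- the orders of the simple groups in the situation -/
theorem HQ.orders (H : HQ a) [IsSimpleGroup Q] (hd : Nat.card Q ∣ 37440) (h13 : ∀ m, Nat.card Q = 10 * m → m % 5 = 1 →
    1092 < Nat.card Q → ¬ 13 ∣ Nat.card Q) :
    Nat.card Q = 5 ∨ Nat.card Q = 60 ∨ Nat.card Q = 360 := by
  rcases H.count with h | ⟨m, hm, hm5⟩
  · left; exact h
  right
  have hmd : m ∣ 3744 := by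
    have h6 : 10 * m ∣ 10 * 3744 := by rw [← hm]; exact hd
    exact Nat.dvd_of_mul_dvd_mul_left (by norm_num) h6
  have hnc : ¬ IsMulCommutative Q := by
    intro hc
    have h1 : zpowers a = ⊤ := by
      rw [eq_top_iff]
      intro x _
      exact H.cent x (hc.is_comm.comm x a)
    have h2 : Nat.card Q = 5 := by
      rw [← Subgroup.card_top (G := Q), ← h1, Nat.card_zpowers, H.ord]
    omega
  by_cases hle : Nat.card Q ≤ 1092
  · rcases Cfsg.Agent.S0496.result hnc hle with h | h | h | h | h | h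
    · left; exact h
    · exfalso; rw [h] at hd; omega
    · right; exact h
    · exfalso; rw [h] at hd; omega
    · exfalso; rw [h] at hd; omega
    · exfalso; rw [h] at hd; omega
  · exfalso
    push Not at hle
    have h1 := h13 m hm hm5 hle
    rw [hm] at h1
    rcases arith3 m (Nat.mem_divisors.mpr ⟨hmd, by norm_num⟩) hm5 with h | h | h | h | h | h | h
    · omega
    · omega
    · omega
    · omega
    · omega
    · omega
    · exact h1 h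

/-- the normal subgroup of order 16 is elementary abelian -/
theorem HQ.elem (H : HQ a) (hd : Nat.card Q ∣ 37440) {N : Subgroup Q} [hN : N.Normal] (h16 : Nat.card N = 16) :
    (∀ x ∈ N, ∀ y ∈ N, x * y = y * x) ∧ ∀ x ∈ N, x ^ 2 = 1 := by
  have : Fact (Nat.Prime 2) := ⟨by norm_num⟩
  have hp : IsPGroup 2 N := IsPGroup.of_card (n := 4) (by rw [h16]; norm_num)
  have hnt : Nontrivial N := by
    rw [← Finite.one_lt_card_iff_nontrivial, h16]; norm_num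
  have hcomm : ∀ x ∈ N, ∀ y ∈ N, x * y = y * x := by
    have h1 : ((center N).map N.subtype).Normal := inferInstance
    have h2 : Nat.card ((center N).map N.subtype) = Nat.card (center N) :=
      Subgroup.card_map_of_injective (Subgroup.subtype_injective N)
    have h3 : ¬ 5 ∣ Nat.card ((center N).map N.subtype) := by
      intro h
      have h4 := h.trans (h2 ▸ Subgroup.card_subgroup_dvd_card (center N))
      rw [h16] at h4
      omega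
    have h5 : Nontrivial (center N) := hp.center_nontrivial
    have h6 : 1 < Nat.card (center N) := Finite.one_lt_card_iff_nontrivial.mpr h5
    rcases H.small hd h3 with h7 | h7
    · omega
    · have h8 : center N = ⊤ := Subgroup.eq_top_of_card_eq _ (by rw [← h2, h7, h16])
      intro x hx y hy
      have h9 : (⟨x, hx⟩ : N) ∈ center N := by rw [h8]; exact Subgroup.mem_top _
      have := (Subgroup.mem_center_iff.mp h9) ⟨y, hy⟩
      exact (congrArg Subtype.val this).symm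
  refine ⟨hcomm, ?_⟩
  let E : Subgroup Q :=
    { carrier := {x | x ∈ N ∧ x ^ 2 = 1}
      one_mem' := ⟨N.one_mem, one_pow 2⟩
      mul_mem' := by
        rintro x y ⟨hx, hx2⟩ ⟨hy, hy2⟩
        refine ⟨N.mul_mem hx hy, ?_⟩
        have : Commute x y := hcomm x hx y hy
        rw [this.mul_pow, hx2, hy2, one_mul]
      inv_mem' := by
        rintro x ⟨hx, hx2⟩
        exact ⟨N.inv_mem hx, by rw [inv_pow, hx2, inv_one]⟩ }
  have hE : E.Normal := ⟨by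
    rintro x ⟨hx, hx2⟩ g
    exact ⟨hN.conj_mem x hx g, by rw [conj_pow, hx2, mul_one, mul_inv_cancel]⟩⟩
  have hEN : E ≤ N := fun x hx => hx.1
  have hE5 : ¬ 5 ∣ Nat.card E := by
    intro h
    have h4 := h.trans (Subgroup.card_dvd_of_le hEN)
    rw [h16] at h4
    omega
  rcases H.small hd hE5 with h | h
  · exfalso
    obtain ⟨y, hy⟩ := exists_prime_orderOf_dvd_card' (G := N) 2 (by rw [h16]; norm_num)
    have h1 : (y : Q) ∈ E := ⟨y.2, by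
      rw [← Subgroup.coe_pow, ← hy, pow_orderOf_eq_one]; rfl⟩
    rw [Subgroup.card_eq_one.mp h, Subgroup.mem_bot, OneMemClass.coe_eq_one] at h1
    rw [h1, orderOf_one] at hy
    omega
  · have h1 : E = N := Subgroup.eq_of_le_of_card_ge hEN (by rw [h, h16])
    intro x hx
    rw [← h1] at hx
    exact hx.2

/-- **the abstract classification** -/
theorem HQ.main (H : HQ a) (hd : Nat.card Q ∣ 37440) (hne : Nat.card Q ≠ 5)
    (C2 : ∀ z c : Q, orderOf z = 13 → c * z = z * c → c ^ 2 = 1 → c = 1)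
    (C3 : ∀ z c : Q, orderOf z = 13 → c * z = z * c → c ^ 3 = 1 → c = 1)
    (N3 : ∀ z x : Q, orderOf z = 13 → x * z * x⁻¹ ≠ z ^ 3) :
    (∃ N : Subgroup Q, N.Normal ∧ Nat.card N = 16 ∧ (∀ x ∈ N, ∀ y ∈ N, x * y = y * x) ∧ (∀ x ∈ N, x ^ 2 = 1) ∧
      (Nat.card Q = 80 ∨ Nat.card Q = 960)) ∨ Nat.card Q = 60 ∨ Nat.card Q = 360 := by
  by_cases hN : ∃ N : Subgroup Q, N.Normal ∧ Nat.card N = 16
  · left
    obtain ⟨N, hN, h16⟩ := hN
    obtain ⟨h1, h2⟩ := H.elem hd h16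
    refine ⟨N, hN, h16, h1, h2, ?_⟩
    have h5 : ¬ 5 ∣ Nat.card N := by rw [h16]; norm_num
    have H' := H.quot N h5
    have hcard := N.card_eq_card_quotient_mul_card_subgroup
    rw [h16] at hcard
    have hd' : Nat.card (Q ⧸ N) ∣ 2340 := by
      rw [hcard] at hd
      exact Nat.dvd_of_mul_dvd_mul_right (k := 16) (by norm_num) (by norm_num; exact hd)
    have hd'' : Nat.card (Q ⧸ N) ∣ 37440 := hd'.trans (by norm_num)
    have hs : IsSimpleGroup (Q ⧸ N) := H'.simple (by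
      intro M hM hM5
      rcases H'.small hd'' hM5 with h | h
      · exact Subgroup.card_eq_one.mp h
      · exfalso
        have := (Subgroup.card_subgroup_dvd_card M).trans hd'
        rw [h] at this
        omega)
    rcases H'.orders hd'' (by
      intro m hm hm5 hlt h13
      rw [hm] at hd' hlt
      have hmd : m ∣ 234 := by
        exact Nat.dvd_of_mul_dvd_mul_left (k := 10) (by norm_num) (by norm_num; exact hd')
      have hm' : m ∈ Nat.divisors 234 := Nat.mem_divisors.mpr ⟨hmd, by norm_num⟩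
      have key : ∀ m ∈ Nat.divisors 234, m % 5 = 1 → ¬ 1092 < 10 * m := by decide +kernel
      exact key m hm' hm5 hlt) with h | h | h
    · left; rw [hcard, h]
    · right; rw [hcard, h]
    · exfalso
      rw [h] at hd'
      omega
  · right
    have hs : IsSimpleGroup Q := H.simple (by
      intro M hM hM5
      rcases H.small hd hM5 with h | h
      · exact Subgroup.card_eq_one.mp h
      · exact absurd ⟨M, hM, h⟩ hN)
    rcases H.orders hd (fun m hm hm5 _ => H.no_thirteen hd C2 C3 N3 hm hm5) with h | h | h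
    · exact absurd h hne
    · left; exact h
    · right; exact h

end Cfsg.Agent.H689.Q5
end

-- part: H689/Q5/Thirteen
section
/-!
# Task 5260 [Q5-M3] (S5211, block q = 5): elements of order 13 in `GL₄(5)` (helper689)
-/

set_option autoImplicit false

namespace Cfsg.Agent.H689.Q5

open Matrix Cfsg.Agent.H24.Q5

/-- fixed points of a map of prime order -/
theorem card_mod_p {α : Type*} [Finite α] (p : ℕ) [Fact p.Prime] (f : α → α) (hf : ∀ x, f^[p] x = x) :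
    Nat.card α % p = Nat.card {x // f x = x} % p := by
  classical
  have := Fintype.ofFinite α
  let F : Function.End α := f
  have hF : ∀ n : ℕ, F ^ n = f^[n] := by
    intro n
    induction n with
    | zero => rfl
    | succ n ih =>
      rw [pow_succ, ih]
      rfl
  have h : F ^ p ^ 1 = 1 := by
    rw [pow_one, hF]
    funext x
    exact hf x
  have := Equiv.Perm.card_fixedPoints_modEq (p := p) (n := 1) h
  rw [Nat.card_eq_fintype_card, Nat.card_eq_fintype_card]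
  rw [Nat.ModEq] at this
  rw [this]
  congr 1

abbrev V5 := Fin 4 → ZMod 5

theorem card_sub (W : Submodule (ZMod 5) V5) : ∃ d ≤ 4, Nat.card W = 5 ^ d ∧ (d = 4 → W = ⊤) := by
  classical
  have : Fact (Nat.Prime 5) := ⟨by norm_num⟩
  refine ⟨Module.finrank (ZMod 5) W, ?_, ?_, ?_⟩
  · have := Submodule.finrank_le W
    simpa using this
  · rw [Module.natCard_eq_pow_finrank (K := ZMod 5) (V := W), Nat.card_zmod]
  · intro h
    apply Submodule.eq_top_of_finrank_eq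
    rw [h]
    simp

theorem iter {z : M5} (W : Submodule (ZMod 5) V5) (hW : ∀ v ∈ W, z *ᵥ v ∈ W) (n : ℕ) (v : W) :
    (((fun v : W => (⟨z *ᵥ v, hW v v.2⟩ : W))^[n] v : W) : V5) = (z ^ n) *ᵥ (v : V5) := by
  induction n generalizing v with
  | zero => simp
  | succ n ih =>
    rw [Function.iterate_succ_apply, ih]
    rw [Matrix.mulVec_mulVec, ← pow_succ]

theorem fixed_zero {z : M5} (hz : z ^ 13 = 1) (hz1 : z ≠ 1) (v : V5) (hv : z *ᵥ v = v) : v = 0 := by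
  have : Fact (Nat.Prime 13) := ⟨by norm_num⟩
  let W : Submodule (ZMod 5) V5 := LinearMap.ker (Matrix.mulVecLin (z - 1))
  have hWm : ∀ w, w ∈ W ↔ z *ᵥ w = w := by
    intro w
    rw [LinearMap.mem_ker, Matrix.mulVecLin_apply, Matrix.sub_mulVec, Matrix.one_mulVec, sub_eq_zero]
  obtain ⟨d, hd4, hd, hdt⟩ := card_sub W
  have h1 := card_mod_p 13 (fun v : (⊤ : Submodule (ZMod 5) V5) => (⟨z *ᵥ v, Submodule.mem_top⟩ : (⊤ : Submodule (ZMod 5) V5))) (by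
    intro x
    apply Subtype.ext
    have := iter (z := z) ⊤ (fun _ _ => Submodule.mem_top) 13 x
    rw [this, hz, Matrix.one_mulVec])
  have h2 : Nat.card {x : (⊤ : Submodule (ZMod 5) V5) // (⟨z *ᵥ x, Submodule.mem_top⟩ : (⊤ : Submodule (ZMod 5) V5)) = x} = Nat.card W := by
    refine Nat.card_congr ⟨fun x => ⟨x.1.1, (hWm _).mpr (congrArg Subtype.val x.2)⟩,
      fun w => ⟨⟨w.1, Submodule.mem_top⟩, Subtype.ext ((hWm _).mp w.2)⟩, ?_, ?_⟩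
    · intro x; rfl
    · intro x; rfl
  have h3 : Nat.card (⊤ : Submodule (ZMod 5) V5) = 625 := by
    rw [Nat.card_congr (Submodule.topEquiv (R := ZMod 5) (M := V5)).toEquiv]
    rw [Nat.card_eq_fintype_card, Fintype.card_fun, ZMod.card, Fintype.card_fin]
    norm_num
  rw [h2, h3, hd] at h1
  have h4 : d = 0 ∨ d = 4 := by
    interval_cases d <;> simp at h1 ⊢
  rcases h4 with rfl | rfl
  · have h5 : Nat.card W = 1 := by rw [hd]; norm_num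
    have h6 : (⟨v, (hWm v).mpr hv⟩ : W) = ⟨0, W.zero_mem⟩ :=
      ((Nat.card_eq_one_iff_unique.mp h5).1).elim _ _
    exact congrArg Subtype.val h6
  · exfalso
    apply hz1
    have h5 : W = ⊤ := hdt rfl
    have h6 : ∀ w, z *ᵥ w = w := fun w => (hWm w).mp (h5 ▸ Submodule.mem_top)
    apply Matrix.ext_of_mulVec_single
    intro i
    rw [h6, Matrix.one_mulVec]

/-- the centralizer of an element of order 13 is a domain -/
theorem dom {z : M5} (hz : z ^ 13 = 1) (hz1 : z ≠ 1) {x y : M5} (hx : x * z = z * x) (hxy : x * y = 0) :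
    x = 0 ∨ y = 0 := by
  have : Fact (Nat.Prime 13) := ⟨by norm_num⟩
  let W : Submodule (ZMod 5) V5 := LinearMap.ker (Matrix.mulVecLin x)
  have hWm : ∀ w, w ∈ W ↔ x *ᵥ w = 0 := by
    intro w
    rw [LinearMap.mem_ker, Matrix.mulVecLin_apply]
  have hWz : ∀ v ∈ W, z *ᵥ v ∈ W := by
    intro v hv
    rw [hWm] at hv ⊢
    rw [Matrix.mulVec_mulVec, hx, ← Matrix.mulVec_mulVec, hv, Matrix.mulVec_zero]
  obtain ⟨d, hd4, hd, hdt⟩ := card_sub W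
  have h1 := card_mod_p 13 (fun v : W => (⟨z *ᵥ v, hWz v v.2⟩ : W)) (by
    intro x
    apply Subtype.ext
    have := iter (z := z) W hWz 13 x
    rw [this, hz, Matrix.one_mulVec])
  have h2 : Nat.card {v : W // (⟨z *ᵥ v, hWz v v.2⟩ : W) = v} = 1 := by
    rw [Nat.card_eq_one_iff_unique]
    constructor
    · constructor
      rintro ⟨u, hu⟩ ⟨v, hv⟩
      apply Subtype.ext; apply Subtype.ext
      change (u : V5) = v
      rw [fixed_zero hz hz1 _ (congrArg Subtype.val hu), fixed_zero hz hz1 _ (congrArg Subtype.val hv)]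
    · exact ⟨⟨⟨0, W.zero_mem⟩, by apply Subtype.ext; simp⟩⟩
  rw [h2, hd] at h1
  have h4 : d = 0 ∨ d = 4 := by
    interval_cases d <;> simp at h1 ⊢
  rcases h4 with rfl | rfl
  · right
    have h5 : Nat.card W = 1 := by rw [hd]; norm_num
    have h6 : ∀ v, y *ᵥ v = 0 := by
      intro v
      have h7 : y *ᵥ v ∈ W := by
        rw [hWm, Matrix.mulVec_mulVec, hxy, Matrix.zero_mulVec]
      have h6 : (⟨_, h7⟩ : W) = ⟨0, W.zero_mem⟩ := ((Nat.card_eq_one_iff_unique.mp h5).1).elim _ _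
      exact congrArg Subtype.val h6
    apply Matrix.ext_of_mulVec_single
    intro i
    rw [h6, Matrix.zero_mulVec]
  · left
    have h5 : W = ⊤ := hdt rfl
    have h6 : ∀ w, x *ᵥ w = 0 := fun w => (hWm w).mp (h5 ▸ Submodule.mem_top)
    apply Matrix.ext_of_mulVec_single
    intro i
    rw [h6, Matrix.zero_mulVec]

instance fact_five : Fact (Nat.Prime 5) := ⟨by norm_num⟩

/-- the sum of the conjugates of `z` -/
def tau (z : M5) : M5 := z + z ^ 5 + z ^ 8 + z ^ 12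

theorem five0 : (5 : M5) = 0 := by
  have := CharP.cast_eq_zero M5 5
  exact_mod_cast this

theorem pow_mod13 {z : M5} (hz : z ^ 13 = 1) (n : ℕ) : z ^ n = z ^ (n % 13) := by
  conv_lhs => rw [← Nat.div_add_mod n 13, pow_add, pow_mul, hz, one_pow, one_mul]

theorem tau_comm (z : M5) : tau z * z = z * tau z := by
  simp only [tau, add_mul, mul_add, ← pow_succ, ← pow_succ']

theorem tau_frob {z : M5} (hz : z ^ 13 = 1) : tau z ^ 5 = tau z := by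
  have hc : ∀ i j : ℕ, Commute (z ^ i) (z ^ j) := fun i j => Commute.pow_pow_self z i j
  have hc1 : ∀ j : ℕ, Commute z (z ^ j) := fun j => Commute.self_pow z j
  have h1 : (z + z ^ 5) ^ 5 = z ^ 5 + (z ^ 5) ^ 5 := add_pow_char_of_commute 5 (hc1 5)
  have h2 : (z + z ^ 5 + z ^ 8) ^ 5 = (z + z ^ 5) ^ 5 + (z ^ 8) ^ 5 :=
    add_pow_char_of_commute 5 ((hc1 8).add_left (hc 5 8))
  have h3 : (z + z ^ 5 + z ^ 8 + z ^ 12) ^ 5 = (z + z ^ 5 + z ^ 8) ^ 5 + (z ^ 12) ^ 5 :=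
    add_pow_char_of_commute 5 (((hc1 12).add_left (hc 5 12)).add_left (hc 8 12))
  rw [tau, h3, h2, h1, ← pow_mul, ← pow_mul, ← pow_mul, pow_mod13 hz (5 * 5), pow_mod13 hz (8 * 5), pow_mod13 hz (12 * 5)]
  norm_num
  abel

/-- the sum of the conjugates is a scalar -/
theorem tau_scalar {z : M5} (hz : z ^ 13 = 1) (hz1 : z ≠ 1) : ∃ i : ℕ, i < 5 ∧ tau z = (i : M5) := by
  have hfac : tau z * ((tau z - 1) * ((tau z - 2) * ((tau z - 3) * (tau z - 4)))) = 0 := by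
    have h1 : tau z * ((tau z - 1) * ((tau z - 2) * ((tau z - 3) * (tau z - 4)))) =
        tau z ^ 5 - 10 * tau z ^ 4 + 35 * tau z ^ 3 - 50 * tau z ^ 2 + 24 * tau z := by noncomm_ring
    have h10 : (10 : M5) = 0 := by rw [show (10 : M5) = 2 * 5 by norm_num, five0, mul_zero]
    have h35 : (35 : M5) = 0 := by rw [show (35 : M5) = 7 * 5 by norm_num, five0, mul_zero]
    have h50 : (50 : M5) = 0 := by rw [show (50 : M5) = 10 * 5 by norm_num, five0, mul_zero]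
    have h24 : (24 : M5) = -1 := by
      rw [show (24 : M5) = 5 * 5 - 1 by norm_num, five0, mul_zero, zero_sub]
    rw [h1, tau_frob hz, h10, h35, h50, h24]
    simp
  have hcomm : ∀ k : M5, k * z = z * k → (tau z - k) * z = z * (tau z - k) := by
    intro k hk
    rw [sub_mul, mul_sub, tau_comm, hk]
  rcases dom hz hz1 (tau_comm z) hfac with h | h
  · exact ⟨0, by norm_num, by rw [h]; norm_num⟩
  rcases dom hz hz1 (hcomm 1 (by simp)) h with h | h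
  · exact ⟨1, by norm_num, by rw [sub_eq_zero.mp h]; norm_num⟩
  rcases dom hz hz1 (hcomm 2 (by noncomm_ring)) h with h | h
  · exact ⟨2, by norm_num, by rw [sub_eq_zero.mp h]; norm_num⟩
  rcases dom hz hz1 (hcomm 3 (by noncomm_ring)) h with h | h
  · exact ⟨3, by norm_num, by rw [sub_eq_zero.mp h]; norm_num⟩
  · exact ⟨4, by norm_num, by rw [sub_eq_zero.mp h]; norm_num⟩

theorem ne_of_pow {z : M5} (hz : z ^ 13 = 1) (hz1 : z ≠ 1) {k : ℕ} (hk : ¬ 13 ∣ k) : z ^ k ≠ 1 := by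
  intro h
  have h1 : orderOf z ∣ 13 := orderOf_dvd_of_pow_eq_one hz
  have h2 : orderOf z ∣ k := orderOf_dvd_of_pow_eq_one h
  rcases (Nat.dvd_prime (by norm_num)).mp h1 with h3 | h3
  · exact hz1 (orderOf_eq_one_iff.mp h3)
  · rw [h3] at h2; exact hk h2

theorem gen_sq0 {R : Type*} [Ring R] (z : R) : (z + z ^ 5 + z ^ 8 + z ^ 12) ^ 2 =
    z ^ 2 + z ^ 10 + z ^ 16 + z ^ 24 + 2 * (z ^ 6 + z ^ 9 + z ^ 13 + z ^ 13 + z ^ 17 + z ^ 20) := by
  noncomm_ring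

theorem gen_sq {R : Type*} [Ring R] (z : R) (hz : z ^ 13 = 1) : (z + z ^ 5 + z ^ 8 + z ^ 12) ^ 2 =
    (z ^ 3 + z ^ 2 + z ^ 11 + z ^ 10) + 2 * (z ^ 9 + z ^ 6 + z ^ 7 + z ^ 4) + 4 := by
  have h16 : z ^ 16 = z ^ 3 := by rw [show 16 = 13 + 3 by norm_num, pow_add, hz, one_mul]
  have h24 : z ^ 24 = z ^ 11 := by rw [show 24 = 13 + 11 by norm_num, pow_add, hz, one_mul]
  have h17 : z ^ 17 = z ^ 4 := by rw [show 17 = 13 + 4 by norm_num, pow_add, hz, one_mul]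
  have h20 : z ^ 20 = z ^ 7 := by rw [show 20 = 13 + 7 by norm_num, pow_add, hz, one_mul]
  rw [gen_sq0, h16, h24, h17, h20, hz, show (4 : R) = 1 + 1 + 1 + 1 by norm_num]
  noncomm_ring

/-- `z` is not conjugate to `z ^ 3` -/
theorem n3 {z x y : M5} (hz : z ^ 13 = 1) (hz1 : z ≠ 1) (hxy : x * y = 1) : x * z * y ≠ z ^ 3 := by
  intro h
  have hyx : y * x = 1 := mul_eq_one_comm.mp hxy
  have hpow : ∀ k : ℕ, x * z ^ k * y = z ^ (3 * k) := by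
    intro k
    induction k with
    | zero => rw [pow_zero, mul_one, hxy]
    | succ k ih =>
      calc x * z ^ (k + 1) * y = (x * z ^ k * y) * (x * z * y) := by
            rw [pow_succ]
            calc x * (z ^ k * z) * y = x * z ^ k * 1 * z * y := by noncomm_ring
              _ = x * z ^ k * (y * x) * z * y := by rw [hyx]
              _ = (x * z ^ k * y) * (x * z * y) := by noncomm_ring
        _ = z ^ (3 * (k + 1)) := by rw [ih, h, ← pow_add]; ring_nf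
  obtain ⟨i, hi5, hi⟩ := tau_scalar hz hz1
  have hcast : x * (i : M5) * y = (i : M5) := by
    rw [← Nat.cast_comm, mul_assoc, hxy, mul_one]
  have h1 : z ^ 3 + z ^ 2 + z ^ 11 + z ^ 10 = (i : M5) := by
    rw [← hcast, ← hi, tau]
    have := hpow 1
    rw [pow_one] at this
    rw [mul_add, mul_add, mul_add, add_mul, add_mul, add_mul, this, hpow, hpow, hpow, pow_mod13 hz (3 * 5),
      pow_mod13 hz (3 * 8), pow_mod13 hz (3 * 12)]
  have h2 : z ^ 9 + z ^ 6 + z ^ 7 + z ^ 4 = (i : M5) := by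
    rw [← hcast, ← h1]
    rw [mul_add, mul_add, mul_add, add_mul, add_mul, add_mul, hpow, hpow, hpow, hpow, pow_mod13 hz (3 * 11),
      pow_mod13 hz (3 * 10)]
  have h3 : (z - 1) * (1 + (z + z ^ 5 + z ^ 8 + z ^ 12) + (z ^ 3 + z ^ 2 + z ^ 11 + z ^ 10) +
      (z ^ 9 + z ^ 6 + z ^ 7 + z ^ 4)) = 0 := by
    have : (z - 1) * (1 + (z + z ^ 5 + z ^ 8 + z ^ 12) + (z ^ 3 + z ^ 2 + z ^ 11 + z ^ 10) +
      (z ^ 9 + z ^ 6 + z ^ 7 + z ^ 4)) = z ^ 13 - 1 := by noncomm_ring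
    rw [this, hz, sub_self]
  have h4 := (dom hz hz1 (by rw [sub_mul, mul_sub, one_mul, mul_one]) h3).resolve_left (sub_ne_zero.mpr hz1)
  have hsq2 : tau z ^ 2 = (z ^ 3 + z ^ 2 + z ^ 11 + z ^ 10) + 2 * (z ^ 9 + z ^ 6 + z ^ 7 + z ^ 4) + 4 :=
    gen_sq z hz
  rw [hi, h1, h2] at hsq2
  rw [← tau, hi, h1, h2] at h4
  have e1 : ((1 + i + i + i : ℕ) : M5) = ((0 : ℕ) : M5) := by push_cast; exact h4
  have e2 : ((i ^ 2 : ℕ) : M5) = ((i + 2 * i + 4 : ℕ) : M5) := by push_cast; exact hsq2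
  rw [CharP.cast_eq_iff_mod_eq M5 5] at e1 e2
  interval_cases i <;> simp at e1 e2

/-- the involutions of the centralizer of `z` -/
theorem c2 {z c : M5} (hz : z ^ 13 = 1) (hz1 : z ≠ 1) (hc : c * z = z * c) (hiso : cᵀ * Om * c = Om)
    (h : c ^ 2 = 1 ∨ c ^ 2 = -1) : c = 1 ∨ c = -1 := by
  have hcomm : ∀ k : M5, k * z = z * k → (c - k) * z = z * (c - k) := by
    intro k hk
    rw [sub_mul, mul_sub, hc, hk]
  rcases h with h | h
  · have h1 : (c - 1) * (c + 1) = 0 := by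
      have : (c - 1) * (c + 1) = c ^ 2 - 1 := by noncomm_ring
      rw [this, h, sub_self]
    rcases dom hz hz1 (hcomm 1 (by simp)) h1 with h2 | h2
    · left; exact sub_eq_zero.mp h2
    · right; exact eq_neg_of_add_eq_zero_left h2
  · exfalso
    have h1 : (c - 2) * (c + 2) = 0 := by
      have e4 : (2 : M5) * 2 = -1 + 5 := by norm_num
      have : (c - 2) * (c + 2) = c ^ 2 - 2 * 2 := by noncomm_ring
      rw [this, h, e4, five0]; simp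
    have h3 : c = 2 ∨ c = -2 := by
      rcases dom hz hz1 (hcomm 2 (by noncomm_ring)) h1 with h2 | h2
      · left; exact sub_eq_zero.mp h2
      · right; exact eq_neg_of_add_eq_zero_left h2
    rcases h3 with rfl | rfl
    · revert hiso; decide +kernel
    · revert hiso; decide +kernel

/-- generic identities -/
theorem gen_u {R : Type*} [Ring R] (c : R) (hc : c ^ 3 = 1) (h : 1 + c + c ^ 2 = 0) (h5 : (5 : R) = 0) :
    (c - c ^ 2) ^ 2 = 2 := by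
  have h1 : (c - c ^ 2) ^ 2 = c ^ 2 - 2 * c ^ 3 + c ^ 3 * c := by noncomm_ring
  have h2 : c ^ 2 = -1 - c := by
    calc c ^ 2 = (1 + c + c ^ 2) - 1 - c := by noncomm_ring
      _ = -1 - c := by rw [h]; noncomm_ring
  rw [h1, hc, h2]
  calc -1 - c - 2 * 1 + 1 * c = 2 - 5 := by
        rw [show (5 : R) = 1 + 1 + 1 + 1 + 1 by norm_num, show (2 : R) = 1 + 1 by norm_num]; noncomm_ring
    _ = 2 := by rw [h5, sub_zero]

theorem gen_w {R : Type*} [Ring R] (h5 : (5 : R) = 0) {z : R} (hz : z ^ 13 = 1) {i j : ℕ}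
    (hi : z + z ^ 5 + z ^ 8 + z ^ 12 = (i : R)) (hj : z ^ 9 + z ^ 6 + z ^ 7 + z ^ 4 = (j : R)) :
    (z + z ^ 12 - 3 * (i : R)) * (z + z ^ 12 - 3 * (i : R)) = ((4 * i ^ 2 + 4 * j : ℕ) : R) := by
  have h17 : z ^ 17 = z ^ 4 := by rw [show 17 = 13 + 4 by norm_num, pow_add, hz, one_mul]
  have h20 : z ^ 20 = z ^ 7 := by rw [show 20 = 13 + 7 by norm_num, pow_add, hz, one_mul]
  have h1 : (z + z ^ 12) * (z ^ 5 + z ^ 8) = (j : R) := by
    have : (z + z ^ 12) * (z ^ 5 + z ^ 8) = z ^ 6 + z ^ 9 + z ^ 17 + z ^ 20 := by noncomm_ring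
    rw [this, h17, h20, ← hj]
    abel
  have h2 : z ^ 5 + z ^ 8 = (i : R) - (z + z ^ 12) := by rw [← hi]; abel
  generalize hs : z + z ^ 12 = s at h1 h2 ⊢
  rw [h2, mul_sub] at h1
  have h3 : s * s = s * (i : R) - (j : R) := by rw [← h1]; abel
  have h4 : (i : R) * s = s * (i : R) := Nat.cast_comm i s
  calc (s - 3 * (i : R)) * (s - 3 * (i : R)) = s * s - 3 * (s * (i : R)) - 3 * ((i : R) * s) + 9 * ((i : R) * (i : R)) := by
        noncomm_ring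
    _ = 4 * (i : R) ^ 2 + 4 * (j : R) + 5 * ((i : R) * (i : R)) - 5 * (j : R) - 5 * (s * (i : R)) := by
        rw [h4, h3]; noncomm_ring
    _ = ((4 * i ^ 2 + 4 * j : ℕ) : R) := by
        rw [h5, zero_mul, zero_mul, zero_mul, add_zero, sub_zero, sub_zero]
        push_cast
        rfl

theorem gen_wu {R : Type*} [Ring R] {w u : R} (hc : w * u = u * w) (k : R) (hk : k * w = w * k) (hku : k * u = u * k) :
    (w - k * u) * (w + k * u) = w * w - k * k * (u ^ 2) := by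
  have h1 : (w - k * u) * (w + k * u) = w * w + w * k * u - k * (u * w) - k * (u * k) * u := by noncomm_ring
  rw [h1, ← hc, ← hk, ← hku]
  noncomm_ring

theorem adj_pow {x y : M5} (h : xᵀ * Om = Om * y) (k : ℕ) : (x ^ k)ᵀ * Om = Om * y ^ k := by
  induction k with
  | zero => simp
  | succ k ih =>
    rw [pow_succ, pow_succ', Matrix.transpose_mul, Matrix.mul_assoc, ih, ← Matrix.mul_assoc, h, Matrix.mul_assoc]

/-- the elements of order 3 of the centralizer of `z` -/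
theorem c3 {z c : M5} (hz : z ^ 13 = 1) (hz1 : z ≠ 1) (hc : c * z = z * c) (hisoz : zᵀ * Om * z = Om)
    (hiso : cᵀ * Om * c = Om) (h : c ^ 3 = 1) : c = 1 := by
  by_contra hc1
  have hcomm : ∀ k : M5, k * z = z * k → (c - k) * z = z * (c - k) := by
    intro k hk
    rw [sub_mul, mul_sub, hc, hk]
  have hz12 : z * z ^ 12 = 1 := by rw [← pow_succ', hz]
  have hcc : c * c ^ 2 = 1 := by rw [← pow_succ', h]
  have h1 : 1 + c + c ^ 2 = 0 := by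
    have h2 : (c - 1) * (1 + c + c ^ 2) = 0 := by
      have : (c - 1) * (1 + c + c ^ 2) = c ^ 3 - 1 := by noncomm_ring
      rw [this, h, sub_self]
    exact (dom hz hz1 (hcomm 1 (by simp)) h2).resolve_left (sub_ne_zero.mpr hc1)
  -- adjoints
  have adjz : zᵀ * Om = Om * z ^ 12 := by
    calc zᵀ * Om = zᵀ * Om * (z * z ^ 12) := by rw [hz12, mul_one]
      _ = (zᵀ * Om * z) * z ^ 12 := by noncomm_ring
      _ = Om * z ^ 12 := by rw [hisoz]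
  have adjc : cᵀ * Om = Om * c ^ 2 := by
    calc cᵀ * Om = cᵀ * Om * (c * c ^ 2) := by rw [hcc, mul_one]
      _ = (cᵀ * Om * c) * c ^ 2 := by noncomm_ring
      _ = Om * c ^ 2 := by rw [hiso]
  have adjz12 : (z ^ 12)ᵀ * Om = Om * z := by
    rw [adj_pow adjz 12, ← pow_mul, pow_mod13 hz (12 * 12)]
    norm_num
  have adjc2 : (c ^ 2)ᵀ * Om = Om * c := by
    rw [adj_pow adjc 2, ← pow_mul, show 2 * 2 = 3 + 1 by norm_num, pow_succ, h, one_mul]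
  obtain ⟨i, hi5, hi⟩ := tau_scalar hz hz1
  obtain ⟨j, hj5, hj⟩ := tau_scalar (z := z ^ 9) (by rw [← pow_mul, mul_comm, pow_mul, hz, one_pow])
    (ne_of_pow hz hz1 (by norm_num))
  have hj' : z ^ 9 + z ^ 6 + z ^ 7 + z ^ 4 = (j : M5) := by
    rw [← hj, tau, ← pow_mul, ← pow_mul, ← pow_mul, pow_mod13 hz (9 * 5), pow_mod13 hz (9 * 8), pow_mod13 hz (9 * 12)]
  have hw := gen_w five0 hz hi hj'
  have hu := gen_u c h h1 five0
  have hwadj : (z + z ^ 12 - 3 * (i : M5))ᵀ * Om = Om * (z + z ^ 12 - 3 * (i : M5)) := by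
    have h3i : ((3 : M5) * (i : M5))ᵀ = 3 * (i : M5) := by
      have : (3 : M5) * (i : M5) = ((3 * i : ℕ) : M5) := by push_cast; rfl
      rw [this, Matrix.transpose_natCast]
    have h3i' : (3 : M5) * (i : M5) * Om = Om * (3 * (i : M5)) := by
      have : (3 : M5) * (i : M5) = ((3 * i : ℕ) : M5) := by push_cast; rfl
      rw [this]; exact Nat.cast_comm _ _
    rw [Matrix.transpose_sub, Matrix.transpose_add, h3i, sub_mul, add_mul, adjz, adjz12, h3i', mul_sub, mul_add]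
    abel
  have huadj : (c - c ^ 2)ᵀ * Om = - (Om * (c - c ^ 2)) := by
    rw [Matrix.transpose_sub, sub_mul, adjc, adjc2, mul_sub]
    abel
  have hwz : (z + z ^ 12 - 3 * (i : M5)) * z = z * (z + z ^ 12 - 3 * (i : M5)) := by
    have : Commute (z + z ^ 12 - 3 * (i : M5)) z := by
      refine Commute.sub_left (Commute.add_left (Commute.refl z) (Commute.pow_self z 12)) ?_
      have : (3 : M5) * (i : M5) = ((3 * i : ℕ) : M5) := by push_cast; rfl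
      rw [this]; exact Nat.cast_commute _ _
    exact this.eq
  have hwu : (z + z ^ 12 - 3 * (i : M5)) * (c - c ^ 2) = (c - c ^ 2) * (z + z ^ 12 - 3 * (i : M5)) := by
    have hcz : Commute z c := hc.symm
    have : Commute (z + z ^ 12 - 3 * (i : M5)) (c - c ^ 2) := by
      have h3 : Commute (z + z ^ 12 - 3 * (i : M5)) c := by
        refine Commute.sub_left (Commute.add_left hcz (hcz.pow_left 12)) ?_
        have : (3 : M5) * (i : M5) = ((3 * i : ℕ) : M5) := by push_cast; rfl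
        rw [this]; exact Nat.cast_commute _ _
      exact Commute.sub_right h3 (h3.pow_right 2)
    exact this.eq
  have huz : (c - c ^ 2) * z = z * (c - c ^ 2) := by
    have hcz : Commute c z := hc
    exact (Commute.sub_left hcz (hcz.pow_left 2)).eq
  have hs5 : (z + z ^ 12) ^ 5 = z ^ 5 + z ^ 8 := by
    rw [add_pow_char_of_commute 5 (Commute.self_pow z 12), ← pow_mul, pow_mod13 hz (12 * 5)]
  have hi5' : (3 * (i : M5)) ^ 5 = 3 * (i : M5) := by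
    have : (3 : M5) * (i : M5) = ((3 * i : ℕ) : M5) := by push_cast; rfl
    rw [this, ← Nat.cast_pow, CharP.cast_eq_iff_mod_eq M5 5]
    interval_cases i <;> rfl
  generalize hweq : z + z ^ 12 - 3 * (i : M5) = w at hw hwadj hwz hwu
  generalize hueq : c - c ^ 2 = u at hu huadj hwu huz
  have hs : z + z ^ 12 = w + 3 * (i : M5) := by rw [← hweq]; abel
  have hw5 : w ^ 5 ≠ w := by
    intro h5
    have hcw : Commute w (3 * (i : M5)) := by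
      have : (3 : M5) * (i : M5) = ((3 * i : ℕ) : M5) := by push_cast; rfl
      rw [this]; exact (Nat.cast_commute _ _).symm
    have h6 : z ^ 5 + z ^ 8 = z + z ^ 12 := by
      rw [← hs5, hs, add_pow_char_of_commute 5 hcw, h5, hi5']
    have h7 : (z ^ 5 - z) * (1 - z ^ 7) = 0 := by
      have : (z ^ 5 - z) * (1 - z ^ 7) = (z ^ 5 + z ^ 8) - (z + z ^ 12) := by noncomm_ring
      rw [this, h6, sub_self]
    have hc5 : Commute (z ^ 5 - z) z := Commute.sub_left (Commute.pow_self z 5) (Commute.refl z)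
    rcases dom hz hz1 hc5.eq h7 with h8 | h8
    · have h9 : z ^ 4 = 1 := by
        have h10 : z ^ 5 = z := sub_eq_zero.mp h8
        calc z ^ 4 = z ^ 12 * z ^ 5 := by rw [← pow_add, pow_mod13 hz (12 + 5)]
          _ = z ^ 12 * z := by rw [h10]
          _ = 1 := by rw [← pow_succ, hz]
      exact ne_of_pow hz hz1 (by norm_num) h9
    · exact ne_of_pow hz hz1 (by norm_num) (sub_eq_zero.mp h8).symm
  -- the scalar `w²`
  obtain ⟨d, hd5, hd⟩ : ∃ d : ℕ, d < 5 ∧ w * w = (d : M5) := by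
    refine ⟨(4 * i ^ 2 + 4 * j) % 5, Nat.mod_lt _ (by norm_num), ?_⟩
    rw [hw, CharP.cast_eq_iff_mod_eq M5 5, Nat.mod_mod]
  have hfin : ∀ k : ℕ, (d : M5) = (k : M5) * (k : M5) * 2 → False := by
    intro k hk
    have hku : (k : M5) * u = u * (k : M5) := Nat.cast_comm k u
    have h2 := gen_wu hwu (k : M5) (Nat.cast_comm k w) hku
    rw [hd, hu, hk, sub_self] at h2
    have hkz : (w - (k : M5) * u) * z = z * (w - (k : M5) * u) := by
      have h3 : Commute w z := hwz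
      have h4 : Commute u z := huz
      exact (Commute.sub_left h3 (Commute.mul_left (Nat.cast_commute k z) h4)).eq
    have hkadj : ((k : M5) * u)ᵀ * Om = - (Om * ((k : M5) * u)) := by
      rw [Matrix.transpose_mul, Matrix.transpose_natCast, ← (Nat.cast_comm k uᵀ), mul_assoc, huadj, mul_neg, ← mul_assoc,
        Nat.cast_comm k Om, mul_assoc]
    have h5 : wᵀ * Om = - (Om * w) := by
      rcases dom hz hz1 hkz h2 with h3 | h3
      · rw [sub_eq_zero] at h3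
        rw [h3]; exact hkadj
      · have h4 : w = - ((k : M5) * u) := eq_neg_of_add_eq_zero_left h3
        rw [h4, Matrix.transpose_neg, neg_mul, hkadj, mul_neg]
    rw [hwadj] at h5
    have hOm : Om * Om * Om * Om = 1 := by decide +kernel
    have h6 : Om * w + Om * w = 0 := by nth_rw 1 [h5]; exact neg_add_cancel _
    have h7 : Om * w = 0 := by
      calc Om * w = 3 * (Om * w + Om * w) - 5 * (Om * w) := by
            generalize Om * w = t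
            noncomm_ring
        _ = 0 := by rw [h6, five0, mul_zero, zero_mul, sub_zero]
    have h8 : w = 0 := by
      calc w = Om * Om * Om * Om * w := by rw [hOm, one_mul]
        _ = Om * Om * Om * (Om * w) := by rw [mul_assoc]
        _ = 0 := by rw [h7, mul_zero]
    apply hw5
    rw [h8]; simp
  have hw5' : w ^ 5 = w * ((w * w) * (w * w)) := by noncomm_ring
  interval_cases d
  · apply hw5
    have h2 : w * w = 0 := by rw [hd]; norm_num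
    rcases dom hz hz1 hwz h2 with h3 | h3 <;> rw [h3] <;> simp
  · apply hw5
    rw [hw5', hd]; simp
  · exact hfin 1 (by norm_num)
  · apply hfin 2
    rw [show ((3 : ℕ) : M5) = 8 - 5 by norm_num, five0]; norm_num
  · apply hw5
    rw [hw5', hd]
    rw [show ((4 : ℕ) : M5) * ((4 : ℕ) : M5) = 1 + 3 * 5 by norm_num, five0]; simp

end Cfsg.Agent.H689.Q5
end

-- part: H689/Q5/M3
section
/-!
# Task 5260 [Q5-M3] (S5211, block q = 5): the structure of `L` (helper689)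

`stM3 : StM1 → StM3`.
-/

set_option autoImplicit false

namespace Cfsg.Agent.H689.Q5

open Cfsg.Agent.H24.Q5
open Subgroup (zpowers mem_zpowers)

section
variable {L : Subgroup M5ˣ} (hm : (-1 : M5ˣ) ∈ L)

/-- the element `-1` -/
def nn : L := ⟨-1, hm⟩

theorem nn_mul (x : L) : ((nn hm * x : L) : M5ˣ) = - (x : M5ˣ) := by
  change (-1 : M5ˣ) * (x : M5ˣ) = _
  rw [neg_one_mul]

theorem nn_comm (x : L) : nn hm * x = x * nn hm := by
  apply Subtype.ext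
  change (-1 : M5ˣ) * (x : M5ˣ) = (x : M5ˣ) * (-1)
  rw [neg_one_mul, mul_neg_one]

theorem nn_sq : nn hm * nn hm = 1 := by
  apply Subtype.ext
  change (-1 : M5ˣ) * (-1) = 1
  rw [neg_one_mul, neg_neg]

theorem nn_ne : nn hm ≠ 1 := by
  intro h
  have h1 : (-1 : M5ˣ) = 1 := congrArg Subtype.val h
  have h2 : (-1 : M5) = 1 := congrArg Units.val h1
  revert h2
  decide +kernel

/-- the centre `{1, -1}` -/
def ZZ : Subgroup L := zpowers (nn hm)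

theorem mem_ZZ (x : L) : x ∈ ZZ hm ↔ x = 1 ∨ x = nn hm := by
  constructor
  · rintro ⟨k, rfl⟩
    change nn hm ^ k = 1 ∨ nn hm ^ k = nn hm
    have h2 : nn hm ^ (2 : ℤ) = 1 := by
      rw [show (2 : ℤ) = 1 + 1 by norm_num, zpow_add, zpow_one]; exact nn_sq hm
    rcases Int.even_or_odd' k with ⟨m, rfl | rfl⟩
    · left; rw [zpow_mul, h2, one_zpow]
    · right; rw [zpow_add, zpow_mul, h2, one_zpow, one_mul, zpow_one]
  · rintro (rfl | rfl)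
    · exact (ZZ hm).one_mem
    · exact mem_zpowers _

instance ZZ_normal : (ZZ hm).Normal := ⟨by
  intro x hx g
  rw [mem_ZZ] at hx ⊢
  rcases hx with rfl | rfl
  · left; group
  · right; rw [← nn_comm, mul_inv_cancel_right]⟩

theorem card_ZZ : Nat.card (ZZ hm) = 2 := by
  rw [ZZ, Nat.card_zpowers]
  have : Fact (Nat.Prime 2) := ⟨by norm_num⟩
  exact orderOf_eq_prime (by rw [pow_two]; exact nn_sq hm) (nn_ne hm)

theorem mk_eq (x y : L) : (QuotientGroup.mk x : L ⧸ ZZ hm) = QuotientGroup.mk y ↔ x = y ∨ x = nn hm * y := by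
  rw [eq_comm, QuotientGroup.eq, mem_ZZ]
  constructor
  · rintro (h | h)
    · left; rw [inv_mul_eq_one] at h; exact h.symm
    · right; rw [nn_comm, ← h, mul_inv_cancel_left]
  · rintro (rfl | rfl)
    · left; group
    · right; rw [nn_comm, inv_mul_cancel_left]

/-- odd powers -/
theorem nn_mul_pow (x : L) (k : ℕ) : (nn hm * x) ^ (2 * k + 1) = nn hm * x ^ (2 * k + 1) := by
  have h : Commute (nn hm) x := nn_comm hm x
  rw [h.mul_pow, pow_succ, pow_mul, pow_two, nn_sq, one_pow, one_mul]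

/-- `x y x⁻¹ = -w` is impossible for elements of odd order -/
theorem conj_pm {x y w : L} (k : ℕ) (hy : y ^ (2 * k + 1) = 1) (hw : w ^ (2 * k + 1) = 1)
    (h : (QuotientGroup.mk (x * y * x⁻¹) : L ⧸ ZZ hm) = QuotientGroup.mk w) : x * y * x⁻¹ = w := by
  rcases (mk_eq hm _ _).mp h with h | h
  · exact h
  · exfalso
    apply nn_ne hm
    have h1 := congrArg (· ^ (2 * k + 1)) h
    simp only [conj_pow, hy, mul_one, mul_inv_cancel, nn_mul_pow, hw] at h1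
    exact h1.symm

/-- lifting elements of odd order -/
theorem lift_odd (k : ℕ) (x : L ⧸ ZZ hm) (hx : x ^ (2 * k + 1) = 1) :
    ∃ t : L, QuotientGroup.mk t = x ∧ t ^ (2 * k + 1) = 1 := by
  induction x using QuotientGroup.induction_on with
  | H t =>
    have h1 : (QuotientGroup.mk (t ^ (2 * k + 1)) : L ⧸ ZZ hm) = QuotientGroup.mk 1 := by
      rw [QuotientGroup.mk_pow, hx]; rfl
    rcases (mk_eq hm _ _).mp h1 with h | h
    · exact ⟨t, rfl, h⟩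
    · refine ⟨nn hm * t, ?_, ?_⟩
      · rw [mk_eq]; right; rfl
      · rw [nn_mul_pow, h, mul_one, nn_sq]

end

theorem stM3 (h1 : StM1) : StM3 := by
  intro L hL hm
  obtain ⟨-, -, F3, F4, F5⟩ := h1 L hL
  have hfin : Finite L := inferInstance
  let a : L := ⟨gA, hL.memA⟩
  have ha5 : a ^ 5 = 1 := by
    apply Subtype.ext
    change gA ^ 5 = 1
    apply Units.ext
    change mA ^ 5 = 1
    exact mA5
  have ha1 : a ≠ 1 := by
    intro h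
    have h1 : gA = 1 := congrArg Subtype.val h
    have h2 : mA = 1 := congrArg Units.val h1
    revert h2
    decide +kernel
  have hcard : Nat.card L = Nat.card (L ⧸ ZZ hm) * 2 := by
    rw [← card_ZZ hm]; exact (ZZ hm).card_eq_card_quotient_mul_card_subgroup
  let b : L ⧸ ZZ hm := QuotientGroup.mk a
  have hb1 : b ≠ 1 := by
    intro h
    have h2 : (QuotientGroup.mk a : L ⧸ ZZ hm) = QuotientGroup.mk 1 := h
    rcases (mk_eq hm _ _).mp h2 with h | h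
    · exact ha1 h
    · apply nn_ne hm
      calc nn hm = (nn hm * 1) ^ (2 * 2 + 1) := by rw [nn_mul_pow, one_pow, mul_one]
        _ = a ^ 5 := by rw [← h]
        _ = 1 := ha5
  have hgenL : Subgroup.closure {x : L | x ^ 5 = 1} = ⊤ := by
    rw [eq_top_iff]
    intro x _
    have h2 : (Subgroup.closure {x : L | x ^ 5 = 1}).map L.subtype = Subgroup.closure {g | g ∈ L ∧ g ^ 5 = 1} := by
      rw [MonoidHom.map_closure]
      congr 1
      ext g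
      constructor
      · rintro ⟨y, hy, rfl⟩
        exact ⟨y.2, by
          have : y ^ 5 = 1 := hy
          exact congrArg Subtype.val this⟩
      · rintro ⟨hg, hg5⟩
        exact ⟨⟨g, hg⟩, Subtype.ext hg5, rfl⟩
    have h3 : (x : M5ˣ) ∈ (Subgroup.closure {x : L | x ^ 5 = 1}).map L.subtype := by
      rw [h2]; exact hL.gen x.2
    obtain ⟨y, hy, hyx⟩ := h3
    have : y = x := Subtype.ext hyx
    rw [← this]; exact hy
  have H : HQ b := by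
    refine ⟨?_, ?_, ?_, ?_, ?_⟩
    · have : Fact (Nat.Prime 5) := ⟨by norm_num⟩
      refine orderOf_eq_prime ?_ hb1
      change (QuotientGroup.mk a : L ⧸ ZZ hm) ^ 5 = 1
      rw [← QuotientGroup.mk_pow, ha5]; rfl
    · intro x hx
      induction x using QuotientGroup.induction_on with
      | H x =>
        have h2 : (QuotientGroup.mk (x * a * x⁻¹) : L ⧸ ZZ hm) = QuotientGroup.mk a := by
          rw [QuotientGroup.mk_mul, QuotientGroup.mk_inv, mul_inv_eq_iff_eq_mul]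
          exact hx
        have h3 := conj_pm hm 2 ha5 ha5 h2
        rw [mul_inv_eq_iff_eq_mul] at h3
        have h4 : (x : M5ˣ) * gA = gA * x := congrArg Subtype.val h3
        obtain ⟨k, hk | hk⟩ := F3 x x.2 h4
        · have h5 : x = a ^ k := Subtype.ext hk
          rw [h5]
          exact Subgroup.npow_mem_zpowers b k
        · have h5 : x = nn hm * a ^ k := by
            apply Subtype.ext
            rw [nn_mul, hk]; rfl
          have h6 : (QuotientGroup.mk x : L ⧸ ZZ hm) = QuotientGroup.mk (a ^ k) := by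
            rw [mk_eq]
            right; exact h5
          rw [h6]
          exact Subgroup.npow_mem_zpowers b k
    · intro x k hx
      induction x using QuotientGroup.induction_on with
      | H x =>
        have h2 : (QuotientGroup.mk (x * a * x⁻¹) : L ⧸ ZZ hm) = QuotientGroup.mk (a ^ k) := hx
        have h3 := conj_pm hm 2 ha5 (by rw [← pow_mul, mul_comm, pow_mul, show 2 * 2 + 1 = 5 by norm_num, ha5, one_pow]) h2
        have h4 : (x : M5ˣ) * gA * (x : M5ˣ)⁻¹ = gA ^ k := congrArg Subtype.val h3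
        rcases F4 x x.2 k h4 with h5 | h5
        · left
          have h6 : a ^ k = a := Subtype.ext h5
          change (QuotientGroup.mk (x * a * x⁻¹) : L ⧸ ZZ hm) = QuotientGroup.mk a
          rw [h3, h6]
        · right
          have h6 : a ^ k = a⁻¹ := Subtype.ext h5
          change (QuotientGroup.mk (x * a * x⁻¹) : L ⧸ ZZ hm) = QuotientGroup.mk a⁻¹
          rw [h3, h6]
    · rw [eq_top_iff]
      have h2 : (Subgroup.closure {x : L | x ^ 5 = 1}).map (QuotientGroup.mk' (ZZ hm)) = ⊤ := by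
        rw [hgenL]
        exact Subgroup.map_top_of_surjective _ (QuotientGroup.mk'_surjective _)
      rw [← h2, MonoidHom.map_closure]
      apply Subgroup.closure_mono
      rintro _ ⟨x, hx, rfl⟩
      have hx' : x ^ 5 = 1 := hx
      change (QuotientGroup.mk' _ x) ^ 5 = 1
      rw [← map_pow, hx', map_one]
    · intro h
      apply hL.card
      rw [hcard]
      exact h.mul_right 2
  have hd : Nat.card (L ⧸ ZZ hm) ∣ 37440 := by
    rw [hcard] at F5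
    exact Nat.dvd_of_mul_dvd_mul_right (k := 2) (by norm_num) (by norm_num at F5 ⊢; exact F5)
  have hne : Nat.card (L ⧸ ZZ hm) ≠ 5 := by
    intro h5
    apply hL.irr1
    intro g hg
    have hz : zpowers b = ⊤ := by
      apply Subgroup.eq_top_of_card_eq
      rw [Nat.card_zpowers, H.ord, h5]
    have hg' : (QuotientGroup.mk (⟨g, hg⟩ : L) : L ⧸ ZZ hm) ∈ zpowers b := by rw [hz]; exact Subgroup.mem_top _
    rw [← (isOfFinOrder_of_finite b).mem_powers_iff_mem_zpowers] at hg'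
    obtain ⟨k, hk⟩ := hg'
    have hk5 : b ^ (k % 5) = b ^ k := by
      have := pow_mod_orderOf b k
      rw [H.ord] at this
      exact this
    have hk2 : (QuotientGroup.mk (⟨g, hg⟩ : L) : L ⧸ ZZ hm) = QuotientGroup.mk (a ^ (k % 5)) := by
      have hk' : b ^ k = (QuotientGroup.mk (⟨g, hg⟩ : L) : L ⧸ ZZ hm) := hk
      rw [← hk', ← hk5]; rfl
    have hk4 : k % 5 < 5 := Nat.mod_lt _ (by norm_num)
    have key : ∀ j < 5, (mA ^ j) 1 0 = 0 ∧ (mA ^ j) 2 0 = 0 ∧ (mA ^ j) 3 0 = 0 := by decide +kernel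
    have hak : ∀ j : ℕ, (((a ^ j : L) : M5ˣ) : M5) = mA ^ j := by
      intro j
      rw [Subgroup.coe_pow, Units.val_pow_eq_pow_val]
      rfl
    rcases (mk_eq hm _ _).mp hk2 with h6 | h6
    · have h7 : (g : M5) = mA ^ (k % 5) := by
        rw [← hak, ← h6]
      rw [h7]
      exact key _ hk4
    · have h7 : (g : M5) = - mA ^ (k % 5) := by
        rw [← hak]
        have h8 : g = - ((a ^ (k % 5) : L) : M5ˣ) := by
          rw [← nn_mul hm, ← h6]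
        rw [h8, Units.val_neg]
      rw [h7]
      obtain ⟨e1, e2, e3⟩ := key _ hk4
      refine ⟨?_, ?_, ?_⟩
      · rw [Matrix.neg_apply, e1, neg_zero]
      · rw [Matrix.neg_apply, e2, neg_zero]
      · rw [Matrix.neg_apply, e3, neg_zero]
  -- lifting elements of order 13
  have hlift : ∀ z : L ⧸ ZZ hm, orderOf z = 13 → ∃ t : L, QuotientGroup.mk t = z ∧ t ^ 13 = 1 ∧
      ((t : M5ˣ) : M5) ^ 13 = 1 ∧ ((t : M5ˣ) : M5) ≠ 1 := by
    intro z hz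
    obtain ⟨t, ht1, ht2⟩ := lift_odd hm 6 z (by
      rw [show 2 * 6 + 1 = 13 by norm_num, ← hz]; exact pow_orderOf_eq_one z)
    refine ⟨t, ht1, ht2, ?_, ?_⟩
    · have := congrArg (fun x : L => ((x : M5ˣ) : M5)) ht2
      simpa using this
    · intro h
      have h2 : t = 1 := Subtype.ext (Units.ext h)
      rw [← ht1, h2] at hz
      have h3 : orderOf (1 : L ⧸ ZZ hm) = 13 := hz
      rw [orderOf_one] at h3
      omega
  have hcomm : ∀ (z c : L ⧸ ZZ hm) (t s : L), QuotientGroup.mk t = z → QuotientGroup.mk s = c → t ^ 13 = 1 →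
      c * z = z * c → ((s : M5ˣ) : M5) * ((t : M5ˣ) : M5) = ((t : M5ˣ) : M5) * ((s : M5ˣ) : M5) := by
    rintro z c t s rfl rfl ht hcz
    have h2 : (QuotientGroup.mk (s * t * s⁻¹) : L ⧸ ZZ hm) = QuotientGroup.mk t := by
      rw [QuotientGroup.mk_mul, QuotientGroup.mk_inv, mul_inv_eq_iff_eq_mul]
      exact hcz
    have h3 := conj_pm hm 6 ht ht h2
    rw [mul_inv_eq_iff_eq_mul] at h3
    have := congrArg (fun x : L => ((x : M5ˣ) : M5)) h3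
    simpa using this
  have hone : ∀ s : L, ((s : M5ˣ) : M5) = 1 ∨ ((s : M5ˣ) : M5) = -1 → (QuotientGroup.mk s : L ⧸ ZZ hm) = 1 := by
    rintro s (h | h)
    · have h2 : s = 1 := Subtype.ext (Units.ext h)
      rw [h2]; rfl
    · have h2 : s = nn hm := Subtype.ext (Units.ext h)
      change (QuotientGroup.mk s : L ⧸ ZZ hm) = QuotientGroup.mk 1
      rw [mk_eq, h2]
      right; rw [mul_one]
  have C2 : ∀ z c : L ⧸ ZZ hm, orderOf z = 13 → c * z = z * c → c ^ 2 = 1 → c = 1 := by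
    intro z c hz hcz hc2
    obtain ⟨t, ht, ht13, ht13', ht1⟩ := hlift z hz
    induction c using QuotientGroup.induction_on with
    | H s =>
      have h2 := hcomm z _ t s ht rfl ht13 hcz
      have h3 : (QuotientGroup.mk (s ^ 2) : L ⧸ ZZ hm) = QuotientGroup.mk 1 := hc2
      apply hone
      refine c2 ht13' ht1 h2 (hL.iso s s.2) ?_
      rcases (mk_eq hm _ _).mp h3 with h4 | h4
      · left
        have := congrArg (fun x : L => ((x : M5ˣ) : M5)) h4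
        simpa using this
      · right
        rw [mul_one] at h4
        have := congrArg (fun x : L => ((x : M5ˣ) : M5)) h4
        simpa [nn] using this
  have C3 : ∀ z c : L ⧸ ZZ hm, orderOf z = 13 → c * z = z * c → c ^ 3 = 1 → c = 1 := by
    intro z c hz hcz hc3
    obtain ⟨t, ht, ht13, ht13', ht1⟩ := hlift z hz
    obtain ⟨s, hs, hs3⟩ := lift_odd hm 1 c hc3
    have h2 := hcomm z c t s ht hs ht13 hcz
    rw [← hs]
    apply hone
    left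
    refine c3 ht13' ht1 h2 (hL.iso t t.2) (hL.iso s s.2) ?_
    have := congrArg (fun x : L => ((x : M5ˣ) : M5)) hs3
    simpa using this
  have N3 : ∀ z x : L ⧸ ZZ hm, orderOf z = 13 → x * z * x⁻¹ ≠ z ^ 3 := by
    intro z x hz hxz
    obtain ⟨t, ht, ht13, ht13', ht1⟩ := hlift z hz
    induction x using QuotientGroup.induction_on with
    | H s =>
      have h2 : (QuotientGroup.mk (s * t * s⁻¹) : L ⧸ ZZ hm) = QuotientGroup.mk (t ^ 3) := by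
        rw [QuotientGroup.mk_mul, QuotientGroup.mk_inv, QuotientGroup.mk_mul, QuotientGroup.mk_pow, ht]
        exact hxz
      have h3 := conj_pm hm 6 ht13 (by rw [← pow_mul, mul_comm, pow_mul, show 2 * 6 + 1 = 13 by norm_num, ht13, one_pow]) h2
      refine n3 (z := ((t : M5ˣ) : M5)) (x := ((s : M5ˣ) : M5)) (y := (((s⁻¹ : L) : M5ˣ) : M5)) ht13' ht1 ?_ ?_
      · have := congrArg (fun x : L => ((x : M5ˣ) : M5)) (mul_inv_cancel s)
        exact this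
      · have := congrArg (fun x : L => ((x : M5ˣ) : M5)) h3
        exact this
  rcases H.main hd hne C2 C3 N3 with ⟨N, hN, hN16, hNc, hN2, hQ⟩ | hQ | hQ
  · left
    have hπ : Function.Surjective (QuotientGroup.mk' (ZZ hm)) := QuotientGroup.mk'_surjective _
    have hidx : N.index * 16 = Nat.card (L ⧸ ZZ hm) := by
      rw [← hN16, mul_comm]; exact N.card_mul_index
    have hQpos : 0 < Nat.card (L ⧸ ZZ hm) := Nat.card_pos
    have hcomap : ∀ ψ : L →* L ⧸ ZZ hm, Function.Surjective ψ → Nat.card (N.comap ψ) = 32 := by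
      intro ψ hψ
      have h2 := (N.comap ψ).card_mul_index
      rw [Subgroup.index_comap_of_surjective N hψ, hcard, ← hidx] at h2
      have hNi : 0 < N.index := by
        rcases Nat.eq_zero_or_pos N.index with h | h
        · rw [h] at hidx; omega
        · exact h
      have h3 : Nat.card (N.comap ψ) * N.index = 32 * N.index := by rw [h2]; ring
      exact Nat.eq_of_mul_eq_mul_right hNi h3
    have hR : ∀ g : M5ˣ, g ∈ (N.comap (QuotientGroup.mk' (ZZ hm))).map L.subtype ↔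
        ∃ hg : g ∈ L, (QuotientGroup.mk (⟨g, hg⟩ : L) : L ⧸ ZZ hm) ∈ N := by
      intro g
      constructor
      · rintro ⟨y, hy, rfl⟩
        exact ⟨y.2, hy⟩
      · rintro ⟨hg, h⟩
        exact ⟨⟨g, hg⟩, h, rfl⟩
    have hmk1 : ∀ s : L, (QuotientGroup.mk s : L ⧸ ZZ hm) = 1 → (s : M5ˣ) = 1 ∨ (s : M5ˣ) = -1 := by
      intro s hs
      rcases (mk_eq hm s 1).mp hs with h | h
      · left; rw [h]; rfl
      · right; rw [h, mul_one]; rfl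
    refine ⟨(N.comap (QuotientGroup.mk' (ZZ hm))).map L.subtype, ?_, ?_, ?_, ?_, ?_, ?_, ?_, ?_, ?_⟩
    · intro g hg
      obtain ⟨h, -⟩ := (hR g).mp hg
      exact h
    · intro g hg r hr
      obtain ⟨hrL, hr⟩ := (hR r).mp hr
      refine (hR _).mpr ⟨L.mul_mem (L.mul_mem hg hrL) (L.inv_mem hg), ?_⟩
      exact hN.conj_mem _ hr (QuotientGroup.mk (⟨g, hg⟩ : L))
    · rw [Subgroup.card_map_of_injective (Subgroup.subtype_injective L)]
      exact hcomap _ hπ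
    · refine (hR _).mpr ⟨hm, ?_⟩
      have : (QuotientGroup.mk (⟨-1, hm⟩ : L) : L ⧸ ZZ hm) = 1 := by
        change (QuotientGroup.mk (nn hm) : L ⧸ ZZ hm) = QuotientGroup.mk 1
        rw [mk_eq]; right; rw [mul_one]
      rw [this]; exact N.one_mem
    · intro r hr
      obtain ⟨hrL, hr⟩ := (hR r).mp hr
      exact hmk1 ((⟨r, hrL⟩ : L) ^ 2) (hN2 _ hr)
    · intro r hr s hs
      obtain ⟨hrL, hr⟩ := (hR r).mp hr
      obtain ⟨hsL, hs⟩ := (hR s).mp hs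
      have h2 : (QuotientGroup.mk ((⟨r, hrL⟩ : L) * ⟨s, hsL⟩) : L ⧸ ZZ hm) =
          QuotientGroup.mk ((⟨s, hsL⟩ : L) * ⟨r, hrL⟩) := hNc _ hr _ hs
      rcases (mk_eq hm _ _).mp h2 with h | h
      · left; exact congrArg Subtype.val h
      · right
        have h3 := congrArg Subtype.val h
        rw [nn_mul] at h3
        exact h3
    · intro r hr hra
      obtain ⟨hrL, hr⟩ := (hR r).mp hr
      apply hmk1 ⟨r, hrL⟩
      refine H.meet (P := N) (by rw [hN16]; norm_num) hr (H.cent _ ?_)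
      have : (⟨r, hrL⟩ : L) * a = a * ⟨r, hrL⟩ := Subtype.ext hra
      exact congrArg (QuotientGroup.mk (s := ZZ hm)) this
    · -- invariance under `gh2`
      let θ : L →* L :=
        { toFun := fun g => ⟨gh2 * g * gh2⁻¹, hL.h2 g g.2⟩
          map_one' := by apply Subtype.ext; simp
          map_mul' := by
            intro x y
            apply Subtype.ext
            change gh2 * ((x * y : L) : M5ˣ) * gh2⁻¹ = (gh2 * x * gh2⁻¹) * (gh2 * y * gh2⁻¹)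
            rw [Subgroup.coe_mul]; group }
      have hθi : Function.Injective θ := by
        intro x y hxy
        have h2 : gh2 * (x : M5ˣ) * gh2⁻¹ = gh2 * y * gh2⁻¹ := congrArg Subtype.val hxy
        apply Subtype.ext
        exact mul_left_cancel (mul_right_cancel h2)
      have hθs : Function.Surjective θ := Finite.injective_iff_surjective.mp hθi
      have hψ : Function.Surjective ((QuotientGroup.mk' (ZZ hm)).comp θ) := hπ.comp hθs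
      have hK32 := hcomap _ hψ
      set K := N.comap ((QuotientGroup.mk' (ZZ hm)).comp θ) with hK
      have hKn : K.Normal := hN.comap _
      have hkerK : (QuotientGroup.mk' (ZZ hm)).ker ≤ K := by
        rw [QuotientGroup.ker_mk']
        intro x hx
        rw [hK, Subgroup.mem_comap]
        have : ((QuotientGroup.mk' (ZZ hm)).comp θ) x = 1 := by
          rw [mem_ZZ] at hx
          rcases hx with rfl | rfl
          · exact map_one _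
          · have h2 : θ (nn hm) = nn hm := by
              apply Subtype.ext
              change gh2 * (-1 : M5ˣ) * gh2⁻¹ = -1
              rw [mul_neg_one, neg_mul, mul_inv_cancel]
            rw [MonoidHom.comp_apply, h2]
            change (QuotientGroup.mk (nn hm) : L ⧸ ZZ hm) = QuotientGroup.mk 1
            rw [mk_eq]; right; rw [mul_one]
        rw [this]; exact N.one_mem
      have hMn : (K.map (QuotientGroup.mk' (ZZ hm))).Normal := hKn.map _ hπ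
      have hM16 : Nat.card (K.map (QuotientGroup.mk' (ZZ hm))) = 16 := by
        have h2 := Subgroup.index_map_eq K hπ hkerK
        have h3 := K.card_mul_index
        have h4 := (K.map (QuotientGroup.mk' (ZZ hm))).card_mul_index
        rw [h2] at h4
        rw [hK32, hcard, ← h4] at h3
        have hKi : 0 < K.index := by
          rcases Nat.eq_zero_or_pos K.index with h | h
          · rw [h] at h4; omega
          · exact h
        have h5 : Nat.card (K.map (QuotientGroup.mk' (ZZ hm))) * K.index = 16 * K.index := by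
          have : 2 * (Nat.card (K.map (QuotientGroup.mk' (ZZ hm))) * K.index) = 2 * (16 * K.index) := by
            rw [mul_comm 2, ← h3]; ring
          omega
        exact Nat.eq_of_mul_eq_mul_right hKi h5
      have hMN := H.uniq hd hM16 hN16
      intro g hg hgR
      obtain ⟨hg2, hgN⟩ := (hR _).mp hgR
      refine (hR g).mpr ⟨hg, ?_⟩
      rw [← hMN]
      refine ⟨⟨g, hg⟩, ?_, rfl⟩
      rw [hK]
      exact hgN
    · rcases hQ with h | h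
      · left; rw [hcard, h]
      · right; rw [hcard, h]
  · right; left
    rw [hcard, hQ]
  · right; right
    rw [hcard, hQ]

end Cfsg.Agent.H689.Q5
end

-- part: H29/Q5M/Four
section
/-!
# S5211, block q = 5, (M4): uniqueness of the extraspecial group and of the two groups above it (helper29)

`X k` (`k < 16`): representatives of `R₀ / ±1`; `s i` (`i < 5`): the five classes of noncentral involutions.
-/

set_option autoImplicit false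
set_option maxRecDepth 100000

namespace Cfsg.Agent.H29.Q5M

open Matrix Cfsg.Agent.H24.Q5 Equiv

/-- representatives of `R₀ / ±1` -/
def X : Fin 16 → M5 := (beta% delta% lq26321636b6 fun e f _ _ _ _ _ _ _ _ _ _ =>
 (e (@_root_.Matrix.of (Fin 4) (Fin 4) _ (e (e 1<|e 0<|e 0<|e 0<|f)
 (e (e 0<|e 1<|e 0<|e 0<|f)
 (e (e 0<|e 0<|e 1<|e 0<|f)
 (e (e 0<|e 0<|e 0<|e 1<|f)
 f)))))<|
 e (@_root_.Matrix.of (Fin 4) (Fin 4) _ (e (e 0<|e 0<|e 1<|e 0<|f)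
 (e (e 0<|e 0<|e 0<|e 3<|f)
 (e (e 1<|e 0<|e 0<|e 0<|f)
 (e (e 0<|e 2<|e 0<|e 0<|f)
 f)))))<|
 e (@_root_.Matrix.of (Fin 4) (Fin 4) _ (e (e 3<|e 1<|e 4<|e 0<|f)
 (e (e 3<|e 2<|e 0<|e 2<|f)
 (e (e 1<|e 0<|e 2<|e 2<|f)
 (e (e 0<|e 2<|e 4<|e 3<|f)
 f)))))<|
 e (@_root_.Matrix.of (Fin 4) (Fin 4) _ (e (e 1<|e 0<|e 2<|e 2<|f)
 (e (e 0<|e 1<|e 2<|e 4<|f)
 (e (e 3<|e 1<|e 4<|e 0<|f)
 (e (e 1<|e 4<|e 0<|e 4<|f)
 f)))))<|
 e (@_root_.Matrix.of (Fin 4) (Fin 4) _ (e (e 2<|e 3<|e 4<|e 0<|f)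
 (e (e 1<|e 3<|e 0<|e 2<|f)
 (e (e 1<|e 0<|e 3<|e 1<|f)
 (e (e 0<|e 2<|e 3<|e 2<|f)
 f)))))<|
 e (@_root_.Matrix.of (Fin 4) (Fin 4) _ (e (e 1<|e 0<|e 3<|e 1<|f)
 (e (e 0<|e 1<|e 4<|e 1<|f)
 (e (e 2<|e 3<|e 4<|e 0<|f)
 (e (e 2<|e 1<|e 0<|e 4<|f)
 f)))))<|
 e (@_root_.Matrix.of (Fin 4) (Fin 4) _ (e (e 1<|e 2<|e 4<|e 1<|f)
 (e (e 3<|e 4<|e 3<|e 3<|f)
 (e (e 4<|e 2<|e 1<|e 1<|f)
 (e (e 1<|e 2<|e 1<|e 4<|f)
 f)))))<|
 e (@_root_.Matrix.of (Fin 4) (Fin 4) _ (e (e 4<|e 2<|e 1<|e 1<|f)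
 (e (e 3<|e 1<|e 3<|e 2<|f)
 (e (e 1<|e 2<|e 4<|e 1<|f)
 (e (e 1<|e 3<|e 1<|e 1<|f)
 f)))))<|
 e (@_root_.Matrix.of (Fin 4) (Fin 4) _ (e (e 2<|e 2<|e 4<|e 0<|f)
 (e (e 4<|e 3<|e 0<|e 2<|f)
 (e (e 1<|e 0<|e 3<|e 4<|f)
 (e (e 0<|e 2<|e 2<|e 2<|f)
 f)))))<|
 e (@_root_.Matrix.of (Fin 4) (Fin 4) _ (e (e 1<|e 0<|e 3<|e 4<|f)
 (e (e 0<|e 1<|e 1<|e 1<|f)
 (e (e 2<|e 2<|e 4<|e 0<|f)
 (e (e 3<|e 1<|e 0<|e 4<|f)
 f)))))<|
 e (@_root_.Matrix.of (Fin 4) (Fin 4) _ (e (e 4<|e 4<|e 4<|e 3<|f)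
 (e (e 4<|e 1<|e 1<|e 3<|f)
 (e (e 4<|e 1<|e 4<|e 2<|f)
 (e (e 2<|e 2<|e 3<|e 1<|f)
 f)))))<|
 e (@_root_.Matrix.of (Fin 4) (Fin 4) _ (e (e 4<|e 1<|e 4<|e 2<|f)
 (e (e 1<|e 1<|e 4<|e 3<|f)
 (e (e 4<|e 4<|e 4<|e 3<|f)
 (e (e 3<|e 2<|e 2<|e 1<|f)
 f)))))<|
 e (@_root_.Matrix.of (Fin 4) (Fin 4) _ (e (e 0<|e 3<|e 0<|e 2<|f)
 (e (e 4<|e 0<|e 3<|e 0<|f)
 (e (e 0<|e 4<|e 0<|e 4<|f)
 (e (e 1<|e 0<|e 3<|e 0<|f)
 f)))))<|
 e (@_root_.Matrix.of (Fin 4) (Fin 4) _ (e (e 0<|e 4<|e 0<|e 4<|f)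
 (e (e 3<|e 0<|e 4<|e 0<|f)
 (e (e 0<|e 3<|e 0<|e 2<|f)
 (e (e 3<|e 0<|e 1<|e 0<|f)
 f)))))<|
 e (@_root_.Matrix.of (Fin 4) (Fin 4) _ (e (e 4<|e 0<|e 3<|e 2<|f)
 (e (e 0<|e 4<|e 2<|e 1<|f)
 (e (e 2<|e 1<|e 1<|e 0<|f)
 (e (e 1<|e 1<|e 0<|e 1<|f)
 f)))))<|
 e (@_root_.Matrix.of (Fin 4) (Fin 4) _ (e (e 2<|e 1<|e 1<|e 0<|f)
 (e (e 3<|e 3<|e 0<|e 3<|f)
 (e (e 4<|e 0<|e 3<|e 2<|f)
 (e (e 0<|e 3<|e 4<|e 2<|f)
 f)))))<|f))

/-- the signs of the squares -/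
def e : Fin 16 → ZMod 5 := (beta% delta% lq26321636b6 fun e f _ _ _ _ _ _ _ _ _ _ =>
 (e 1<|e 1<|e 1<|e 4<|e 1<|e 4<|e 4<|e 4<|e 1<|e 4<|e 4<|e 4<|e 4<|e 4<|e 4<|e 1<|f))

private noncomputable def _root_.Cfsg.Agent.LsF.f6801f4_0 : {f // @Cfsg.Agent.H29.Q5M.X = f} := ⟨_, by first | (delta Cfsg.Agent.H29.Q5M.X; rewrite [Cfsg.Agent.LsF.mof_pat, Cfsg.Agent.LsF.vecCons_eq]; exact rfl) | exact rfl⟩
private noncomputable def _root_.Cfsg.Agent.LsF.f6801f4_1 : {f // @Cfsg.Agent.H29.Q5M.e = f} := ⟨_, by first | (delta Cfsg.Agent.H29.Q5M.e; rewrite [Cfsg.Agent.LsF.vecCons_eq]; exact rfl) | exact rfl⟩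
theorem X_sq : ∀ k, X k * (e k • X k) = 1 := by (refine of_decide_eq_true ?_; (try (rewrite [Cfsg.Agent.LsF.mmulF_pat, Cfsg.Agent.LsF.msmul_pat, Cfsg.Agent.LsF.f6801f4_0.2, Cfsg.Agent.LsF.f6801f4_1.2, Cfsg.Agent.LsF.zadd_pat, Cfsg.Agent.LsF.zmul_pat, Cfsg.Agent.LsF.zdecEq_eq, Cfsg.Agent.LsF.finFintype_eq, Cfsg.Agent.LsF.dMat_eq, Cfsg.Agent.LsF.instMOne_eq, Cfsg.Agent.LsF.zACM_pat, Cfsg.Agent.LsF.dFinEq_eq, Cfsg.Agent.LsF.dForallFin_eq, Cfsg.Agent.LsF.decide_eq])); decide +kernel)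

theorem X_sq' : ∀ k, (e k • X k) * X k = 1 := by (refine of_decide_eq_true ?_; (try (rewrite [Cfsg.Agent.LsF.mmulF_pat, Cfsg.Agent.LsF.msmul_pat, Cfsg.Agent.LsF.f6801f4_1.2, Cfsg.Agent.LsF.f6801f4_0.2, Cfsg.Agent.LsF.zadd_pat, Cfsg.Agent.LsF.zmul_pat, Cfsg.Agent.LsF.zdecEq_eq, Cfsg.Agent.LsF.finFintype_eq, Cfsg.Agent.LsF.dMat_eq, Cfsg.Agent.LsF.instMOne_eq, Cfsg.Agent.LsF.zACM_pat, Cfsg.Agent.LsF.dFinEq_eq, Cfsg.Agent.LsF.dForallFin_eq, Cfsg.Agent.LsF.decide_eq])); decide +kernel)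

/-- the elements as units -/
def x (k : Fin 16) : M5ˣ := ⟨X k, e k • X k, X_sq k, X_sq' k⟩

theorem x_mem {R : Subgroup M5ˣ} (h1 : x 1 ∈ R) (h2 : x 2 ∈ R) (h4 : x 4 ∈ R) (h8 : x 8 ∈ R) : ∀ k, x k ∈ R := by
  have e0 : x 0 = 1 := Units.ext (by decide +kernel)
  have e3 : x 3 = x 1 * x 2 := Units.ext (by decide +kernel)
  have e5 : x 5 = x 1 * x 4 := Units.ext (by decide +kernel)
  have e6 : x 6 = x 2 * x 4 := Units.ext (by decide +kernel)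
  have e7 : x 7 = x 1 * x 6 := Units.ext (by decide +kernel)
  have e9 : x 9 = x 1 * x 8 := Units.ext (by decide +kernel)
  have e10 : x 10 = x 2 * x 8 := Units.ext (by decide +kernel)
  have e11 : x 11 = x 1 * x 10 := Units.ext (by decide +kernel)
  have e12 : x 12 = x 4 * x 8 := Units.ext (by decide +kernel)
  have e13 : x 13 = x 1 * x 12 := Units.ext (by decide +kernel)
  have e14 : x 14 = x 2 * x 12 := Units.ext (by decide +kernel)
  have e15 : x 15 = x 1 * x 14 := Units.ext (by decide +kernel)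
  have m6 : x 6 ∈ R := e6 ▸ R.mul_mem h2 h4
  have m10 : x 10 ∈ R := e10 ▸ R.mul_mem h2 h8
  have m12 : x 12 ∈ R := e12 ▸ R.mul_mem h4 h8
  have m14 : x 14 ∈ R := e14 ▸ R.mul_mem h2 m12
  intro k
  fin_cases k
  · change x 0 ∈ R
    rw [e0]; exact R.one_mem
  · exact h1
  · exact h2
  · exact e3 ▸ R.mul_mem h1 h2
  · exact h4
  · exact e5 ▸ R.mul_mem h1 h4
  · exact m6
  · exact e7 ▸ R.mul_mem h1 m6
  · exact h8
  · exact e9 ▸ R.mul_mem h1 h8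
  · exact m10
  · exact e11 ▸ R.mul_mem h1 m10
  · exact m12
  · exact e13 ▸ R.mul_mem h1 m12
  · exact m14
  · exact e15 ▸ R.mul_mem h1 m14

theorem X_inj : ∀ j k, X j = X k → j = k := by (refine of_decide_eq_true ?_; (try (rewrite [Cfsg.Agent.LsF.f6801f4_0.2, Cfsg.Agent.LsF.zdecEq_eq, Cfsg.Agent.LsF.finFintype_eq, Cfsg.Agent.LsF.dMat_eq, Cfsg.Agent.LsF.dFinEq_eq, Cfsg.Agent.LsF.dForallFin_eq, Cfsg.Agent.LsF.dAllP_eq, Cfsg.Agent.LsF.decide_eq])); decide +kernel)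

theorem X_neg : ∀ j k, X j ≠ - X k := by decide +kernel

/-- the 32 elements -/
def y (a : Fin 16 × Bool) : M5ˣ := if a.2 then x a.1 else - x a.1

theorem y_inj : Function.Injective y := by
  rintro ⟨j, b⟩ ⟨k, c⟩ h
  cases b <;> cases c
  · have h1 : (- x j : M5ˣ) = - x k := h
    have h2 := X_inj j k (congrArg Units.val (neg_injective h1))
    rw [h2]
  · have h1 : (- x j : M5ˣ) = x k := h
    exact absurd (congrArg Units.val h1).symm (X_neg k j)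
  · have h1 : (x j : M5ˣ) = - x k := h
    exact absurd (congrArg Units.val h1) (X_neg j k)
  · have h1 : (x j : M5ˣ) = x k := h
    have h2 := X_inj j k (congrArg Units.val h1)
    rw [h2]

/-- a subgroup of order 32 containing everything is the explicit one -/
theorem eq_y {R : Subgroup M5ˣ} (hcard : Nat.card R = 32) (hneg : -1 ∈ R) (hx : ∀ k, x k ∈ R) :
    ∀ g ∈ R, ∃ k, g = x k ∨ g = - x k := by
  have : Finite R := Nat.finite_of_card_ne_zero (by rw [hcard]; norm_num)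
  have hy : ∀ a, y a ∈ R := by
    rintro ⟨k, b⟩
    cases b
    · have h1 : (- x k : M5ˣ) = -1 * x k := (neg_one_mul _).symm
      change - x k ∈ R
      rw [h1]
      exact R.mul_mem hneg (hx k)
    · exact hx k
  let f : Fin 16 × Bool → R := fun a => ⟨y a, hy a⟩
  have hf : Function.Injective f := fun a b h => y_inj (congrArg Subtype.val h)
  have hb : Function.Bijective f := hf.bijective_of_nat_card_le (by rw [hcard]; simp)
  intro g hg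
  obtain ⟨⟨k, b⟩, h⟩ := hb.2 ⟨g, hg⟩
  have h1 : y (k, b) = g := congrArg Subtype.val h
  cases b
  · exact ⟨k, Or.inr h1.symm⟩
  · exact ⟨k, Or.inl h1.symm⟩

/-! ### the first element -/

/-- equality up to sign -/
def E (a b : M5ˣ) : Prop := a = b ∨ a = - b

theorem E.refl (a : M5ˣ) : E a a := Or.inl rfl

theorem E.symm {a b : M5ˣ} (h : E a b) : E b a := by
  rcases h with h | h
  · exact Or.inl h.symm
  · exact Or.inr (by rw [h, neg_neg])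

theorem E.trans {a b c : M5ˣ} (h : E a b) (h' : E b c) : E a c := by
  rcases h with rfl | rfl
  · exact h'
  · rcases h' with rfl | rfl
    · exact Or.inr rfl
    · exact Or.inl (neg_neg _)

theorem E.mul {a b c d : M5ˣ} (h : E a b) (h' : E c d) : E (a * c) (b * d) := by
  rcases h with rfl | rfl <;> rcases h' with rfl | rfl
  · exact Or.inl rfl
  · exact Or.inr (mul_neg _ _)
  · exact Or.inr (neg_mul _ _)
  · exact Or.inl (neg_mul_neg _ _)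

theorem inv_E {r : M5ˣ} (h : r ^ 2 = 1 ∨ r ^ 2 = -1) : E r⁻¹ r := by
  rcases h with h | h
  · left
    rw [inv_eq_iff_mul_eq_one, ← sq, h]
  · right
    rw [inv_eq_iff_mul_eq_one, mul_neg, ← sq, h, neg_neg]

theorem exists_fix {R : Subgroup M5ˣ} (hcard : Nat.card R = 32) (hsq : ∀ r ∈ R, r ^ 2 = 1 ∨ r ^ 2 = -1)
    (hh : ∀ r ∈ R, gh2 * r * gh2⁻¹ ∈ R) :
    ∃ r ∈ R, ¬ E r 1 ∧ E (gh2 * r * gh2⁻¹) r := by
  have : Finite R := Nat.finite_of_card_ne_zero (by rw [hcard]; norm_num)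
  have h4 : gh2 ^ 4 = 1 := Units.ext (by
    rw [Units.val_pow_eq_pow_val]
    exact mh24)
  -- an element outside `±1`
  have h1 : ∃ r ∈ R, ¬ E r 1 := by
    by_contra hcon
    push Not at hcon
    have hsub : (R : Set M5ˣ) ⊆ {1, -1} := by
      intro r hr
      rcases hcon r hr with h | h
      · exact Or.inl h
      · exact Or.inr h
    have h2 := Set.ncard_le_ncard hsub (Set.toFinite _)
    have h3 : ({1, -1} : Set M5ˣ).ncard ≤ 2 := (Set.ncard_insert_le _ _).trans (by rw [Set.ncard_singleton])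
    have h5 : (R : Set M5ˣ).ncard = 32 := hcard
    omega
  -- `gh2 ^ 2`
  have h2 : ∃ r ∈ R, ¬ E r 1 ∧ E (gh2 ^ 2 * r * (gh2 ^ 2)⁻¹) r := by
    obtain ⟨r, hr, hr1⟩ := h1
    have hT : ∀ r ∈ R, gh2 ^ 2 * r * (gh2 ^ 2)⁻¹ ∈ R := by
      intro r hr
      have e1 : gh2 ^ 2 * r * (gh2 ^ 2)⁻¹ = gh2 * (gh2 * r * gh2⁻¹) * gh2⁻¹ := by
        rw [sq, _root_.mul_inv_rev]
        simp only [mul_assoc]
      rw [e1]
      exact hh _ (hh _ hr)
    by_cases h : E (gh2 ^ 2 * r * (gh2 ^ 2)⁻¹) r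
    · exact ⟨r, hr, hr1, h⟩
    · have hm : gh2 ^ 2 * r * (gh2 ^ 2)⁻¹ * r⁻¹ ∈ R := R.mul_mem (hT r hr) (R.inv_mem hr)
      refine ⟨_, hm, ?_, ?_⟩
      · intro h5
        have h6 := h5.mul (E.refl r)
        rw [inv_mul_cancel_right, one_mul] at h6
        exact h h6
      · have e2 : gh2 ^ 2 * (gh2 ^ 2 * r * (gh2 ^ 2)⁻¹ * r⁻¹) * (gh2 ^ 2)⁻¹ = (gh2 ^ 2 * r * (gh2 ^ 2)⁻¹ * r⁻¹)⁻¹ := by
          have e3 : gh2 ^ 2 * (gh2 ^ 2 * r * (gh2 ^ 2)⁻¹ * r⁻¹) * (gh2 ^ 2)⁻¹ =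
            gh2 ^ 4 * r * (gh2 ^ 4)⁻¹ * (gh2 ^ 2 * r⁻¹ * (gh2 ^ 2)⁻¹) := by group
          rw [e3, h4]
          group
        rw [e2]
        exact inv_E (hsq _ hm)
  obtain ⟨r, hr, hr1, hr2⟩ := h2
  by_cases h : E (gh2 * r * gh2⁻¹) r
  · exact ⟨r, hr, hr1, h⟩
  · have hm : gh2 * r * gh2⁻¹ * r⁻¹ ∈ R := R.mul_mem (hh r hr) (R.inv_mem hr)
    refine ⟨_, hm, ?_, ?_⟩
    · intro h5
      have h6 := h5.mul (E.refl r)
      rw [inv_mul_cancel_right, one_mul] at h6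
      exact h h6
    · have e2 : gh2 * (gh2 * r * gh2⁻¹ * r⁻¹) * gh2⁻¹ = (gh2 ^ 2 * r * (gh2 ^ 2)⁻¹) * (gh2 * r * gh2⁻¹)⁻¹ := by
        rw [sq]
        group
      rw [e2]
      have h7 := hr2.mul (E.refl (gh2 * r * gh2⁻¹)⁻¹)
      have e3 : r * (gh2 * r * gh2⁻¹)⁻¹ = (gh2 * r * gh2⁻¹ * r⁻¹)⁻¹ := by group
      rw [e3] at h7
      exact h7.trans (inv_E (hsq _ hm))

/-- diagonal matrices -/
def dg (a b c d : ZMod 5) : M5 := (beta% delta% lq26321636b6 fun e f _ _ _ _ _ _ _ _ _ _ =>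
 (@_root_.Matrix.of (Fin 4) (Fin 4) _ (e (e a<|e 0<|e 0<|e 0<|f)
 (e (e 0<|e b<|e 0<|e 0<|f)
 (e (e 0<|e 0<|e c<|e 0<|f)
 (e (e 0<|e 0<|e 0<|e d<|f)
 f))))))

/-- matrices exchanging `e₀` with `e₂` and `e₁` with `e₃` -/
def ad (a b c d : ZMod 5) : M5 := (beta% delta% lq26321636b6 fun e f _ _ _ _ _ _ _ _ _ _ =>
 (@_root_.Matrix.of (Fin 4) (Fin 4) _ (e (e 0<|e 0<|e a<|e 0<|f)
 (e (e 0<|e 0<|e 0<|e b<|f)
 (e (e c<|e 0<|e 0<|e 0<|f)
 (e (e 0<|e d<|e 0<|e 0<|f)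
 f))))))

/-- the conditions on the first element -/
abbrev Good (m : M5) : Prop := (m * m = 1 ∨ m * m = -1) ∧ mᵀ * Om * m = Om ∧
  (m * (mA * m * mA ^ 4) = (mA * m * mA ^ 4) * m ∨ m * (mA * m * mA ^ 4) = -((mA * m * mA ^ 4) * m)) ∧
  (m * (mA ^ 2 * m * mA ^ 3) = (mA ^ 2 * m * mA ^ 3) * m ∨ m * (mA ^ 2 * m * mA ^ 3) = -((mA ^ 2 * m * mA ^ 3) * m))

private noncomputable def _root_.Cfsg.Agent.LsF.f6801f4_2 : {f // @Cfsg.Agent.H29.Q5M.dg = f} := ⟨_, by first | (delta Cfsg.Agent.H29.Q5M.dg; rewrite [Cfsg.Agent.LsF.mof_pat, Cfsg.Agent.LsF.vecCons_eq]; exact rfl) | exact rfl⟩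
private noncomputable def _root_.Cfsg.Agent.LsF.f6801f4_3 : {f // @Cfsg.Agent.H24.Q5.Om = f} := ⟨_, by first | (delta Cfsg.Agent.H24.Q5.Om; rewrite [Cfsg.Agent.LsF.mof_pat, Cfsg.Agent.LsF.zneg_pat, Cfsg.Agent.LsF.vecCons_eq]; exact rfl) | exact rfl⟩
private noncomputable def _root_.Cfsg.Agent.LsF.f6801f4_4 : {f // @Cfsg.Agent.H24.Q5.mA = f} := ⟨_, by first | (delta Cfsg.Agent.H24.Q5.mA; rewrite [Cfsg.Agent.LsF.mof_pat, Cfsg.Agent.LsF.zneg_pat, Cfsg.Agent.LsF.vecCons_eq]; exact rfl) | exact rfl⟩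
theorem cand_diag : ∀ a b c d : ZMod 5, Good (dg a b c d) → dg a b c d = 1 ∨ dg a b c d = -1 := by (refine of_decide_eq_true ?_; (try (delta Cfsg.Agent.H29.Q5M.Good; rewrite [Cfsg.Agent.LsF.mpowF_pat, Cfsg.Agent.LsF.mmulF_pat, Cfsg.Agent.LsF.mneg_pat, Cfsg.Agent.LsF.f6801f4_2.2, Cfsg.Agent.LsF.f6801f4_3.2, Cfsg.Agent.LsF.f6801f4_4.2, Cfsg.Agent.LsF.zadd_pat, Cfsg.Agent.LsF.zmul_pat, Cfsg.Agent.LsF.zneg_pat, Cfsg.Agent.LsF.zdecEq_eq, Cfsg.Agent.LsF.finFintype_eq, Cfsg.Agent.LsF.zFintype_eq, Cfsg.Agent.LsF.dForall_eq, Cfsg.Agent.LsF.dMat_eq, Cfsg.Agent.LsF.transpose_eq, Cfsg.Agent.LsF.instMOne_eq, Cfsg.Agent.LsF.zACM_pat, Cfsg.Agent.LsF.dAnd_eq, Cfsg.Agent.LsF.dOr_eq, Cfsg.Agent.LsF.dFinEq_eq, Cfsg.Agent.LsF.dAllP_eq, Cfsg.Agent.LsF.decide_eq])); decide +kernel)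

private noncomputable def _root_.Cfsg.Agent.LsF.f6801f4_5 : {f // @Cfsg.Agent.H29.Q5M.ad = f} := ⟨_, by first | (delta Cfsg.Agent.H29.Q5M.ad; rewrite [Cfsg.Agent.LsF.mof_pat, Cfsg.Agent.LsF.vecCons_eq]; exact rfl) | exact rfl⟩
theorem cand_anti : ∀ a b c d : ZMod 5, Good (ad a b c d) → ad a b c d = X 1 ∨ ad a b c d = - X 1 := by (refine of_decide_eq_true ?_; (try (delta Cfsg.Agent.H29.Q5M.Good; rewrite [Cfsg.Agent.LsF.mpowF_pat, Cfsg.Agent.LsF.mmulF_pat, Cfsg.Agent.LsF.mneg_pat, Cfsg.Agent.LsF.f6801f4_5.2, Cfsg.Agent.LsF.f6801f4_3.2, Cfsg.Agent.LsF.f6801f4_4.2, Cfsg.Agent.LsF.f6801f4_0.2, Cfsg.Agent.LsF.zadd_pat, Cfsg.Agent.LsF.zmul_pat, Cfsg.Agent.LsF.zneg_pat, Cfsg.Agent.LsF.zdecEq_eq, Cfsg.Agent.LsF.finFintype_eq, Cfsg.Agent.LsF.zFintype_eq, Cfsg.Agent.LsF.dForall_eq, Cfsg.Agent.LsF.dMat_eq, Cfsg.Agent.LsF.transpose_eq, Cfsg.Agent.LsF.instMOne_eq, Cfsg.Agent.LsF.zACM_pat,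 Cfsg.Agent.LsF.dAnd_eq, Cfsg.Agent.LsF.dOr_eq, Cfsg.Agent.LsF.dFinEq_eq, Cfsg.Agent.LsF.dAllP_eq, Cfsg.Agent.LsF.decide_eq])); decide +kernel)

theorem zero_of (h : Fin 4 → ZMod 5) (c : ZMod 5) {m : M5} (hm : diagonal h * m = c • (m * diagonal h)) {i j : Fin 4}
    (hij : h i ≠ c * h j) : m i j = 0 := by
  have h1 := congrFun (congrFun hm i) j
  rw [diagonal_mul, Matrix.smul_apply, mul_diagonal, smul_eq_mul] at h1
  have h2 : (h i - c * h j) * m i j = 0 := by linear_combination h1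
  have : Fact (Nat.Prime 5) := ⟨by norm_num⟩
  rcases mul_eq_zero.1 h2 with h3 | h3
  · exact absurd (sub_eq_zero.1 h3) hij
  · exact h3

theorem mh2_eq : mh2 = diagonal ![3, 1, 2, 4] := by decide +kernel

/-- **the first element is `± x 1`** -/
theorem first {L R : Subgroup M5ˣ} (hL : Hyp L) (hRL : R ≤ L) (hn : ∀ g ∈ L, ∀ r ∈ R, g * r * g⁻¹ ∈ R)
    (hcard : Nat.card R = 32) (hneg : -1 ∈ R) (hsq : ∀ r ∈ R, r ^ 2 = 1 ∨ r ^ 2 = -1)
    (hcomm : ∀ r ∈ R, ∀ s ∈ R, r * s = s * r ∨ r * s = - (s * r)) (hh : ∀ r ∈ R, gh2 * r * gh2⁻¹ ∈ R) : x 1 ∈ R := by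
  obtain ⟨r, hr, hr1, hr2⟩ := exists_fix hcard hsq hh
  have hA : ∀ k : ℕ, gA ^ k * r * (gA ^ k)⁻¹ ∈ R := fun k => hn _ (L.pow_mem hL.memA k) r hr
  have hAinv : ((gA⁻¹ : M5ˣ) : M5) = mA ^ 4 := rfl
  have hA2 : (((gA ^ 2)⁻¹ : M5ˣ) : M5) = mA ^ 3 := by
    have h5 : gA ^ 5 = 1 := Units.ext (by rw [Units.val_pow_eq_pow_val]; exact mA5)
    have h6 : (gA ^ 2)⁻¹ = gA ^ 3 := by
      rw [inv_eq_iff_mul_eq_one, ← pow_add]
      exact h5
    rw [h6, Units.val_pow_eq_pow_val]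
    rfl
  have hgood : Good (r : M5) := by
    refine ⟨?_, hL.iso r (hRL hr), ?_, ?_⟩
    · rcases hsq r hr with h | h
      · left
        have := congrArg Units.val h
        rwa [sq, Units.val_mul, Units.val_one] at this
      · right
        have := congrArg Units.val h
        rwa [sq, Units.val_mul, Units.val_neg, Units.val_one] at this
    · have h1 := hA 1
      rw [pow_one] at h1
      rcases hcomm r hr _ h1 with h | h
      · left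
        have h2 := congrArg Units.val h
        simp only [Units.val_mul, hAinv] at h2
        exact h2
      · right
        have h2 := congrArg Units.val h
        simp only [Units.val_mul, Units.val_neg, hAinv] at h2
        exact h2
    · have h1 := hA 2
      rcases hcomm r hr _ h1 with h | h
      · left
        have h2 := congrArg Units.val h
        simp only [Units.val_mul, hA2, Units.val_pow_eq_pow_val] at h2
        exact h2
      · right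
        have h2 := congrArg Units.val h
        simp only [Units.val_mul, Units.val_neg, hA2, Units.val_pow_eq_pow_val] at h2
        exact h2
  have key : x 1 = r ∨ x 1 = - r := by
    rcases hr2 with h | h
    · -- diagonal
      exfalso
      rw [mul_inv_eq_iff_eq_mul] at h
      have h3 : mh2 * (r : M5) = (1 : ZMod 5) • ((r : M5) * mh2) := by
        rw [one_smul]
        exact congrArg Units.val h
      rw [mh2_eq] at h3
      have h4 : (r : M5) = dg ((r : M5) 0 0) ((r : M5) 1 1) ((r : M5) 2 2) ((r : M5) 3 3) := by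
        ext i j
        fin_cases i <;> fin_cases j <;> first | rfl | exact zero_of _ _ h3 (by decide +kernel)
      have h5 := cand_diag ((r : M5) 0 0) ((r : M5) 1 1) ((r : M5) 2 2) ((r : M5) 3 3) (by rw [← h4]; exact hgood)
      rw [← h4] at h5
      apply hr1
      rcases h5 with h5 | h5
      · exact Or.inl (Units.ext h5)
      · exact Or.inr (Units.ext h5)
    · -- the other shape
      rw [mul_inv_eq_iff_eq_mul] at h
      have h3 : mh2 * (r : M5) = (-1 : ZMod 5) • ((r : M5) * mh2) := by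
        rw [neg_smul, one_smul, ← neg_mul]
        exact congrArg Units.val h
      rw [mh2_eq] at h3
      have h4 : (r : M5) = ad ((r : M5) 0 2) ((r : M5) 1 3) ((r : M5) 2 0) ((r : M5) 3 1) := by
        ext i j
        fin_cases i <;> fin_cases j <;> first | rfl | exact zero_of _ _ h3 (by decide +kernel)
      have h5 := cand_anti ((r : M5) 0 2) ((r : M5) 1 3) ((r : M5) 2 0) ((r : M5) 3 1) (by rw [← h4]; exact hgood)
      rw [← h4] at h5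
      rcases h5 with h5 | h5
      · exact Or.inl (Units.ext h5.symm)
      · refine Or.inr (Units.ext ?_)
        rw [Units.val_neg, h5, neg_neg]
        rfl
  rcases key with h | h
  · rw [h]; exact hr
  · rw [h, ← neg_one_mul]; exact R.mul_mem hneg hr

/-- all elements lie in `R` -/
theorem all_mem {R : Subgroup M5ˣ} (hn : ∀ r ∈ R, gA * r * gA⁻¹ ∈ R) (h1 : x 1 ∈ R) : ∀ k, x k ∈ R := by
  have e2 : gA * x 1 * gA⁻¹ = x 2 := by
    rw [mul_inv_eq_iff_eq_mul]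
    exact Units.ext (by decide +kernel)
  have e4 : gA * x 2 * gA⁻¹ = x 4 := by
    rw [mul_inv_eq_iff_eq_mul]
    exact Units.ext (by decide +kernel)
  have e8 : gA * x 4 * gA⁻¹ = x 8 := by
    rw [mul_inv_eq_iff_eq_mul]
    exact Units.ext (by decide +kernel)
  have h2 : x 2 ∈ R := e2 ▸ hn _ h1
  have h4 : x 4 ∈ R := e4 ▸ hn _ h2
  have h8 : x 8 ∈ R := e8 ▸ hn _ h4
  exact x_mem h1 h2 h4 h8

/-! ### the permutation action -/

def ix : Fin 5 → Fin 16 := ![1, 2, 4, 8, 15]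

/-- `g` maps the class `i` to the class `j` -/
def P (g : M5ˣ) (i j : Fin 5) : Prop := E (g * x (ix i)) (x (ix j) * g)

theorem ix_inj : ∀ i j : Fin 5, (X (ix i) = X (ix j) ∨ X (ix i) = - X (ix j)) → i = j := by decide +kernel

theorem P.mul {g h : M5ˣ} {i j k : Fin 5} (h1 : P h i j) (h2 : P g j k) : P (g * h) i k := by
  unfold P at *
  have h3 := (E.refl g).mul h1
  have h4 := h2.mul (E.refl h)
  rw [← mul_assoc, ← mul_assoc] at h3
  rw [mul_assoc (x (ix k))] at h4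
  exact h3.trans h4

theorem P.inv {g : M5ˣ} {i j : Fin 5} (h : P g i j) : P g⁻¹ j i := by
  unfold P at *
  have h1 := ((E.refl g⁻¹).mul h).mul (E.refl g⁻¹)
  rw [inv_mul_cancel_left, mul_assoc g⁻¹, mul_inv_cancel_right] at h1
  exact h1.symm

theorem P.unique {g : M5ˣ} {i j k : Fin 5} (h1 : P g i j) (h2 : P g i k) : j = k := by
  unfold P at *
  have h3 := (h1.symm.trans h2).mul (E.refl g⁻¹)
  rw [mul_inv_cancel_right, mul_inv_cancel_right] at h3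
  apply ix_inj
  rcases h3 with h | h
  · exact Or.inl (congrArg Units.val h)
  · exact Or.inr (congrArg Units.val h)

theorem P.one (i : Fin 5) : P 1 i i := by
  unfold P
  rw [one_mul, mul_one]
  exact E.refl _

theorem P_A : ∀ i : Fin 5, P gA i (i + 1) := by
  have h : ∀ i : Fin 5, mA * X (ix i) = X (ix (i + 1)) * mA ∨ mA * X (ix i) = - (X (ix (i + 1)) * mA) := by
    (delta Cfsg.Agent.H29.Q5M.X; set_option synthInstance.maxSize 20000 in open scoped Cfsg.Agent.Lib.MatDec in decide +kernel)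
  intro i
  rcases h i with h | h
  · exact Or.inl (Units.ext h)
  · exact Or.inr (Units.ext h)

def sB : Fin 5 → Fin 5 := ![4, 0, 3, 1, 2]

private noncomputable def _root_.Cfsg.Agent.LsF.f6801f4_6 : {f // @Cfsg.Agent.H24.Q5.mB = f} := ⟨_, by first | (delta Cfsg.Agent.H24.Q5.mB; rewrite [Cfsg.Agent.LsF.mof_pat, Cfsg.Agent.LsF.vecCons_eq]; exact rfl) | exact rfl⟩
private noncomputable def _root_.Cfsg.Agent.LsF.f6801f4_7 : {f // @Cfsg.Agent.H29.Q5M.ix = f} := ⟨_, by first | (delta Cfsg.Agent.H29.Q5M.ix; rewrite [Cfsg.Agent.LsF.vecCons_eq]; exact rfl) | exact rfl⟩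
private noncomputable def _root_.Cfsg.Agent.LsF.f6801f4_8 : {f // @Cfsg.Agent.H29.Q5M.sB = f} := ⟨_, by first | (delta Cfsg.Agent.H29.Q5M.sB; rewrite [Cfsg.Agent.LsF.vecCons_eq]; exact rfl) | exact rfl⟩
theorem P_B : ∀ i : Fin 5, P gB i (sB i) := by
  have h : ∀ i : Fin 5, mB * X (ix i) = X (ix (sB i)) * mB ∨ mB * X (ix i) = - (X (ix (sB i)) * mB) := by
    (refine of_decide_eq_true ?_; (try (rewrite [Cfsg.Agent.LsF.mmulF_pat, Cfsg.Agent.LsF.mneg_pat, Cfsg.Agent.LsF.f6801f4_6.2, Cfsg.Agent.LsF.f6801f4_0.2, Cfsg.Agent.LsF.f6801f4_7.2, Cfsg.Agent.LsF.f6801f4_8.2, Cfsg.Agent.LsF.zadd_pat, Cfsg.Agent.LsF.zmul_pat, Cfsg.Agent.LsF.zneg_pat, Cfsg.Agent.LsF.zdecEq_eq, Cfsg.Agent.LsF.finFintype_eq, Cfsg.Agent.LsF.dMat_eq, Cfsg.Agent.LsF.zACM_pat, Cfsg.Agent.LsF.dOr_eq, Cfsg.Agent.LsF.dForallFin_eq, Cfsg.Agent.LsF.decide_eq])); decide +kernel)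
  intro i
  rcases h i with h | h
  · exact Or.inl (Units.ext h)
  · exact Or.inr (Units.ext h)

/-- the involutions of `R` -/
theorem sq_one : ∀ k : Fin 16, X k * X k = 1 → k = 0 ∨ ∃ j, k = ix j := by (refine of_decide_eq_true ?_; (try (rewrite [Cfsg.Agent.LsF.mmulF_pat, Cfsg.Agent.LsF.f6801f4_0.2, Cfsg.Agent.LsF.f6801f4_7.2, Cfsg.Agent.LsF.zadd_pat, Cfsg.Agent.LsF.zmul_pat, Cfsg.Agent.LsF.zdecEq_eq, Cfsg.Agent.LsF.finFintype_eq, Cfsg.Agent.LsF.dMat_eq, Cfsg.Agent.LsF.instMOne_eq, Cfsg.Agent.LsF.zACM_pat, Cfsg.Agent.LsF.dOr_eq, Cfsg.Agent.LsF.dFinEq_eq, Cfsg.Agent.LsF.dForallFin_eq, Cfsg.Agent.LsF.dExistsFin_eq, Cfsg.Agent.LsF.dAllP_eq, Cfsg.Agent.LsF.decide_eq])); decide +kernel)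

theorem ix_sq : ∀ j : Fin 5, X (ix j) * X (ix j) = 1 := by (delta Cfsg.Agent.H29.Q5M.X; set_option synthInstance.maxSize 20000 in open scoped Cfsg.Agent.Lib.MatDec in decide +kernel)

theorem ix_ne : ∀ j : Fin 5, X (ix j) ≠ 1 ∧ X (ix j) ≠ -1 := by decide +kernel

theorem exists_P {L R : Subgroup M5ˣ} (hn : ∀ g ∈ L, ∀ r ∈ R, g * r * g⁻¹ ∈ R) (hx : ∀ k, x k ∈ R)
    (hy : ∀ g ∈ R, ∃ k, g = x k ∨ g = - x k) {g : M5ˣ} (hg : g ∈ L) (i : Fin 5) : ∃ j, P g i j := by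
  obtain ⟨k, hk⟩ := hy _ (hn g hg _ (hx (ix i)))
  have hE : E (g * x (ix i) * g⁻¹) (x k) := hk
  have h1 : x (ix i) * x (ix i) = 1 := Units.ext (ix_sq i)
  have h2 : x k * x k = 1 := by
    have h3 : (g * x (ix i) * g⁻¹) * (g * x (ix i) * g⁻¹) = 1 := by
      have : (g * x (ix i) * g⁻¹) * (g * x (ix i) * g⁻¹) = g * (x (ix i) * x (ix i)) * g⁻¹ := by group
      rw [this, h1, mul_one, mul_inv_cancel]
    rcases hk with h | h
    · rw [h] at h3; exact h3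
    · rw [h, neg_mul_neg] at h3; exact h3
  rcases sq_one k (congrArg Units.val h2) with h | ⟨j, h⟩
  · exfalso
    subst h
    have e0 : x 0 = 1 := Units.ext (by decide +kernel)
    rw [e0] at hE
    have h4 : E (x (ix i)) 1 := by
      have h5 := ((E.refl g⁻¹).mul hE).mul (E.refl g)
      rw [mul_one, inv_mul_cancel, mul_assoc g, inv_mul_cancel_left, inv_mul_cancel_right] at h5
      exact h5
    rcases h4 with h4 | h4
    · exact (ix_ne i).1 (congrArg Units.val h4)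
    · exact (ix_ne i).2 (congrArg Units.val h4)
  · subst h
    refine ⟨j, ?_⟩
    unfold P
    have h5 := hE.mul (E.refl g)
    rwa [inv_mul_cancel_right] at h5

/-- the action -/
theorem exists_hom {L : Subgroup M5ˣ} (h : ∀ g ∈ L, ∀ i, ∃ j, P g i j) :
    ∃ φ : L →* Perm (Fin 5), ∀ (g : L) (i : Fin 5), P g i (φ g i) := by
  classical
  let act : L → Fin 5 → Fin 5 := fun g i => (h g g.2 i).choose
  have hact : ∀ (g : L) (i : Fin 5), P g i (act g i) := fun g i => (h g g.2 i).choose_spec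
  let inst : MulAction L (Fin 5) :=
    { smul := act
      one_smul := fun i => (hact 1 i).unique (P.one i)
      mul_smul := fun g k i => (hact (g * k) i).unique ((hact k i).mul (hact g (act k i))) }
  refine ⟨MulAction.toPermHom L (Fin 5), fun g i => ?_⟩
  exact hact g i

/-- the sixteen sign patterns -/
theorem signs : ∀ b : Fin 4 → Bool, ∃ k : Fin 16, ∀ i : Fin 4,
    if b i then X k * X (ix i.castSucc) = X (ix i.castSucc) * X k
      else X k * X (ix i.castSucc) = - (X (ix i.castSucc) * X k) := by (refine of_decide_eq_true ?_; (try (rewrite [Cfsg.Agent.LsF.mmulF_pat, Cfsg.Agent.LsF.mneg_pat, Cfsg.Agent.LsF.piFintype_pat, Cfsg.Agent.LsF.f6801f4_0.2, Cfsg.Agent.LsF.f6801f4_7.2, Cfsg.Agent.LsF.zadd_pat, Cfsg.Agent.LsF.zmul_pat, Cfsg.Agent.LsF.zneg_pat, Cfsg.Agent.LsF.zdecEq_eq, Cfsg.Agent.LsF.finFintype_eq, Cfsg.Agent.LsF.dForall_eq, Cfsg.Agent.LsF.dMat_eq, Cfsg.Agent.LsF.zACM_pat,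 Cfsg.Agent.LsF.dBoolEq_eq, Cfsg.Agent.LsF.dForallFin_eq, Cfsg.Agent.LsF.dExistsFin_eq, Cfsg.Agent.LsF.decide_eq])); decide +kernel)

theorem single_eq : ∀ i j : Fin 4, i ≠ j →
    Matrix.single i j (1 : ZMod 5) = ∑ k : Fin 16, (-(e k * X k j i)) • X k := by (refine of_decide_eq_true ?_; (try (delta Matrix.single; rewrite [Cfsg.Agent.LsF.sumF_pat, Cfsg.Agent.LsF.msmul_pat, Cfsg.Agent.LsF.f6801f4_1.2, Cfsg.Agent.LsF.f6801f4_0.2, Cfsg.Agent.LsF.mof_pat, Cfsg.Agent.LsF.zmul_pat, Cfsg.Agent.LsF.zneg_pat, Cfsg.Agent.LsF.zdecEq_eq, Cfsg.Agent.LsF.finFintype_eq, Cfsg.Agent.LsF.dMat_eq, Cfsg.Agent.LsF.zACM_pat, Cfsg.Agent.LsF.dAnd_eq, Cfsg.Agent.LsF.dNot_eq, Cfsg.Agent.LsF.dFinEq_eq, Cfsg.Agent.LsF.dForallFin_eq, Cfsg.Agent.LsF.dAllP_eq, Cfsg.Agent.LsF.ite_eq, Cfsg.Agent.LsF.decide_eq])); decide +kernel)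

theorem X_iso : ∀ k : Fin 16, (X k)ᵀ * Om * X k = Om := by (refine of_decide_eq_true ?_; (try (rewrite [Cfsg.Agent.LsF.mmulF_pat, Cfsg.Agent.LsF.f6801f4_0.2, Cfsg.Agent.LsF.f6801f4_3.2, Cfsg.Agent.LsF.zadd_pat, Cfsg.Agent.LsF.zmul_pat, Cfsg.Agent.LsF.zdecEq_eq, Cfsg.Agent.LsF.finFintype_eq, Cfsg.Agent.LsF.dMat_eq, Cfsg.Agent.LsF.transpose_eq, Cfsg.Agent.LsF.zACM_pat, Cfsg.Agent.LsF.dForallFin_eq, Cfsg.Agent.LsF.decide_eq])); decide +kernel)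

theorem E.inv_left {a b : M5ˣ} (h : a * b = b * a) : a⁻¹ * b = b * a⁻¹ := by
  rw [inv_mul_eq_iff_eq_mul, ← mul_assoc, h, mul_inv_cancel_right]

/-- **the kernel** -/
theorem kernel {g : M5ˣ} (hiso : (g : M5)ᵀ * Om * g = Om) (hP : ∀ i, P g i i) : ∃ k, g = x k ∨ g = - x k := by
  classical
  obtain ⟨k, hk⟩ := signs fun i => decide (g * x (ix i.castSucc) = x (ix i.castSucc) * g)
  obtain ⟨u, hu⟩ : ∃ u, u = (x k)⁻¹ * g := ⟨_, rfl⟩
  have hgu : g = x k * u := by rw [hu, mul_inv_cancel_left]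
  have hcomm : ∀ i : Fin 4, u * x (ix i.castSucc) = x (ix i.castSucc) * u := by
    intro i
    have h1 := hk i
    by_cases hb : g * x (ix i.castSucc) = x (ix i.castSucc) * g
    · rw [if_pos (decide_eq_true hb)] at h1
      have h2 : x k * x (ix i.castSucc) = x (ix i.castSucc) * x k := Units.ext h1
      rw [hu, mul_assoc, hb, ← mul_assoc, E.inv_left h2, mul_assoc]
    · rw [if_neg (by rw [decide_eq_false hb]; exact Bool.false_ne_true)] at h1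
      have h2 : x k * x (ix i.castSucc) = - (x (ix i.castSucc) * x k) := Units.ext h1
      have h3 : g * x (ix i.castSucc) = - (x (ix i.castSucc) * g) := by
        rcases hP i.castSucc with h | h
        · exact absurd h hb
        · exact h
      have h4 : (x k)⁻¹ * x (ix i.castSucc) = - (x (ix i.castSucc) * (x k)⁻¹) := by
        rw [inv_mul_eq_iff_eq_mul, mul_neg, ← mul_assoc, h2, neg_mul, neg_neg, mul_inv_cancel_right]
      rw [hu, mul_assoc, h3, mul_neg, ← mul_assoc, h4, neg_mul, neg_neg, mul_assoc]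
  -- all elements commute with `u`
  have hall : ∀ l, x l ∈ Subgroup.centralizer ({u} : Set M5ˣ) := by
    have hm : ∀ i : Fin 4, x (ix i.castSucc) ∈ Subgroup.centralizer ({u} : Set M5ˣ) := by
      intro i
      rw [Subgroup.mem_centralizer_singleton_iff]
      exact (hcomm i).symm
    exact x_mem (hm 0) (hm 1) (hm 2) (hm 3)
  have hX : ∀ l, Commute (u : M5) (X l) := by
    intro l
    have h1 := Subgroup.mem_centralizer_singleton_iff.1 (hall l)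
    exact (congrArg Units.val h1).symm
  have hsc : (u : M5) ∈ Set.range (Matrix.scalar (Fin 4)) := by
    apply Matrix.mem_range_scalar_of_commute_single
    intro i j hij
    rw [single_eq i j hij]
    exact (Commute.sum_right _ _ _ fun l _ => (hX l).smul_right _).symm
  obtain ⟨c, hc⟩ := hsc
  have hiso' : (u : M5)ᵀ * Om * u = Om := by
    have h1 : ((x k : M5) * (u : M5))ᵀ * Om * ((x k : M5) * (u : M5)) = Om := by
      rw [← Units.val_mul, ← hgu]; exact hiso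
    rw [Matrix.transpose_mul, Matrix.mul_assoc, Matrix.mul_assoc, ← Matrix.mul_assoc Om, ← Matrix.mul_assoc (x k : M5)ᵀ,
      ← Matrix.mul_assoc (x k : M5)ᵀ, show (x k : M5)ᵀ * Om * (x k : M5) = Om from X_iso k, ← Matrix.mul_assoc] at h1
    exact h1
  have hcc : c * c = 1 := by
    rw [← hc] at hiso'
    have h1 := congrFun (congrFun hiso' 0) 3
    rw [Matrix.scalar_apply, Matrix.diagonal_transpose, Matrix.mul_diagonal, Matrix.diagonal_mul] at h1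
    have h2 : Om 0 3 = 1 := rfl
    rw [h2, mul_one] at h1
    exact h1
  have hdec : ∀ c : ZMod 5, c * c = 1 → c = 1 ∨ c = -1 := by decide
  have hc2 := hdec c hcc
  refine ⟨k, ?_⟩
  rcases hc2 with h | h
  · left
    have h1 : u = 1 := Units.ext (by rw [← hc, h, map_one]; rfl)
    rw [hgu, h1, mul_one]
  · right
    have h1 : u = -1 := Units.ext (by rw [← hc, h, map_neg, map_one]; rfl)
    rw [hgu, h1, mul_neg, mul_one]

/-! ### the two groups -/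

theorem order_A : orderOf gA = 5 := by
  have : Fact (Nat.Prime 5) := ⟨by norm_num⟩
  refine orderOf_eq_prime (Units.ext (by rw [Units.val_pow_eq_pow_val]; exact mA5)) fun h => ?_
  exact absurd (congrArg Units.val h) (by decide +kernel)

theorem x_mem_LR : ∀ k, x k ∈ LR := by
  have hA : gA ∈ LR := Subgroup.subset_closure (by simp)
  have hR : gR ∈ LR := Subgroup.subset_closure (by simp)
  apply all_mem fun r hr => LR.mul_mem (LR.mul_mem hA hr) (LR.inv_mem hA)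
  have h1 : x 1 = gA * gR * gA * gR * gA ^ 4 * gR := Units.ext (by (delta Cfsg.Agent.H29.Q5M.x Cfsg.Agent.H24.Q5.gA Cfsg.Agent.H24.Q5.gR Cfsg.Agent.H29.Q5M.X Cfsg.Agent.H29.Q5M.e Cfsg.Agent.H24.Q5.un; set_option synthInstance.maxSize 20000 in open scoped Cfsg.Agent.Lib.MatDec in decide +kernel))
  rw [h1]
  exact LR.mul_mem (LR.mul_mem (LR.mul_mem (LR.mul_mem (LR.mul_mem hA hR) hA) hR) (LR.pow_mem hA 4)) hR

theorem x_mem_LB : ∀ k, x k ∈ LB := by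
  have hA : gA ∈ LB := Subgroup.subset_closure (by simp)
  have hB : gB ∈ LB := Subgroup.subset_closure (by simp)
  apply all_mem fun r hr => LB.mul_mem (LB.mul_mem hA hr) (LB.inv_mem hA)
  have h1 : x 1 = gB * gA ^ 2 * gB ^ 2 * gA ^ 2 * gB := Units.ext (by (delta Cfsg.Agent.H29.Q5M.x Cfsg.Agent.H24.Q5.gB Cfsg.Agent.H24.Q5.gA Cfsg.Agent.H24.Q5.un; set_option synthInstance.maxSize 20000 in open scoped Cfsg.Agent.Lib.MatDec in decide +kernel))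
  rw [h1]
  exact LB.mul_mem (LB.mul_mem (LB.mul_mem (LB.mul_mem hB (LB.pow_mem hA 2)) (LB.pow_mem hB 2)) (LB.pow_mem hA 2)) hB

theorem neg_mem_of {K : Subgroup M5ˣ} (h : ∀ k, x k ∈ K) : -1 ∈ K := by
  have h1 : (-1 : M5ˣ) = x 3 * x 3 := Units.ext (by decide +kernel)
  rw [h1]
  exact K.mul_mem (h 3) (h 3)

theorem le_of {R K : Subgroup M5ˣ} (hy : ∀ g ∈ R, ∃ k, g = x k ∨ g = - x k) (h : ∀ k, x k ∈ K) : R ≤ K := by
  intro g hg
  obtain ⟨k, hk | hk⟩ := hy g hg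
  · rw [hk]; exact h k
  · rw [hk, ← neg_one_mul]; exact K.mul_mem (neg_mem_of h) (h k)

theorem case160 {L R : Subgroup M5ˣ} (hA : gA ∈ L) (hRL : R ≤ L) (hcardR : Nat.card R = 32)
    (hx : ∀ k, x k ∈ R) (hy : ∀ g ∈ R, ∃ k, g = x k ∨ g = - x k) (hcard : Nat.card L = 160) : L = LR := by
  have : Finite L := Nat.finite_of_card_ne_zero (by rw [hcard]; norm_num)
  have hle : LR ≤ L := by
    unfold LR
    rw [Subgroup.closure_le]
    rintro g (rfl | rfl)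
    · exact hA
    · have h1 : gR = x 9 * gA ^ 3 := Units.ext (by (delta Cfsg.Agent.H24.Q5.gR Cfsg.Agent.H29.Q5M.x Cfsg.Agent.H24.Q5.gA Cfsg.Agent.H24.Q5.un; set_option synthInstance.maxSize 20000 in open scoped Cfsg.Agent.Lib.MatDec in decide +kernel))
      rw [h1]
      exact L.mul_mem (hRL (hx 9)) (L.pow_mem hA 3)
  have : Finite LR := Finite.of_injective _ (Subgroup.inclusion_injective hle)
  have h32 : 32 ∣ Nat.card LR := hcardR ▸ Subgroup.card_dvd_of_le (le_of hy x_mem_LR)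
  have h5 : 5 ∣ Nat.card LR := by
    have hAm : gA ∈ LR := Subgroup.subset_closure (by simp)
    have h1 : orderOf (⟨gA, hAm⟩ : LR) ∣ Nat.card LR := orderOf_dvd_natCard _
    rwa [Subgroup.orderOf_mk, order_A] at h1
  have h160 : 160 ∣ Nat.card LR := (show Nat.Coprime 32 5 by norm_num).mul_dvd_of_dvd_of_dvd h32 h5
  have hpos : 0 < Nat.card LR := Nat.card_pos
  exact (Subgroup.eq_of_le_of_card_ge hle (by rw [hcard]; exact Nat.le_of_dvd hpos h160)).symm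

def sAp : Perm (Fin 5) := ⟨fun i => i + 1, fun i => i - 1, by decide, by decide⟩

def sBp : Perm (Fin 5) := ⟨sB, ![1, 3, 4, 2, 0], by decide, by decide⟩

/-- the value of a word -/
def ev (w : List Bool) : Perm (Fin 5) := (w.map fun b => if b then sAp else sBp).prod

def words : List (List Bool) := (beta% delta% lq26321636b6 fun _ _ _ _ _ _ l m n o p q =>
 (let i:=(let i:=(let i:=(let i:=(p (l m<|l n<|l m<|l m<|l m<|l n<|o)<|p (l m<|l n<|l m<|l m<|l m<|l m<|o)<|p (l n<|l n<|l m<|l m<|l m<|l n<|l n<|o)<|p (l n<|l n<|l m<|l m<|l m<|l n<|l m<|o)<|o);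
 (p (l n<|l n<|l m<|l m<|l m<|l n<|o)<|p (l n<|l n<|l m<|l m<|l m<|l m<|o)<|p (l n<|l m<|l m<|l m<|l n<|l n<|o)<|p (l n<|l m<|l m<|l m<|l n<|l m<|o)<|i));
 (p (l m<|l n<|l m<|l m<|l m<|o)<|p (l m<|l m<|l n<|l n<|l n<|o)<|p (l m<|l m<|l n<|l n<|l m<|o)<|p (l m<|l m<|l m<|l n<|l n<|o)<|p (l m<|l m<|l m<|l n<|l m<|o)<|p (l n<|l n<|l n<|l n<|l m<|l n<|o)<|p (l n<|l n<|l n<|l n<|l m<|l m<|o)<|i));
 (let i:=(let i:=(p (l n<|l m<|l m<|l m<|l m<|o)<|p (l m<|l n<|l n<|l m<|l n<|o)<|p (l m<|l n<|l n<|l m<|l m<|o)<|p (l m<|l n<|l m<|l m<|l n<|o)<|i);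
 (p (l n<|l m<|l n<|l n<|l m<|o)<|p (l n<|l m<|l m<|l n<|l n<|o)<|p (l n<|l m<|l m<|l n<|l m<|o)<|p (l n<|l m<|l m<|l m<|l n<|o)<|i));
 (p (l m<|l m<|l m<|l m<|o)<|p (l n<|l n<|l n<|l n<|l m<|o)<|p (l n<|l n<|l n<|l m<|l n<|o)<|p (l n<|l n<|l n<|l m<|l m<|o)<|p (l n<|l n<|l m<|l m<|l n<|o)<|p (l n<|l n<|l m<|l m<|l m<|o)<|p (l n<|l m<|l n<|l n<|l n<|o)<|i)));
 (let i:=(let i:=(let i:=(p (l m<|l n<|l m<|l m<|o)<|p (l m<|l m<|l n<|l n<|o)<|p (l m<|l m<|l n<|l m<|o)<|p (l m<|l m<|l m<|l n<|o)<|i);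
 (p (l n<|l m<|l m<|l m<|o)<|p (l m<|l n<|l n<|l n<|o)<|p (l m<|l n<|l n<|l m<|o)<|p (l m<|l n<|l m<|l n<|o)<|i));
 (p (l n<|l n<|l n<|l n<|o)<|p (l n<|l n<|l n<|l m<|o)<|p (l n<|l n<|l m<|l n<|o)<|p (l n<|l n<|l m<|l m<|o)<|p (l n<|l m<|l n<|l n<|o)<|p (l n<|l m<|l n<|l m<|o)<|p (l n<|l m<|l m<|l n<|o)<|i));
 (let i:=(let i:=(p (l m<|l n<|l n<|o)<|p (l m<|l n<|l m<|o)<|p (l m<|l m<|l n<|o)<|p (l m<|l m<|l m<|o)<|i);
 (p (l n<|l n<|l n<|o)<|p (l n<|l n<|l m<|o)<|p (l n<|l m<|l n<|o)<|p (l n<|l m<|l m<|o)<|i));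
 (l (o :type_of% (q _))<|l (l n<|o)<|l (l m<|o)<|l (l n<|l n<|o)<|l (l n<|l m<|o)<|l (l m<|l n<|o)<|l (l m<|l m<|o)<|i)))))

private noncomputable def _root_.Cfsg.Agent.LsF.f6801f4_9 : {f // @Cfsg.Agent.H29.Q5M.ev = f} := ⟨_, by first | (delta Cfsg.Agent.H29.Q5M.ev; rewrite [Cfsg.Agent.LsF.map_eq, Cfsg.Agent.LsF.prod_eq, Cfsg.Agent.LsF.dBoolEq_eq, Cfsg.Agent.LsF.ite_eq]; exact rfl) | exact rfl⟩
theorem card_words : (words.map ev).toFinset.card = 60 := by (refine of_decide_eq_true ?_; (try (rewrite [Cfsg.Agent.LsF.f6801f4_9.2, Cfsg.Agent.LsF.finFintype_eq, Cfsg.Agent.LsF.fcard_eq, Cfsg.Agent.LsF.toFinset_eq, Cfsg.Agent.LsF.instDecEq_eq, Cfsg.Agent.LsF.map_eq, Cfsg.Agent.LsF.dFinEq_eq, Cfsg.Agent.LsF.decide_eq])); decide +kernel)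

theorem card_ge {K : Subgroup (Perm (Fin 5))} (hA : sAp ∈ K) (hB : sBp ∈ K) : 60 ≤ Nat.card K := by
  have hsub : ((words.map ev).toFinset : Set (Perm (Fin 5))) ⊆ K := by
    intro g hg
    rw [Finset.mem_coe, List.mem_toFinset, List.mem_map] at hg
    obtain ⟨w, -, rfl⟩ := hg
    unfold ev
    apply K.list_prod_mem
    intro h hh
    rw [List.mem_map] at hh
    obtain ⟨b, -, rfl⟩ := hh
    cases b
    · exact hB
    · exact hA
  have h1 := Set.ncard_le_ncard hsub (Set.toFinite _)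
  rw [Set.ncard_coe_finset, card_words] at h1
  exact h1

theorem sign_B : sBp ∈ alternatingGroup (Fin 5) := by
  rw [Equiv.Perm.mem_alternatingGroup]
  decide +kernel

/-- the kernel of the action -/
theorem ker_card {K R : Subgroup M5ˣ} (hRK : R ≤ K) (hcardR : Nat.card R = 32)
    (hK : ∀ g ∈ K, (g : M5)ᵀ * Om * g = Om) (hx : ∀ k, x k ∈ R)
    (hneg : -1 ∈ R) (hcomm : ∀ r ∈ R, ∀ s ∈ R, r * s = s * r ∨ r * s = - (s * r)) (φ : K →* Perm (Fin 5))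
    (hφ : ∀ (g : K) (i : Fin 5), P g i (φ g i)) : Nat.card K = 32 * Nat.card φ.range := by
  have hker : φ.ker = R.subgroupOf K := by
    ext g
    rw [MonoidHom.mem_ker, Subgroup.mem_subgroupOf]
    constructor
    · intro hg
      have hP : ∀ i, P (g : M5ˣ) i i := by
        intro i
        have := hφ g i
        rwa [hg, Perm.one_apply] at this
      obtain ⟨k, hk | hk⟩ := kernel (hK g g.2) hP
      · rw [hk]; exact hx k
      · rw [hk, ← neg_one_mul]; exact R.mul_mem hneg (hx k)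
    · intro hg
      ext i
      have h1 : P (g : M5ˣ) i i := hcomm _ hg _ (hx _)
      rw [(hφ g i).unique h1, Perm.one_apply]
  have h1 := φ.ker.card_mul_index
  rw [Subgroup.index_ker, hker] at h1
  rw [← h1, ← hcardR]
  congr 1
  exact Nat.card_congr (Subgroup.subgroupOfEquivOfLe hRK).toEquiv

theorem iso_mul {g h : M5ˣ} (hg : (g : M5)ᵀ * Om * g = Om) (hh : (h : M5)ᵀ * Om * h = Om) :
    ((g * h : M5ˣ) : M5)ᵀ * Om * (g * h : M5ˣ) = Om := by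
  rw [Units.val_mul, Matrix.transpose_mul]
  calc (h : M5)ᵀ * (g : M5)ᵀ * Om * ((g : M5) * h) = (h : M5)ᵀ * ((g : M5)ᵀ * Om * g) * h := by
        simp only [Matrix.mul_assoc]
    _ = Om := by rw [hg, hh]

theorem case1920 {L R : Subgroup M5ˣ} (hL : Hyp L) (hRL : R ≤ L) (hn : ∀ g ∈ L, ∀ r ∈ R, g * r * g⁻¹ ∈ R)
    (hcardR : Nat.card R = 32) (hneg : -1 ∈ R)
    (hcomm : ∀ r ∈ R, ∀ s ∈ R, r * s = s * r ∨ r * s = - (s * r))
    (hx : ∀ k, x k ∈ R) (hy : ∀ g ∈ R, ∃ k, g = x k ∨ g = - x k) (hcard : Nat.card L = 1920) : L = LB := by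
  have : Finite L := Nat.finite_of_card_ne_zero (by rw [hcard]; norm_num)
  obtain ⟨φ, hφ⟩ := exists_hom fun g hg i => exists_P hn hx hy hg i
  have h1 := ker_card hRL hcardR hL.iso hx hneg hcomm φ hφ
  rw [hcard] at h1
  have h60 : Nat.card φ.range = 60 := by omega
  have hidx : φ.range.index = 2 := by
    have h2 := φ.range.card_mul_index
    rw [h60, Nat.card_perm, Nat.card_fin] at h2
    have h3 : Nat.factorial 5 = 120 := rfl
    omega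
  have hrange : φ.range = alternatingGroup (Fin 5) := Equiv.Perm.eq_alternatingGroup_of_index_eq_two hidx
  have hB : gB ∈ L := by
    have h2 : sBp ∈ φ.range := by rw [hrange]; exact sign_B
    obtain ⟨g, hg⟩ := h2
    have hP : ∀ i, P ((g : M5ˣ)⁻¹ * gB) i i := by
      intro i
      have h3 := hφ g i
      rw [hg] at h3
      exact (P_B i).mul h3.inv
    have hiso : (((g : M5ˣ)⁻¹ * gB : M5ˣ) : M5)ᵀ * Om * ((g : M5ˣ)⁻¹ * gB : M5ˣ) = Om :=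
      iso_mul (hL.iso _ (L.inv_mem g.2)) (by decide +kernel)
    have hm : (g : M5ˣ)⁻¹ * gB ∈ L := by
      obtain ⟨k, hk | hk⟩ := kernel hiso hP
      · rw [hk]; exact hRL (hx k)
      · rw [hk, ← neg_one_mul]; exact hRL (R.mul_mem hneg (hx k))
    have h4 := L.mul_mem g.2 hm
    rwa [mul_inv_cancel_left] at h4
  have hle : LB ≤ L := by
    unfold LB
    rw [Subgroup.closure_le]
    rintro g (rfl | rfl)
    · exact hL.memA
    · exact hB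
  have : Finite LB := Finite.of_injective _ (Subgroup.inclusion_injective hle)
  have hAm : gA ∈ LB := Subgroup.subset_closure (by simp)
  have hBm : gB ∈ LB := Subgroup.subset_closure (by simp)
  have h5 := ker_card (le_of hy x_mem_LB) hcardR (fun g hg => hL.iso g (hle hg)) hx hneg hcomm
    (φ.comp (Subgroup.inclusion hle)) fun g i => hφ (Subgroup.inclusion hle g) i
  have h6 : 60 ≤ Nat.card (φ.comp (Subgroup.inclusion hle)).range := by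
    apply card_ge
    · refine ⟨⟨gA, hAm⟩, ?_⟩
      ext i
      exact congrArg Fin.val ((hφ ⟨gA, hL.memA⟩ i).unique (P_A i))
    · refine ⟨⟨gB, hBm⟩, ?_⟩
      ext i
      exact congrArg Fin.val ((hφ ⟨gB, hB⟩ i).unique (P_B i))
  exact (Subgroup.eq_of_le_of_card_ge hle (by rw [hcard, h5]; omega)).symm

/-- **(M4)** -/
theorem stM4 : StM4 := by
  intro L R hL hRL hn hcardR hneg hsq hcomm _ hh
  have hx := all_mem (fun r hr => hn gA hL.memA r hr) (first hL hRL hn hcardR hneg hsq hcomm hh)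
  have hy := eq_y hcardR hneg hx
  exact ⟨case160 hL.memA hRL hcardR hx hy, case1920 hL hRL hn hcardR hneg hcomm hx hy⟩

end Cfsg.Agent.H29.Q5M
end

-- part: H309/Q5/Lists
section
/-!
# S5211, q = 5, piece M5: upper bounds for the orders of `LS`, `LP`, `LR`

Each of the three groups is listed; the list is closed under right multiplication by the two generators.
-/

set_option autoImplicit false

namespace Cfsg.Agent.H309.Q5

open Cfsg.Agent.H24.Q5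

/-- a list of matrices closed under right multiplication by two units bounds the order of the group they generate -/
theorem card_closure_le (a b : M5ˣ) (l : List M5) (h1 : (1 : M5) ∈ l) (pa pb : List ℕ)
    (ha : l.map (fun x => x * (a : M5)) = pa.map (fun i => l.getD i 1))
    (hb : l.map (fun x => x * (b : M5)) = pb.map (fun i => l.getD i 1)) :
    Nat.card (Subgroup.closure {a, b} : Subgroup M5ˣ) ≤ l.length := by
  classical
  have hget : ∀ i : ℕ, l.getD i 1 ∈ l := by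
    intro i
    rcases lt_or_ge i l.length with h | h
    · rw [List.getD_eq_getElem _ _ h]; exact List.getElem_mem h
    · rw [List.getD_eq_default _ _ h]; exact h1
  have key : ∀ (c : M5ˣ) (pc : List ℕ), l.map (fun x => x * (c : M5)) = pc.map (fun i => l.getD i 1) →
      ∀ x ∈ l, x * (c : M5) ∈ l := by
    intro c pc hc x hx
    have : x * (c : M5) ∈ l.map (fun x => x * (c : M5)) := List.mem_map.2 ⟨x, hx, rfl⟩
    rw [hc] at this
    obtain ⟨i, -, hi⟩ := List.mem_map.1 this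
    rw [← hi]; exact hget i
  have ka := key a pa ha
  have kb := key b pb hb
  have hall : ∀ g ∈ (Subgroup.closure {a, b} : Subgroup M5ˣ), ∀ x ∈ l, x * (g : M5) ∈ l := by
    intro g hg
    induction hg using Subgroup.closure_induction with
    | mem y hy =>
      rcases hy with rfl | hy
      · exact ka
      · rw [Set.mem_singleton_iff] at hy; subst hy; exact kb
    | one => intro x hx; simpa using hx
    | mul y z _ _ hy hz =>
      intro x hx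
      rw [Units.val_mul, ← mul_assoc]
      exact hz _ (hy x hx)
    | inv y _ hy =>
      have hp : ∀ n : ℕ, ∀ x ∈ l, x * ((y ^ n : M5ˣ) : M5) ∈ l := by
        intro n
        induction n with
        | zero => intro x hx; simpa using hx
        | succ n ih =>
          intro x hx
          rw [pow_succ, Units.val_mul, ← mul_assoc]
          exact hy _ (ih x hx)
      have ho : 0 < orderOf y := orderOf_pos y
      have : y⁻¹ = y ^ (orderOf y - 1) := by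
        rw [inv_eq_iff_mul_eq_one, ← pow_succ', Nat.sub_add_cancel ho, pow_orderOf_eq_one]
      rw [this]; exact hp _
  let f : (Subgroup.closure {a, b} : Subgroup M5ˣ) → l.toFinset := fun g =>
    ⟨((g : M5ˣ) : M5), by
      rw [List.mem_toFinset]
      have := hall g.1 g.2 1 h1
      rwa [one_mul] at this⟩
  have hf : Function.Injective f := by
    intro x y hxy
    have h := congrArg Subtype.val hxy
    exact Subtype.ext (Units.ext h)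
  calc Nat.card (Subgroup.closure {a, b} : Subgroup M5ˣ) ≤ Nat.card l.toFinset := Nat.card_le_card_of_injective f hf
    _ = l.toFinset.card := by rw [Nat.card_eq_fintype_card, Fintype.card_coe]
    _ ≤ l.length := List.toFinset_card_le l

/-- the elements of `LS` -/
def lS : List M5 := (beta% delta% lq26321636b6 fun e f _ _ j k l _ _ o _ _ =>
 (let i:=(let i:=(let i:=(let i:=(let i:=(k ((@_root_.Matrix.of (Fin 4) (Fin 4) _ (e (e 2<|e 1<|e 1<|e 3<|f)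
 (e (e 0<|e 3<|e 1<|e 2<|f)
 (e (e 0<|e 0<|e 2<|e 3<|f)
 (e (e 0<|e 0<|e 0<|e 3<|f)
 f))))) :type_of% (j _))<|
 k ((@_root_.Matrix.of (Fin 4) (Fin 4) _ (e (e 3<|e 0<|e 0<|e 0<|f)
 (e (e 0<|e 2<|e 0<|e 0<|f)
 (e (e 0<|e 0<|e 3<|e 0<|f)
 (e (e 0<|e 0<|e 0<|e 2<|f)
 f))))) :type_of% (j _))<|
 k ((@_root_.Matrix.of (Fin 4) (Fin 4) _ (e (e 1<|e 3<|e 3<|e 4<|f)
 (e (e 4<|e 3<|e 4<|e 0<|f)
 (e (e 1<|e 1<|e 0<|e 0<|f)
 (e (e 1<|e 0<|e 0<|e 0<|f)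
 f))))) :type_of% (j _))<|
 k ((@_root_.Matrix.of (Fin 4) (Fin 4) _ (e (e 0<|e 0<|e 0<|e 4<|f)
 (e (e 0<|e 0<|e 4<|e 0<|f)
 (e (e 0<|e 1<|e 0<|e 0<|f)
 (e (e 1<|e 0<|e 0<|e 0<|f)
 f))))) :type_of% (j _))<|o);
 (k ((@_root_.Matrix.of (Fin 4) (Fin 4) _ (e (e 3<|e 3<|e 1<|e 1<|f)
 (e (e 0<|e 2<|e 3<|e 2<|f)
 (e (e 0<|e 0<|e 3<|e 4<|f)
 (e (e 0<|e 0<|e 0<|e 2<|f)
 f))))) :type_of% (j _))<|
 k ((@_root_.Matrix.of (Fin 4) (Fin 4) _ (e (e 3<|e 1<|e 4<|e 3<|f)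
 (e (e 0<|e 2<|e 1<|e 3<|f)
 (e (e 0<|e 0<|e 3<|e 3<|f)
 (e (e 0<|e 0<|e 0<|e 2<|f)
 f))))) :type_of% (j _))<|
 k ((@_root_.Matrix.of (Fin 4) (Fin 4) _ (e (e 2<|e 4<|e 1<|e 2<|f)
 (e (e 2<|e 2<|e 0<|e 4<|f)
 (e (e 2<|e 0<|e 1<|e 3<|f)
 (e (e 3<|e 2<|e 1<|e 4<|f)
 f))))) :type_of% (j _))<|
 k ((@_root_.Matrix.of (Fin 4) (Fin 4) _ (e (e 2<|e 0<|e 0<|e 0<|f)
 (e (e 0<|e 3<|e 0<|e 0<|f)
 (e (e 0<|e 0<|e 2<|e 0<|f)
 (e (e 0<|e 0<|e 0<|e 3<|f)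
 f))))) :type_of% (j _))<|
 i));
 (k ((@_root_.Matrix.of (Fin 4) (Fin 4) _ (e (e 0<|e 0<|e 0<|e 4<|f)
 (e (e 0<|e 0<|e 4<|e 4<|f)
 (e (e 0<|e 1<|e 3<|e 4<|f)
 (e (e 1<|e 2<|e 3<|e 1<|f)
 f))))) :type_of% (j _))<|
 k ((@_root_.Matrix.of (Fin 4) (Fin 4) _ (e (e 2<|e 0<|e 0<|e 0<|f)
 (e (e 4<|e 3<|e 0<|e 0<|f)
 (e (e 3<|e 2<|e 2<|e 0<|f)
 (e (e 4<|e 4<|e 3<|e 3<|f)
 f))))) :type_of% (j _))<|
 k ((@_root_.Matrix.of (Fin 4) (Fin 4) _ (e (e 0<|e 0<|e 0<|e 4<|f)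
 (e (e 0<|e 0<|e 4<|e 1<|f)
 (e (e 0<|e 1<|e 2<|e 4<|f)
 (e (e 1<|e 3<|e 3<|e 4<|f)
 f))))) :type_of% (j _))<|
 k ((@_root_.Matrix.of (Fin 4) (Fin 4) _ (e (e 4<|e 3<|e 2<|e 4<|f)
 (e (e 4<|e 2<|e 4<|e 0<|f)
 (e (e 4<|e 1<|e 0<|e 0<|f)
 (e (e 1<|e 0<|e 0<|e 0<|f)
 f))))) :type_of% (j _))<|
 k ((@_root_.Matrix.of (Fin 4) (Fin 4) _ (e (e 4<|e 0<|e 0<|e 0<|f)
 (e (e 3<|e 4<|e 0<|e 0<|f)
 (e (e 1<|e 1<|e 4<|e 0<|f)
 (e (e 3<|e 2<|e 1<|e 4<|f)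
 f))))) :type_of% (j _))<|
 k ((@_root_.Matrix.of (Fin 4) (Fin 4) _ (e (e 3<|e 0<|e 0<|e 0<|f)
 (e (e 3<|e 2<|e 0<|e 0<|f)
 (e (e 3<|e 4<|e 3<|e 0<|f)
 (e (e 2<|e 4<|e 1<|e 2<|f)
 f))))) :type_of% (j _))<|
 k ((@_root_.Matrix.of (Fin 4) (Fin 4) _ (e (e 2<|e 3<|e 4<|e 1<|f)
 (e (e 0<|e 3<|e 3<|e 3<|f)
 (e (e 0<|e 0<|e 2<|e 4<|f)
 (e (e 0<|e 0<|e 0<|e 3<|f)
 f))))) :type_of% (j _))<|
 i));
 (let i:=(let i:=(k ((@_root_.Matrix.of (Fin 4) (Fin 4) _ (e (e 3<|e 0<|e 0<|e 0<|f)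
 (e (e 4<|e 2<|e 0<|e 0<|f)
 (e (e 2<|e 2<|e 3<|e 0<|f)
 (e (e 4<|e 1<|e 3<|e 2<|f)
 f))))) :type_of% (j _))<|
 k ((@_root_.Matrix.of (Fin 4) (Fin 4) _ (e (e 4<|e 1<|e 3<|e 2<|f)
 (e (e 0<|e 4<|e 4<|e 4<|f)
 (e (e 0<|e 0<|e 4<|e 3<|f)
 (e (e 0<|e 0<|e 0<|e 4<|f)
 f))))) :type_of% (j _))<|
 k ((@_root_.Matrix.of (Fin 4) (Fin 4) _ (e (e 2<|e 0<|e 0<|e 0<|f)
 (e (e 3<|e 3<|e 0<|e 0<|f)
 (e (e 2<|e 4<|e 2<|e 0<|f)
 (e (e 2<|e 1<|e 1<|e 3<|f)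
 f))))) :type_of% (j _))<|
 k ((@_root_.Matrix.of (Fin 4) (Fin 4) _ (e (e 4<|e 1<|e 3<|e 2<|f)
 (e (e 3<|e 1<|e 0<|e 3<|f)
 (e (e 1<|e 0<|e 2<|e 2<|f)
 (e (e 3<|e 4<|e 4<|e 2<|f)
 f))))) :type_of% (j _))<|
 i);
 (k ((@_root_.Matrix.of (Fin 4) (Fin 4) _ (e (e 1<|e 3<|e 3<|e 4<|f)
 (e (e 3<|e 0<|e 1<|e 1<|f)
 (e (e 4<|e 3<|e 0<|e 4<|f)
 (e (e 3<|e 2<|e 1<|e 4<|f)
 f))))) :type_of% (j _))<|
 k ((@_root_.Matrix.of (Fin 4) (Fin 4) _ (e (e 2<|e 4<|e 1<|e 2<|f)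
 (e (e 0<|e 3<|e 4<|e 2<|f)
 (e (e 0<|e 0<|e 2<|e 2<|f)
 (e (e 0<|e 0<|e 0<|e 3<|f)
 f))))) :type_of% (j _))<|
 k ((@_root_.Matrix.of (Fin 4) (Fin 4) _ (e (e 3<|e 1<|e 4<|e 3<|f)
 (e (e 2<|e 1<|e 2<|e 0<|f)
 (e (e 3<|e 2<|e 0<|e 0<|f)
 (e (e 3<|e 0<|e 0<|e 0<|f)
 f))))) :type_of% (j _))<|
 k ((@_root_.Matrix.of (Fin 4) (Fin 4) _ (e (e 1<|e 1<|e 2<|e 2<|f)
 (e (e 4<|e 0<|e 2<|e 4<|f)
 (e (e 1<|e 4<|e 0<|e 3<|f)
 (e (e 1<|e 3<|e 3<|e 4<|f)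
 f))))) :type_of% (j _))<|
 i));
 (k ((@_root_.Matrix.of (Fin 4) (Fin 4) _ (e (e 2<|e 0<|e 0<|e 0<|f)
 (e (e 2<|e 3<|e 0<|e 0<|f)
 (e (e 2<|e 1<|e 2<|e 0<|f)
 (e (e 3<|e 1<|e 4<|e 3<|f)
 f))))) :type_of% (j _))<|
 k ((@_root_.Matrix.of (Fin 4) (Fin 4) _ (e (e 3<|e 0<|e 0<|e 0<|f)
 (e (e 1<|e 2<|e 0<|e 0<|f)
 (e (e 2<|e 3<|e 3<|e 0<|f)
 (e (e 1<|e 1<|e 2<|e 2<|f)
 f))))) :type_of% (j _))<|
 k ((@_root_.Matrix.of (Fin 4) (Fin 4) _ (e (e 2<|e 2<|e 4<|e 4<|f)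
 (e (e 0<|e 3<|e 2<|e 3<|f)
 (e (e 0<|e 0<|e 2<|e 1<|f)
 (e (e 0<|e 0<|e 0<|e 3<|f)
 f))))) :type_of% (j _))<|
 k ((@_root_.Matrix.of (Fin 4) (Fin 4) _ (e (e 3<|e 4<|e 4<|e 2<|f)
 (e (e 0<|e 2<|e 4<|e 3<|f)
 (e (e 0<|e 0<|e 3<|e 2<|f)
 (e (e 0<|e 0<|e 0<|e 2<|f)
 f))))) :type_of% (j _))<|
 k ((@_root_.Matrix.of (Fin 4) (Fin 4) _ (e (e 3<|e 2<|e 1<|e 4<|f)
 (e (e 0<|e 2<|e 2<|e 2<|f)
 (e (e 0<|e 0<|e 3<|e 1<|f)
 (e (e 0<|e 0<|e 0<|e 2<|f)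
 f))))) :type_of% (j _))<|
 k ((@_root_.Matrix.of (Fin 4) (Fin 4) _ (e (e 0<|e 0<|e 0<|e 2<|f)
 (e (e 0<|e 0<|e 3<|e 0<|f)
 (e (e 0<|e 3<|e 0<|e 0<|f)
 (e (e 2<|e 0<|e 0<|e 0<|f)
 f))))) :type_of% (j _))<|
 k ((@_root_.Matrix.of (Fin 4) (Fin 4) _ (e (e 0<|e 0<|e 0<|e 3<|f)
 (e (e 0<|e 0<|e 2<|e 2<|f)
 (e (e 0<|e 2<|e 1<|e 3<|f)
 (e (e 3<|e 1<|e 4<|e 3<|f)
 f))))) :type_of% (j _))<|
 i)));
 (let i:=(let i:=(let i:=(k ((@_root_.Matrix.of (Fin 4) (Fin 4) _ (e (e 2<|e 3<|e 4<|e 1<|f)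
 (e (e 3<|e 0<|e 4<|e 2<|f)
 (e (e 2<|e 2<|e 0<|e 4<|f)
 (e (e 2<|e 4<|e 1<|e 2<|f)
 f))))) :type_of% (j _))<|
 k ((@_root_.Matrix.of (Fin 4) (Fin 4) _ (e (e 2<|e 2<|e 4<|e 4<|f)
 (e (e 1<|e 4<|e 4<|e 0<|f)
 (e (e 3<|e 1<|e 0<|e 0<|f)
 (e (e 1<|e 0<|e 0<|e 0<|f)
 f))))) :type_of% (j _))<|
 k ((@_root_.Matrix.of (Fin 4) (Fin 4) _ (e (e 3<|e 3<|e 1<|e 1<|f)
 (e (e 2<|e 4<|e 2<|e 1<|f)
 (e (e 3<|e 4<|e 3<|e 1<|f)
 (e (e 3<|e 2<|e 1<|e 4<|f)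
 f))))) :type_of% (j _))<|
 k ((@_root_.Matrix.of (Fin 4) (Fin 4) _ (e (e 4<|e 4<|e 3<|e 3<|f)
 (e (e 2<|e 1<|e 0<|e 3<|f)
 (e (e 1<|e 0<|e 2<|e 3<|f)
 (e (e 2<|e 4<|e 1<|e 2<|f)
 f))))) :type_of% (j _))<|
 i);
 (k ((@_root_.Matrix.of (Fin 4) (Fin 4) _ (e (e 3<|e 4<|e 4<|e 2<|f)
 (e (e 3<|e 1<|e 3<|e 0<|f)
 (e (e 3<|e 3<|e 0<|e 0<|f)
 (e (e 2<|e 0<|e 0<|e 0<|f)
 f))))) :type_of% (j _))<|
 k ((@_root_.Matrix.of (Fin 4) (Fin 4) _ (e (e 0<|e 0<|e 0<|e 3<|f)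
 (e (e 0<|e 0<|e 2<|e 0<|f)
 (e (e 0<|e 2<|e 0<|e 0<|f)
 (e (e 3<|e 0<|e 0<|e 0<|f)
 f))))) :type_of% (j _))<|
 k ((@_root_.Matrix.of (Fin 4) (Fin 4) _ (e (e 2<|e 0<|e 0<|e 0<|f)
 (e (e 1<|e 3<|e 0<|e 0<|f)
 (e (e 3<|e 3<|e 2<|e 0<|f)
 (e (e 1<|e 4<|e 2<|e 3<|f)
 f))))) :type_of% (j _))<|
 k ((@_root_.Matrix.of (Fin 4) (Fin 4) _ (e (e 4<|e 2<|e 2<|e 1<|f)
 (e (e 3<|e 3<|e 2<|e 3<|f)
 (e (e 1<|e 4<|e 4<|e 4<|f)
 (e (e 3<|e 1<|e 4<|e 3<|f)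
 f))))) :type_of% (j _))<|
 i));
 (k ((@_root_.Matrix.of (Fin 4) (Fin 4) _ (e (e 4<|e 3<|e 2<|e 4<|f)
 (e (e 0<|e 4<|e 2<|e 1<|f)
 (e (e 0<|e 0<|e 4<|e 4<|f)
 (e (e 0<|e 0<|e 0<|e 4<|f)
 f))))) :type_of% (j _))<|
 k ((@_root_.Matrix.of (Fin 4) (Fin 4) _ (e (e 0<|e 0<|e 0<|e 2<|f)
 (e (e 0<|e 0<|e 3<|e 2<|f)
 (e (e 0<|e 3<|e 1<|e 2<|f)
 (e (e 2<|e 1<|e 1<|e 3<|f)
 f))))) :type_of% (j _))<|
 k ((@_root_.Matrix.of (Fin 4) (Fin 4) _ (e (e 3<|e 0<|e 0<|e 0<|f)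
 (e (e 2<|e 2<|e 0<|e 0<|f)
 (e (e 3<|e 1<|e 3<|e 0<|f)
 (e (e 3<|e 4<|e 4<|e 2<|f)
 f))))) :type_of% (j _))<|
 k ((@_root_.Matrix.of (Fin 4) (Fin 4) _ (e (e 4<|e 1<|e 3<|e 2<|f)
 (e (e 4<|e 0<|e 2<|e 1<|f)
 (e (e 4<|e 4<|e 0<|e 3<|f)
 (e (e 1<|e 2<|e 3<|e 1<|f)
 f))))) :type_of% (j _))<|
 k ((@_root_.Matrix.of (Fin 4) (Fin 4) _ (e (e 4<|e 1<|e 3<|e 2<|f)
 (e (e 1<|e 3<|e 1<|e 2<|f)
 (e (e 4<|e 3<|e 4<|e 2<|f)
 (e (e 4<|e 4<|e 3<|e 3<|f)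
 f))))) :type_of% (j _))<|
 k ((@_root_.Matrix.of (Fin 4) (Fin 4) _ (e (e 0<|e 0<|e 0<|e 4<|f)
 (e (e 0<|e 0<|e 4<|e 2<|f)
 (e (e 0<|e 1<|e 4<|e 1<|f)
 (e (e 1<|e 1<|e 2<|e 2<|f)
 f))))) :type_of% (j _))<|
 k ((@_root_.Matrix.of (Fin 4) (Fin 4) _ (e (e 4<|e 0<|e 0<|e 0<|f)
 (e (e 4<|e 4<|e 0<|e 0<|f)
 (e (e 4<|e 3<|e 4<|e 0<|f)
 (e (e 1<|e 3<|e 3<|e 4<|f)
 f))))) :type_of% (j _))<|
 i));
 (let i:=(let i:=(k ((@_root_.Matrix.of (Fin 4) (Fin 4) _ (e (e 3<|e 4<|e 4<|e 2<|f)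
 (e (e 4<|e 4<|e 1<|e 4<|f)
 (e (e 2<|e 3<|e 3<|e 3<|f)
 (e (e 4<|e 3<|e 2<|e 4<|f)
 f))))) :type_of% (j _))<|
 k ((@_root_.Matrix.of (Fin 4) (Fin 4) _ (e (e 2<|e 1<|e 1<|e 3<|f)
 (e (e 3<|e 2<|e 0<|e 4<|f)
 (e (e 2<|e 0<|e 1<|e 2<|f)
 (e (e 2<|e 2<|e 4<|e 4<|f)
 f))))) :type_of% (j _))<|
 k ((@_root_.Matrix.of (Fin 4) (Fin 4) _ (e (e 4<|e 3<|e 2<|e 4<|f)
 (e (e 3<|e 0<|e 1<|e 4<|f)
 (e (e 1<|e 3<|e 0<|e 4<|f)
 (e (e 3<|e 3<|e 1<|e 1<|f)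
 f))))) :type_of% (j _))<|
 k ((@_root_.Matrix.of (Fin 4) (Fin 4) _ (e (e 2<|e 1<|e 1<|e 3<|f)
 (e (e 4<|e 0<|e 3<|e 3<|f)
 (e (e 3<|e 1<|e 0<|e 3<|f)
 (e (e 4<|e 1<|e 3<|e 2<|f)
 f))))) :type_of% (j _))<|
 i);
 (k ((@_root_.Matrix.of (Fin 4) (Fin 4) _ (e (e 3<|e 1<|e 4<|e 3<|f)
 (e (e 4<|e 0<|e 3<|e 2<|f)
 (e (e 2<|e 1<|e 0<|e 3<|f)
 (e (e 4<|e 4<|e 3<|e 3<|f)
 f))))) :type_of% (j _))<|
 k ((@_root_.Matrix.of (Fin 4) (Fin 4) _ (e (e 1<|e 1<|e 2<|e 2<|f)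
 (e (e 3<|e 4<|e 0<|e 2<|f)
 (e (e 4<|e 0<|e 3<|e 2<|f)
 (e (e 3<|e 1<|e 4<|e 3<|f)
 f))))) :type_of% (j _))<|
 k ((@_root_.Matrix.of (Fin 4) (Fin 4) _ (e (e 4<|e 4<|e 3<|e 3<|f)
 (e (e 3<|e 2<|e 2<|e 0<|f)
 (e (e 1<|e 2<|e 0<|e 0<|f)
 (e (e 3<|e 0<|e 0<|e 0<|f)
 f))))) :type_of% (j _))<|
 k ((@_root_.Matrix.of (Fin 4) (Fin 4) _ (e (e 1<|e 4<|e 2<|e 3<|f)
 (e (e 4<|e 2<|e 4<|e 3<|f)
 (e (e 1<|e 2<|e 1<|e 3<|f)
 (e (e 1<|e 1<|e 2<|e 2<|f)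
 f))))) :type_of% (j _))<|
 i));
 (k ((@_root_.Matrix.of (Fin 4) (Fin 4) _ (e (e 3<|e 4<|e 4<|e 2<|f)
 (e (e 1<|e 0<|e 2<|e 2<|f)
 (e (e 2<|e 4<|e 0<|e 2<|f)
 (e (e 1<|e 4<|e 2<|e 3<|f)
 f))))) :type_of% (j _))<|
 k ((@_root_.Matrix.of (Fin 4) (Fin 4) _ (e (e 3<|e 2<|e 1<|e 4<|f)
 (e (e 2<|e 0<|e 1<|e 3<|f)
 (e (e 3<|e 3<|e 0<|e 1<|f)
 (e (e 3<|e 1<|e 4<|e 3<|f)
 f))))) :type_of% (j _))<|
 k ((@_root_.Matrix.of (Fin 4) (Fin 4) _ (e (e 0<|e 0<|e 0<|e 2<|f)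
 (e (e 0<|e 0<|e 3<|e 3<|f)
 (e (e 0<|e 3<|e 4<|e 2<|f)
 (e (e 2<|e 4<|e 1<|e 2<|f)
 f))))) :type_of% (j _))<|
 k ((@_root_.Matrix.of (Fin 4) (Fin 4) _ (e (e 3<|e 2<|e 1<|e 4<|f)
 (e (e 1<|e 1<|e 4<|e 0<|f)
 (e (e 2<|e 1<|e 0<|e 0<|f)
 (e (e 1<|e 0<|e 0<|e 0<|f)
 f))))) :type_of% (j _))<|
 k ((@_root_.Matrix.of (Fin 4) (Fin 4) _ (e (e 0<|e 0<|e 0<|e 3<|f)
 (e (e 0<|e 0<|e 2<|e 4<|f)
 (e (e 0<|e 2<|e 2<|e 2<|f)
 (e (e 3<|e 2<|e 1<|e 4<|f)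
 f))))) :type_of% (j _))<|
 k ((@_root_.Matrix.of (Fin 4) (Fin 4) _ (e (e 1<|e 3<|e 3<|e 4<|f)
 (e (e 2<|e 2<|e 3<|e 2<|f)
 (e (e 4<|e 1<|e 1<|e 1<|f)
 (e (e 2<|e 4<|e 1<|e 2<|f)
 f))))) :type_of% (j _))<|
 k ((@_root_.Matrix.of (Fin 4) (Fin 4) _ (e (e 2<|e 4<|e 1<|e 2<|f)
 (e (e 3<|e 4<|e 3<|e 0<|f)
 (e (e 2<|e 3<|e 0<|e 0<|f)
 (e (e 2<|e 0<|e 0<|e 0<|f)
 f))))) :type_of% (j _))<|
 i))));
 (let i:=(let i:=(let i:=(let i:=(k ((@_root_.Matrix.of (Fin 4) (Fin 4) _ (e (e 2<|e 3<|e 4<|e 1<|f)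
 (e (e 1<|e 2<|e 0<|e 1<|f)
 (e (e 3<|e 0<|e 1<|e 1<|f)
 (e (e 1<|e 3<|e 3<|e 4<|f)
 f))))) :type_of% (j _))<|
 k ((@_root_.Matrix.of (Fin 4) (Fin 4) _ (e (e 4<|e 1<|e 3<|e 2<|f)
 (e (e 2<|e 2<|e 3<|e 0<|f)
 (e (e 1<|e 3<|e 0<|e 0<|f)
 (e (e 2<|e 0<|e 0<|e 0<|f)
 f))))) :type_of% (j _))<|
 k ((@_root_.Matrix.of (Fin 4) (Fin 4) _ (e (e 0<|e 0<|e 0<|e 4<|f)
 (e (e 0<|e 0<|e 4<|e 3<|f)
 (e (e 0<|e 1<|e 1<|e 1<|f)
 (e (e 1<|e 4<|e 2<|e 3<|f)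
 f))))) :type_of% (j _))<|
 k ((@_root_.Matrix.of (Fin 4) (Fin 4) _ (e (e 2<|e 1<|e 1<|e 3<|f)
 (e (e 2<|e 4<|e 2<|e 0<|f)
 (e (e 2<|e 2<|e 0<|e 0<|f)
 (e (e 3<|e 0<|e 0<|e 0<|f)
 f))))) :type_of% (j _))<|
 i);
 (k ((@_root_.Matrix.of (Fin 4) (Fin 4) _ (e (e 0<|e 0<|e 0<|e 3<|f)
 (e (e 0<|e 0<|e 2<|e 3<|f)
 (e (e 0<|e 2<|e 4<|e 3<|f)
 (e (e 3<|e 4<|e 4<|e 2<|f)
 f))))) :type_of% (j _))<|
 k ((@_root_.Matrix.of (Fin 4) (Fin 4) _ (e (e 2<|e 1<|e 1<|e 3<|f)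
 (e (e 1<|e 1<|e 4<|e 1<|f)
 (e (e 3<|e 2<|e 2<|e 2<|f)
 (e (e 1<|e 2<|e 3<|e 1<|f)
 f))))) :type_of% (j _))<|
 k ((@_root_.Matrix.of (Fin 4) (Fin 4) _ (e (e 0<|e 0<|e 0<|e 1<|f)
 (e (e 0<|e 0<|e 1<|e 3<|f)
 (e (e 0<|e 4<|e 1<|e 4<|f)
 (e (e 4<|e 4<|e 3<|e 3<|f)
 f))))) :type_of% (j _))<|
 k ((@_root_.Matrix.of (Fin 4) (Fin 4) _ (e (e 4<|e 2<|e 2<|e 1<|f)
 (e (e 4<|e 1<|e 0<|e 2<|f)
 (e (e 4<|e 0<|e 2<|e 4<|f)
 (e (e 1<|e 1<|e 2<|e 2<|f)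
 f))))) :type_of% (j _))<|
 i));
 (k ((@_root_.Matrix.of (Fin 4) (Fin 4) _ (e (e 2<|e 2<|e 4<|e 4<|f)
 (e (e 3<|e 1<|e 3<|e 4<|f)
 (e (e 2<|e 1<|e 2<|e 4<|f)
 (e (e 2<|e 3<|e 4<|e 1<|f)
 f))))) :type_of% (j _))<|
 k ((@_root_.Matrix.of (Fin 4) (Fin 4) _ (e (e 2<|e 2<|e 4<|e 4<|f)
 (e (e 4<|e 2<|e 0<|e 1<|f)
 (e (e 3<|e 0<|e 1<|e 4<|f)
 (e (e 4<|e 3<|e 2<|e 4<|f)
 f))))) :type_of% (j _))<|
 k ((@_root_.Matrix.of (Fin 4) (Fin 4) _ (e (e 0<|e 0<|e 0<|e 2<|f)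
 (e (e 0<|e 0<|e 3<|e 4<|f)
 (e (e 0<|e 3<|e 2<|e 3<|f)
 (e (e 2<|e 2<|e 4<|e 4<|f)
 f))))) :type_of% (j _))<|
 k ((@_root_.Matrix.of (Fin 4) (Fin 4) _ (e (e 3<|e 4<|e 4<|e 2<|f)
 (e (e 2<|e 3<|e 0<|e 1<|f)
 (e (e 3<|e 0<|e 4<|e 3<|f)
 (e (e 3<|e 3<|e 1<|e 1<|f)
 f))))) :type_of% (j _))<|
 k ((@_root_.Matrix.of (Fin 4) (Fin 4) _ (e (e 4<|e 3<|e 2<|e 4<|f)
 (e (e 1<|e 1<|e 0<|e 2<|f)
 (e (e 4<|e 0<|e 2<|e 1<|f)
 (e (e 4<|e 1<|e 3<|e 2<|f)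
 f))))) :type_of% (j _))<|
 k ((@_root_.Matrix.of (Fin 4) (Fin 4) _ (e (e 4<|e 0<|e 0<|e 0<|f)
 (e (e 0<|e 4<|e 0<|e 0<|f)
 (e (e 0<|e 0<|e 4<|e 0<|f)
 (e (e 0<|e 0<|e 0<|e 4<|f)
 f))))) :type_of% (j _))<|
 k ((@_root_.Matrix.of (Fin 4) (Fin 4) _ (e (e 3<|e 3<|e 1<|e 1<|f)
 (e (e 3<|e 0<|e 4<|e 3<|f)
 (e (e 3<|e 2<|e 0<|e 4<|f)
 (e (e 2<|e 1<|e 1<|e 3<|f)
 f))))) :type_of% (j _))<|
 i));
 (let i:=(let i:=(k ((@_root_.Matrix.of (Fin 4) (Fin 4) _ (e (e 4<|e 4<|e 3<|e 3<|f)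
 (e (e 4<|e 3<|e 4<|e 2<|f)
 (e (e 4<|e 2<|e 4<|e 3<|f)
 (e (e 1<|e 4<|e 2<|e 3<|f)
 f))))) :type_of% (j _))<|
 k ((@_root_.Matrix.of (Fin 4) (Fin 4) _ (e (e 1<|e 4<|e 2<|e 3<|f)
 (e (e 3<|e 3<|e 2<|e 0<|f)
 (e (e 4<|e 2<|e 0<|e 0<|f)
 (e (e 3<|e 0<|e 0<|e 0<|f)
 f))))) :type_of% (j _))<|
 k ((@_root_.Matrix.of (Fin 4) (Fin 4) _ (e (e 1<|e 2<|e 3<|e 1<|f)
 (e (e 4<|e 4<|e 0<|e 3<|f)
 (e (e 1<|e 0<|e 3<|e 4<|f)
 (e (e 1<|e 4<|e 2<|e 3<|f)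
 f))))) :type_of% (j _))<|
 k ((@_root_.Matrix.of (Fin 4) (Fin 4) _ (e (e 3<|e 3<|e 1<|e 1<|f)
 (e (e 4<|e 1<|e 1<|e 0<|f)
 (e (e 2<|e 4<|e 0<|e 0<|f)
 (e (e 4<|e 0<|e 0<|e 0<|f)
 f))))) :type_of% (j _))<|
 i);
 (k ((@_root_.Matrix.of (Fin 4) (Fin 4) _ (e (e 1<|e 3<|e 3<|e 4<|f)
 (e (e 1<|e 4<|e 0<|e 3<|f)
 (e (e 1<|e 0<|e 3<|e 1<|f)
 (e (e 4<|e 4<|e 3<|e 3<|f)
 f))))) :type_of% (j _))<|
 k ((@_root_.Matrix.of (Fin 4) (Fin 4) _ (e (e 2<|e 4<|e 1<|e 2<|f)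
 (e (e 1<|e 0<|e 2<|e 3<|f)
 (e (e 3<|e 4<|e 0<|e 2<|f)
 (e (e 1<|e 1<|e 2<|e 2<|f)
 f))))) :type_of% (j _))<|
 k ((@_root_.Matrix.of (Fin 4) (Fin 4) _ (e (e 3<|e 1<|e 4<|e 3<|f)
 (e (e 1<|e 4<|e 4<|e 4<|f)
 (e (e 2<|e 2<|e 3<|e 2<|f)
 (e (e 1<|e 3<|e 3<|e 4<|f)
 f))))) :type_of% (j _))<|
 k ((@_root_.Matrix.of (Fin 4) (Fin 4) _ (e (e 1<|e 1<|e 2<|e 2<|f)
 (e (e 2<|e 3<|e 3<|e 0<|f)
 (e (e 4<|e 3<|e 0<|e 0<|f)
 (e (e 2<|e 0<|e 0<|e 0<|f)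
 f))))) :type_of% (j _))<|
 i));
 (k ((@_root_.Matrix.of (Fin 4) (Fin 4) _ (e (e 3<|e 2<|e 1<|e 4<|f)
 (e (e 3<|e 4<|e 3<|e 1<|f)
 (e (e 3<|e 1<|e 3<|e 4<|f)
 (e (e 2<|e 2<|e 4<|e 4<|f)
 f))))) :type_of% (j _))<|
 k ((@_root_.Matrix.of (Fin 4) (Fin 4) _ (e (e 0<|e 0<|e 0<|e 3<|f)
 (e (e 0<|e 0<|e 2<|e 1<|f)
 (e (e 0<|e 2<|e 3<|e 2<|f)
 (e (e 3<|e 3<|e 1<|e 1<|f)
 f))))) :type_of% (j _))<|
 k ((@_root_.Matrix.of (Fin 4) (Fin 4) _ (e (e 0<|e 0<|e 0<|e 1<|f)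
 (e (e 0<|e 0<|e 1<|e 2<|f)
 (e (e 0<|e 4<|e 4<|e 4<|f)
 (e (e 4<|e 1<|e 3<|e 2<|f)
 f))))) :type_of% (j _))<|
 k ((@_root_.Matrix.of (Fin 4) (Fin 4) _ (e (e 4<|e 2<|e 2<|e 1<|f)
 (e (e 0<|e 4<|e 3<|e 1<|f)
 (e (e 0<|e 0<|e 4<|e 1<|f)
 (e (e 0<|e 0<|e 0<|e 4<|f)
 f))))) :type_of% (j _))<|
 k ((@_root_.Matrix.of (Fin 4) (Fin 4) _ (e (e 4<|e 3<|e 2<|e 4<|f)
 (e (e 2<|e 3<|e 3<|e 3<|f)
 (e (e 1<|e 1<|e 4<|e 1<|f)
 (e (e 2<|e 1<|e 1<|e 3<|f)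
 f))))) :type_of% (j _))<|
 k ((@_root_.Matrix.of (Fin 4) (Fin 4) _ (e (e 2<|e 2<|e 4<|e 4<|f)
 (e (e 2<|e 0<|e 1<|e 2<|f)
 (e (e 2<|e 3<|e 0<|e 1<|f)
 (e (e 3<|e 4<|e 4<|e 2<|f)
 f))))) :type_of% (j _))<|
 k ((@_root_.Matrix.of (Fin 4) (Fin 4) _ (e (e 3<|e 3<|e 1<|e 1<|f)
 (e (e 1<|e 3<|e 0<|e 4<|f)
 (e (e 2<|e 0<|e 4<|e 1<|f)
 (e (e 1<|e 2<|e 3<|e 1<|f)
 f))))) :type_of% (j _))<|
 i)));
 (let i:=(let i:=(let i:=(k ((@_root_.Matrix.of (Fin 4) (Fin 4) _ (e (e 3<|e 2<|e 1<|e 4<|f)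
 (e (e 4<|e 3<|e 0<|e 4<|f)
 (e (e 2<|e 0<|e 4<|e 4<|f)
 (e (e 4<|e 2<|e 2<|e 1<|f)
 f))))) :type_of% (j _))<|
 k ((@_root_.Matrix.of (Fin 4) (Fin 4) _ (e (e 2<|e 3<|e 4<|e 1<|f)
 (e (e 4<|e 4<|e 1<|e 0<|f)
 (e (e 3<|e 4<|e 0<|e 0<|f)
 (e (e 4<|e 0<|e 0<|e 0<|f)
 f))))) :type_of% (j _))<|
 k ((@_root_.Matrix.of (Fin 4) (Fin 4) _ (e (e 0<|e 0<|e 0<|e 2<|f)
 (e (e 0<|e 0<|e 3<|e 1<|f)
 (e (e 0<|e 3<|e 3<|e 3<|f)
 (e (e 2<|e 3<|e 4<|e 1<|f)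
 f))))) :type_of% (j _))<|
 k ((@_root_.Matrix.of (Fin 4) (Fin 4) _ (e (e 4<|e 0<|e 0<|e 0<|f)
 (e (e 1<|e 4<|e 0<|e 0<|f)
 (e (e 4<|e 2<|e 4<|e 0<|f)
 (e (e 4<|e 3<|e 2<|e 4<|f)
 f))))) :type_of% (j _))<|
 i);
 (k ((@_root_.Matrix.of (Fin 4) (Fin 4) _ (e (e 4<|e 4<|e 3<|e 3<|f)
 (e (e 0<|e 4<|e 1<|e 4<|f)
 (e (e 0<|e 0<|e 4<|e 2<|f)
 (e (e 0<|e 0<|e 0<|e 4<|f)
 f))))) :type_of% (j _))<|
 k ((@_root_.Matrix.of (Fin 4) (Fin 4) _ (e (e 1<|e 4<|e 2<|e 3<|f)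
 (e (e 2<|e 4<|e 0<|e 2<|f)
 (e (e 4<|e 0<|e 3<|e 3<|f)
 (e (e 2<|e 1<|e 1<|e 3<|f)
 f))))) :type_of% (j _))<|
 k ((@_root_.Matrix.of (Fin 4) (Fin 4) _ (e (e 1<|e 2<|e 3<|e 1<|f)
 (e (e 3<|e 2<|e 2<|e 2<|f)
 (e (e 4<|e 4<|e 1<|e 4<|f)
 (e (e 3<|e 4<|e 4<|e 2<|f)
 f))))) :type_of% (j _))<|
 k ((@_root_.Matrix.of (Fin 4) (Fin 4) _ (e (e 1<|e 0<|e 0<|e 0<|f)
 (e (e 4<|e 1<|e 0<|e 0<|f)
 (e (e 1<|e 3<|e 1<|e 0<|f)
 (e (e 1<|e 2<|e 3<|e 1<|f)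
 f))))) :type_of% (j _))<|
 i));
 (k ((@_root_.Matrix.of (Fin 4) (Fin 4) _ (e (e 2<|e 4<|e 1<|e 2<|f)
 (e (e 4<|e 1<|e 1<|e 1<|f)
 (e (e 3<|e 3<|e 2<|e 3<|f)
 (e (e 4<|e 2<|e 2<|e 1<|f)
 f))))) :type_of% (j _))<|
 k ((@_root_.Matrix.of (Fin 4) (Fin 4) _ (e (e 4<|e 2<|e 2<|e 1<|f)
 (e (e 1<|e 2<|e 1<|e 0<|f)
 (e (e 4<|e 4<|e 0<|e 0<|f)
 (e (e 4<|e 0<|e 0<|e 0<|f)
 f))))) :type_of% (j _))<|
 k ((@_root_.Matrix.of (Fin 4) (Fin 4) _ (e (e 3<|e 1<|e 4<|e 3<|f)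
 (e (e 3<|e 3<|e 0<|e 1<|f)
 (e (e 3<|e 0<|e 4<|e 2<|f)
 (e (e 2<|e 3<|e 4<|e 1<|f)
 f))))) :type_of% (j _))<|
 k ((@_root_.Matrix.of (Fin 4) (Fin 4) _ (e (e 0<|e 0<|e 0<|e 1<|f)
 (e (e 0<|e 0<|e 1<|e 1<|f)
 (e (e 0<|e 4<|e 2<|e 1<|f)
 (e (e 4<|e 3<|e 2<|e 4<|f)
 f))))) :type_of% (j _))<|
 k ((@_root_.Matrix.of (Fin 4) (Fin 4) _ (e (e 4<|e 0<|e 0<|e 0<|f)
 (e (e 2<|e 4<|e 0<|e 0<|f)
 (e (e 1<|e 4<|e 4<|e 0<|f)
 (e (e 2<|e 2<|e 4<|e 4<|f)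
 f))))) :type_of% (j _))<|
 k ((@_root_.Matrix.of (Fin 4) (Fin 4) _ (e (e 2<|e 3<|e 4<|e 1<|f)
 (e (e 2<|e 1<|e 2<|e 4<|f)
 (e (e 2<|e 4<|e 2<|e 1<|f)
 (e (e 3<|e 3<|e 1<|e 1<|f)
 f))))) :type_of% (j _))<|
 k ((@_root_.Matrix.of (Fin 4) (Fin 4) _ (e (e 1<|e 1<|e 2<|e 2<|f)
 (e (e 1<|e 2<|e 1<|e 3<|f)
 (e (e 1<|e 3<|e 1<|e 2<|f)
 (e (e 4<|e 1<|e 3<|e 2<|f)
 f))))) :type_of% (j _))<|
 i));
 (let i:=(let i:=(k ((@_root_.Matrix.of (Fin 4) (Fin 4) _ (e (e 1<|e 4<|e 2<|e 3<|f)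
 (e (e 1<|e 0<|e 3<|e 4<|f)
 (e (e 1<|e 1<|e 0<|e 2<|f)
 (e (e 4<|e 3<|e 2<|e 4<|f)
 f))))) :type_of% (j _))<|
 k ((@_root_.Matrix.of (Fin 4) (Fin 4) _ (e (e 1<|e 2<|e 3<|e 1<|f)
 (e (e 2<|e 0<|e 4<|e 1<|f)
 (e (e 4<|e 2<|e 0<|e 1<|f)
 (e (e 2<|e 2<|e 4<|e 4<|f)
 f))))) :type_of% (j _))<|
 k ((@_root_.Matrix.of (Fin 4) (Fin 4) _ (e (e 1<|e 0<|e 0<|e 0<|f)
 (e (e 3<|e 1<|e 0<|e 0<|f)
 (e (e 4<|e 1<|e 1<|e 0<|f)
 (e (e 3<|e 3<|e 1<|e 1<|f)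
 f))))) :type_of% (j _))<|
 k ((@_root_.Matrix.of (Fin 4) (Fin 4) _ (e (e 1<|e 3<|e 3<|e 4<|f)
 (e (e 0<|e 1<|e 2<|e 4<|f)
 (e (e 0<|e 0<|e 1<|e 4<|f)
 (e (e 0<|e 0<|e 0<|e 1<|f)
 f))))) :type_of% (j _))<|
 i);
 (k ((@_root_.Matrix.of (Fin 4) (Fin 4) _ (e (e 1<|e 1<|e 2<|e 2<|f)
 (e (e 0<|e 1<|e 4<|e 1<|f)
 (e (e 0<|e 0<|e 1<|e 3<|f)
 (e (e 0<|e 0<|e 0<|e 1<|f)
 f))))) :type_of% (j _))<|
 k ((@_root_.Matrix.of (Fin 4) (Fin 4) _ (e (e 4<|e 4<|e 3<|e 3<|f)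
 (e (e 1<|e 0<|e 3<|e 1<|f)
 (e (e 4<|e 1<|e 0<|e 2<|f)
 (e (e 4<|e 2<|e 2<|e 1<|f)
 f))))) :type_of% (j _))<|
 k ((@_root_.Matrix.of (Fin 4) (Fin 4) _ (e (e 0<|e 0<|e 0<|e 1<|f)
 (e (e 0<|e 0<|e 1<|e 0<|f)
 (e (e 0<|e 4<|e 0<|e 0<|f)
 (e (e 4<|e 0<|e 0<|e 0<|f)
 f))))) :type_of% (j _))<|
 k ((@_root_.Matrix.of (Fin 4) (Fin 4) _ (e (e 4<|e 2<|e 2<|e 1<|f)
 (e (e 2<|e 0<|e 4<|e 4<|f)
 (e (e 1<|e 2<|e 0<|e 1<|f)
 (e (e 2<|e 3<|e 4<|e 1<|f)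
 f))))) :type_of% (j _))<|
 i));
 (l ((@_root_.Matrix.of (Fin 4) (Fin 4) _ (e (e 1<|e 0<|e 0<|e 0<|f)
 (e (e 0<|e 1<|e 0<|e 0<|f)
 (e (e 0<|e 0<|e 1<|e 0<|f)
 (e (e 0<|e 0<|e 0<|e 1<|f)
 f))))) :type_of% (j _))<|
 l ((@_root_.Matrix.of (Fin 4) (Fin 4) _ (e (e 1<|e 2<|e 3<|e 1<|f)
 (e (e 0<|e 1<|e 3<|e 4<|f)
 (e (e 0<|e 0<|e 1<|e 1<|f)
 (e (e 0<|e 0<|e 0<|e 1<|f)
 f))))) :type_of% (j _))<|
 l ((@_root_.Matrix.of (Fin 4) (Fin 4) _ (e (e 1<|e 0<|e 0<|e 0<|f)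
 (e (e 1<|e 1<|e 0<|e 0<|f)
 (e (e 1<|e 2<|e 1<|e 0<|f)
 (e (e 4<|e 2<|e 2<|e 1<|f)
 f))))) :type_of% (j _))<|
 l ((@_root_.Matrix.of (Fin 4) (Fin 4) _ (e (e 1<|e 4<|e 2<|e 3<|f)
 (e (e 0<|e 1<|e 1<|e 1<|f)
 (e (e 0<|e 0<|e 1<|e 2<|f)
 (e (e 0<|e 0<|e 0<|e 1<|f)
 f))))) :type_of% (j _))<|
 l ((@_root_.Matrix.of (Fin 4) (Fin 4) _ (e (e 0<|e 0<|e 0<|e 1<|f)
 (e (e 0<|e 0<|e 1<|e 4<|f)
 (e (e 0<|e 4<|e 3<|e 1<|f)
 (e (e 4<|e 2<|e 2<|e 1<|f)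
 f))))) :type_of% (j _))<|
 l ((@_root_.Matrix.of (Fin 4) (Fin 4) _ (e (e 1<|e 2<|e 3<|e 1<|f)
 (e (e 1<|e 3<|e 1<|e 0<|f)
 (e (e 1<|e 4<|e 0<|e 0<|f)
 (e (e 4<|e 0<|e 0<|e 0<|f)
 f))))) :type_of% (j _))<|
 l ((@_root_.Matrix.of (Fin 4) (Fin 4) _ (e (e 1<|e 0<|e 0<|e 0<|f)
 (e (e 2<|e 1<|e 0<|e 0<|f)
 (e (e 4<|e 4<|e 1<|e 0<|f)
 (e (e 2<|e 3<|e 4<|e 1<|f)
 f))))) :type_of% (j _))<|
 i))))))

def pAS : List ℕ := (beta% delta% lq26321636b6 fun _ _ g h _ _ l _ _ o _ _ =>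
 (let i:=(let i:=(let i:=(let i:=(let i:=(h (115 :type_of% (g _))<|h (113 :type_of% (g _))<|h (25 :type_of% (g _))<|h (105 :type_of% (g _))<|o);
 (h (93 :type_of% (g _))<|h (94 :type_of% (g _))<|h (20 :type_of% (g _))<|h (98 :type_of% (g _))<|i));
 (h (58 :type_of% (g _))<|h (15 :type_of% (g _))<|h (119 :type_of% (g _))<|h (78 :type_of% (g _))<|h (73 :type_of% (g _))<|h (17 :type_of% (g _))<|h (92 :type_of% (g _))<|i));
 (let i:=(let i:=(h (67 :type_of% (g _))<|h (22 :type_of% (g _))<|h (66 :type_of% (g _))<|h (69 :type_of% (g _))<|i);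
 (h (13 :type_of% (g _))<|h (111 :type_of% (g _))<|h (61 :type_of% (g _))<|h (118 :type_of% (g _))<|i));
 (h (114 :type_of% (g _))<|h (39 :type_of% (g _))<|h (116 :type_of% (g _))<|h (117 :type_of% (g _))<|h (112 :type_of% (g _))<|h (62 :type_of% (g _))<|h (64 :type_of% (g _))<|i)));
 (let i:=(let i:=(let i:=(h (45 :type_of% (g _))<|h (53 :type_of% (g _))<|h (48 :type_of% (g _))<|h (10 :type_of% (g _))<|i);
 (h (110 :type_of% (g _))<|h (96 :type_of% (g _))<|h (38 :type_of% (g _))<|h (109 :type_of% (g _))<|i));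
 (h (102 :type_of% (g _))<|h (95 :type_of% (g _))<|h (99 :type_of% (g _))<|h (41 :type_of% (g _))<|h (8 :type_of% (g _))<|h (107 :type_of% (g _))<|h (108 :type_of% (g _))<|i));
 (let i:=(let i:=(h (101 :type_of% (g _))<|h (103 :type_of% (g _))<|h (104 :type_of% (g _))<|h (106 :type_of% (g _))<|i);
 (h (26 :type_of% (g _))<|h (97 :type_of% (g _))<|h (85 :type_of% (g _))<|h (100 :type_of% (g _))<|i));
 (h (91 :type_of% (g _))<|h (88 :type_of% (g _))<|h (28 :type_of% (g _))<|h (36 :type_of% (g _))<|h (31 :type_of% (g _))<|h (6 :type_of% (g _))<|h (86 :type_of% (g _))<|i))));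
 (let i:=(let i:=(let i:=(let i:=(h (87 :type_of% (g _))<|h (89 :type_of% (g _))<|h (80 :type_of% (g _))<|h (90 :type_of% (g _))<|i);
 (h (83 :type_of% (g _))<|h (84 :type_of% (g _))<|h (4 :type_of% (g _))<|h (81 :type_of% (g _))<|i));
 (h (72 :type_of% (g _))<|h (74 :type_of% (g _))<|h (76 :type_of% (g _))<|h (77 :type_of% (g _))<|h (79 :type_of% (g _))<|h (75 :type_of% (g _))<|h (82 :type_of% (g _))<|i));
 (let i:=(let i:=(h (55 :type_of% (g _))<|h (68 :type_of% (g _))<|h (70 :type_of% (g _))<|h (71 :type_of% (g _))<|i);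
 (h (2 :type_of% (g _))<|h (56 :type_of% (g _))<|h (63 :type_of% (g _))<|h (65 :type_of% (g _))<|i));
 (h (51 :type_of% (g _))<|h (52 :type_of% (g _))<|h (54 :type_of% (g _))<|h (50 :type_of% (g _))<|h (57 :type_of% (g _))<|h (59 :type_of% (g _))<|h (60 :type_of% (g _))<|i)));
 (let i:=(let i:=(let i:=(h (44 :type_of% (g _))<|h (46 :type_of% (g _))<|h (47 :type_of% (g _))<|h (49 :type_of% (g _))<|i);
 (h (33 :type_of% (g _))<|h (40 :type_of% (g _))<|h (42 :type_of% (g _))<|h (43 :type_of% (g _))<|i));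
 (h (27 :type_of% (g _))<|h (29 :type_of% (g _))<|h (30 :type_of% (g _))<|h (32 :type_of% (g _))<|h (34 :type_of% (g _))<|h (35 :type_of% (g _))<|h (37 :type_of% (g _))<|i));
 (let i:=(let i:=(h (21 :type_of% (g _))<|h (23 :type_of% (g _))<|h (24 :type_of% (g _))<|h (0 :type_of% (g _))<|i);
 (h (14 :type_of% (g _))<|h (16 :type_of% (g _))<|h (18 :type_of% (g _))<|h (19 :type_of% (g _))<|i));
 (l (1 :type_of% (g _))<|l (3 :type_of% (g _))<|l (5 :type_of% (g _))<|l (7 :type_of% (g _))<|l (9 :type_of% (g _))<|l (11 :type_of% (g _))<|l (12 :type_of% (g _))<|i))))))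

def pBS : List ℕ := (beta% delta% lq26321636b6 fun _ _ g h _ _ l _ _ o _ _ =>
 (let i:=(let i:=(let i:=(let i:=(let i:=(h (23 :type_of% (g _))<|h (77 :type_of% (g _))<|h (63 :type_of% (g _))<|h (118 :type_of% (g _))<|o);
 (h (24 :type_of% (g _))<|h (52 :type_of% (g _))<|h (47 :type_of% (g _))<|h (103 :type_of% (g _))<|i));
 (h (14 :type_of% (g _))<|h (90 :type_of% (g _))<|h (97 :type_of% (g _))<|h (119 :type_of% (g _))<|h (19 :type_of% (g _))<|h (117 :type_of% (g _))<|h (51 :type_of% (g _))<|i));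
 (let i:=(let i:=(h (91 :type_of% (g _))<|h (100 :type_of% (g _))<|h (84 :type_of% (g _))<|h (21 :type_of% (g _))<|i);
 (h (30 :type_of% (g _))<|h (76 :type_of% (g _))<|h (83 :type_of% (g _))<|h (114 :type_of% (g _))<|i));
 (h (115 :type_of% (g _))<|h (110 :type_of% (g _))<|h (34 :type_of% (g _))<|h (104 :type_of% (g _))<|h (35 :type_of% (g _))<|h (82 :type_of% (g _))<|h (116 :type_of% (g _))<|i)));
 (let i:=(let i:=(let i:=(h (112 :type_of% (g _))<|h (108 :type_of% (g _))<|h (12 :type_of% (g _))<|h (113 :type_of% (g _))<|i);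
 (h (57 :type_of% (g _))<|h (59 :type_of% (g _))<|h (106 :type_of% (g _))<|h (111 :type_of% (g _))<|i));
 (h (107 :type_of% (g _))<|h (60 :type_of% (g _))<|h (101 :type_of% (g _))<|h (7 :type_of% (g _))<|h (68 :type_of% (g _))<|h (65 :type_of% (g _))<|h (109 :type_of% (g _))<|i));
 (let i:=(let i:=(h (102 :type_of% (g _))<|h (11 :type_of% (g _))<|h (105 :type_of% (g _))<|h (70 :type_of% (g _))<|i);
 (h (96 :type_of% (g _))<|h (98 :type_of% (g _))<|h (99 :type_of% (g _))<|h (89 :type_of% (g _))<|i));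
 (h (79 :type_of% (g _))<|h (92 :type_of% (g _))<|h (93 :type_of% (g _))<|h (87 :type_of% (g _))<|h (72 :type_of% (g _))<|h (94 :type_of% (g _))<|h (95 :type_of% (g _))<|i))));
 (let i:=(let i:=(let i:=(let i:=(h (88 :type_of% (g _))<|h (40 :type_of% (g _))<|h (37 :type_of% (g _))<|h (42 :type_of% (g _))<|i);
 (h (74 :type_of% (g _))<|h (3 :type_of% (g _))<|h (85 :type_of% (g _))<|h (86 :type_of% (g _))<|i));
 (h (73 :type_of% (g _))<|h (75 :type_of% (g _))<|h (71 :type_of% (g _))<|h (78 :type_of% (g _))<|h (80 :type_of% (g _))<|h (81 :type_of% (g _))<|h (43 :type_of% (g _))<|i));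
 (let i:=(let i:=(h (67 :type_of% (g _))<|h (69 :type_of% (g _))<|h (54 :type_of% (g _))<|h (5 :type_of% (g _))<|i);
 (h (61 :type_of% (g _))<|h (62 :type_of% (g _))<|h (64 :type_of% (g _))<|h (66 :type_of% (g _))<|i));
 (h (46 :type_of% (g _))<|h (53 :type_of% (g _))<|h (55 :type_of% (g _))<|h (56 :type_of% (g _))<|h (58 :type_of% (g _))<|h (49 :type_of% (g _))<|h (1 :type_of% (g _))<|i)));
 (let i:=(let i:=(let i:=(h (45 :type_of% (g _))<|h (44 :type_of% (g _))<|h (48 :type_of% (g _))<|h (50 :type_of% (g _))<|i);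
 (h (39 :type_of% (g _))<|h (41 :type_of% (g _))<|h (32 :type_of% (g _))<|h (0 :type_of% (g _))<|i));
 (h (28 :type_of% (g _))<|h (27 :type_of% (g _))<|h (31 :type_of% (g _))<|h (33 :type_of% (g _))<|h (29 :type_of% (g _))<|h (36 :type_of% (g _))<|h (38 :type_of% (g _))<|i));
 (let i:=(let i:=(h (22 :type_of% (g _))<|h (18 :type_of% (g _))<|h (25 :type_of% (g _))<|h (26 :type_of% (g _))<|i);
 (h (15 :type_of% (g _))<|h (17 :type_of% (g _))<|h (16 :type_of% (g _))<|h (20 :type_of% (g _))<|i));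
 (l (2 :type_of% (g _))<|l (4 :type_of% (g _))<|l (6 :type_of% (g _))<|l (8 :type_of% (g _))<|l (10 :type_of% (g _))<|l (9 :type_of% (g _))<|l (13 :type_of% (g _))<|i))))))

private noncomputable def _root_.Cfsg.Agent.KOd073e7c.k24.{ku} {α : Type ku} {n : Nat} (h : α) (t : Fin n → α) (i : Fin n.succ) : α := @Nat.rec (fun m => m < n.succ → α) (fun _ => h) (fun j _ g => t ⟨j, Nat.lt_of_succ_lt_succ g⟩) i.1 i.2
private theorem _root_.Cfsg.Agent.KOd073e7c.e24.{ku} : @Matrix.vecCons.{ku} = @_root_.Cfsg.Agent.KOd073e7c.k24.{ku} := funext fun α => funext fun n => funext fun h => funext fun t => funext fun i => by cases i with | mk m g => cases m <;> rfl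
private noncomputable def _root_.Cfsg.Agent.KOd073e7c.k82s : (by first | exact Subtype (fun g => @Cfsg.Agent.H309.Q5.lS = @g) | exact Unit : Sort _) := by first | exact ⟨_, by delta Cfsg.Agent.H309.Q5.lS; rewrite [Cfsg.Agent.KOd073e7c.e24.{0}]; exact rfl⟩ | exact ⟨_, rfl⟩ | exact ()
private noncomputable def _root_.Cfsg.Agent.KOd073e7c.k82 : (by first | exact type_of% (@Subtype.val _ _ _root_.Cfsg.Agent.KOd073e7c.k82s) | exact Unit : Sort _) := by first | exact @Subtype.val _ _ _root_.Cfsg.Agent.KOd073e7c.k82s | exact ()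
private theorem _root_.Cfsg.Agent.KOd073e7c.e82 : (by first | exact type_of% (show _ = @_root_.Cfsg.Agent.KOd073e7c.k82 from @Subtype.property _ _ _root_.Cfsg.Agent.KOd073e7c.k82s) | exact True : Prop) := by first | exact @Subtype.property _ _ _root_.Cfsg.Agent.KOd073e7c.k82s | trivial
private noncomputable def _root_.Cfsg.Agent.KOd073e7c.k83 : (by first | exact type_of% @Cfsg.Agent.LsF.drop | exact Unit : Sort _) := by first | (refine @Subtype.val _ (fun g => @Cfsg.Agent.LsF.drop = @g) (@Subtype.mk _ _ (@(letI c0 := @Cfsg.Agent.LsF.dr; @(fun x0 x1 x2 => @Nat.rec.{1} @(fun x3 => @List.{0} @x0) (@c0 _ @x1 @x2) @(fun x3 x4 => @c0 _ (@Nat.land @x1 (nat_lit 3)) (@Cfsg.Agent.LsF.tq _ @x2 @x3)) (@Nat.shiftRight @x1 (nat_lit 2))))) ?_); (try delta Cfsg.Agent.LsF.drop); (try generalize @Cfsg.Agent.LsF.dr = g0); (try generalize @Cfsg.Agent.LsF.tq = g1); rfl') | exact @Cfsg.Agent.LsF.drop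 | exact ()
private theorem _root_.Cfsg.Agent.KOd073e7c.e83 : (by first | exact @Cfsg.Agent.LsF.drop = @_root_.Cfsg.Agent.KOd073e7c.k83 | exact True : Prop) := by first | (delta _root_.Cfsg.Agent.KOd073e7c.k83; exact @Subtype.property _ (fun g => @Cfsg.Agent.LsF.drop = @g) _) | rfl | trivial
private noncomputable def _root_.Cfsg.Agent.KOd073e7c.k84 : (by first | exact type_of% @Cfsg.Agent.LsF.getD | exact Unit : Sort _) := by first | (refine @Subtype.val _ (fun g => @Cfsg.Agent.LsF.getD = @g) (@Subtype.mk _ _ (@(fun x0 x1 x2 x3 => @List.rec.{1, 0} @x0 @(fun x4 => @x0) @x3 @(fun x4 x5 x6 => @x4) (@Cfsg.Agent.KOd073e7c.k83 _ @x2 @x1))) ?_); rewrite [← Cfsg.Agent.KOd073e7c.e83]; (try delta Cfsg.Agent.LsF.getD); (try generalize @Cfsg.Agent.LsF.drop = g0); rfl') | exact @Cfsg.Agent.LsF.getD | exact ()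
private theorem _root_.Cfsg.Agent.KOd073e7c.e84 : (by first | exact @Cfsg.Agent.LsF.getD = @_root_.Cfsg.Agent.KOd073e7c.k84 | exact True : Prop) := by first | (delta _root_.Cfsg.Agent.KOd073e7c.k84; exact @Subtype.property _ (fun g => @Cfsg.Agent.LsF.getD = @g) _) | rfl | trivial

set_option maxRecDepth 100000 in
theorem chkAS : lS.map (fun x => x * (gA : M5)) = pAS.map (fun i => lS.getD i 1) := by (refine of_decide_eq_true ?_; (try (rewrite [Cfsg.Agent.LsF.mmulF_pat, Cfsg.Agent.LsF.zadd_pat, Cfsg.Agent.LsF.zmul_pat, Cfsg.Agent.LsF.zdecEq_eq, Cfsg.Agent.LsF.dMat_eq, Cfsg.Agent.LsF.instMOne_eq, Cfsg.Agent.LsF.zACM_pat, Cfsg.Agent.LsF.map_eq, Cfsg.Agent.LsF.getD_eq, Cfsg.Agent.LsF.dListEq_eq, Cfsg.Agent.LsF.decide_eq])); (first | (delta Cfsg.Agent.H24.Q5.gA; rewrite [Cfsg.Agent.KOd073e7c.e82, Cfsg.Agent.KOd073e7c.e84]; decide +kernel) | decide +kernel))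
set_option maxRecDepth 100000 in
theorem chkBS : lS.map (fun x => x * (gS : M5)) = pBS.map (fun i => lS.getD i 1) := by (refine of_decide_eq_true ?_; (try (rewrite [Cfsg.Agent.LsF.mmulF_pat, Cfsg.Agent.LsF.zadd_pat, Cfsg.Agent.LsF.zmul_pat, Cfsg.Agent.LsF.zdecEq_eq, Cfsg.Agent.LsF.dMat_eq, Cfsg.Agent.LsF.instMOne_eq, Cfsg.Agent.LsF.zACM_pat, Cfsg.Agent.LsF.map_eq, Cfsg.Agent.LsF.getD_eq, Cfsg.Agent.LsF.dListEq_eq, Cfsg.Agent.LsF.decide_eq])); (first | (delta Cfsg.Agent.H24.Q5.gS; rewrite [Cfsg.Agent.KOd073e7c.e82, Cfsg.Agent.KOd073e7c.e84]; decide +kernel) | decide +kernel))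
set_option maxRecDepth 100000 in
theorem one_mem_lS : (1 : M5) ∈ lS := by decide +kernel

theorem card_LS_le : Nat.card LS ≤ 120 := by
  have h := card_closure_le gA gS lS one_mem_lS pAS pBS chkAS chkBS
  have hl : lS.length = 120 := by decide +kernel
  rw [hl] at h; exact h

/-- the elements of `LP` -/
def lP : List M5 := (beta% delta% lq26321636b6 fun e f _ _ j k l _ _ o _ _ =>
 (let i:=(let i:=(let i:=(let i:=(let i:=(k ((@_root_.Matrix.of (Fin 4) (Fin 4) _ (e (e 0<|e 4<|e 4<|e 4<|f)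
 (e (e 1<|e 4<|e 2<|e 3<|f)
 (e (e 0<|e 0<|e 0<|e 2<|f)
 (e (e 0<|e 0<|e 2<|e 4<|f)
 f))))) :type_of% (j _))<|
 k ((@_root_.Matrix.of (Fin 4) (Fin 4) _ (e (e 4<|e 0<|e 2<|e 4<|f)
 (e (e 2<|e 4<|e 2<|e 1<|f)
 (e (e 0<|e 0<|e 4<|e 0<|f)
 (e (e 0<|e 0<|e 4<|e 4<|f)
 f))))) :type_of% (j _))<|
 k ((@_root_.Matrix.of (Fin 4) (Fin 4) _ (e (e 3<|e 3<|e 2<|e 0<|f)
 (e (e 2<|e 4<|e 0<|e 2<|f)
 (e (e 0<|e 0<|e 3<|e 4<|f)
 (e (e 0<|e 0<|e 4<|e 4<|f)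
 f))))) :type_of% (j _))<|
 k ((@_root_.Matrix.of (Fin 4) (Fin 4) _ (e (e 4<|e 3<|e 2<|e 4<|f)
 (e (e 0<|e 4<|e 2<|e 1<|f)
 (e (e 0<|e 0<|e 4<|e 4<|f)
 (e (e 0<|e 0<|e 0<|e 4<|f)
 f))))) :type_of% (j _))<|o);
 (k ((@_root_.Matrix.of (Fin 4) (Fin 4) _ (e (e 3<|e 4<|e 3<|e 0<|f)
 (e (e 4<|e 4<|e 0<|e 3<|f)
 (e (e 0<|e 0<|e 3<|e 2<|f)
 (e (e 0<|e 0<|e 3<|e 4<|f)
 f))))) :type_of% (j _))<|
 k ((@_root_.Matrix.of (Fin 4) (Fin 4) _ (e (e 4<|e 3<|e 4<|e 0<|f)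
 (e (e 2<|e 3<|e 0<|e 1<|f)
 (e (e 0<|e 0<|e 4<|e 4<|f)
 (e (e 0<|e 0<|e 4<|e 3<|f)
 f))))) :type_of% (j _))<|
 k ((@_root_.Matrix.of (Fin 4) (Fin 4) _ (e (e 4<|e 4<|e 1<|e 4<|f)
 (e (e 1<|e 0<|e 2<|e 2<|f)
 (e (e 0<|e 0<|e 4<|e 2<|f)
 (e (e 0<|e 0<|e 2<|e 0<|f)
 f))))) :type_of% (j _))<|
 k ((@_root_.Matrix.of (Fin 4) (Fin 4) _ (e (e 4<|e 0<|e 0<|e 0<|f)
 (e (e 0<|e 4<|e 0<|e 0<|f)
 (e (e 0<|e 0<|e 4<|e 0<|f)
 (e (e 0<|e 0<|e 0<|e 4<|f)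
 f))))) :type_of% (j _))<|
 i));
 (k ((@_root_.Matrix.of (Fin 4) (Fin 4) _ (e (e 2<|e 3<|e 3<|e 0<|f)
 (e (e 2<|e 1<|e 0<|e 3<|f)
 (e (e 0<|e 0<|e 2<|e 4<|f)
 (e (e 0<|e 0<|e 4<|e 1<|f)
 f))))) :type_of% (j _))<|
 k ((@_root_.Matrix.of (Fin 4) (Fin 4) _ (e (e 3<|e 1<|e 3<|e 0<|f)
 (e (e 1<|e 4<|e 0<|e 3<|f)
 (e (e 0<|e 0<|e 3<|e 3<|f)
 (e (e 0<|e 0<|e 2<|e 4<|f)
 f))))) :type_of% (j _))<|
 k ((@_root_.Matrix.of (Fin 4) (Fin 4) _ (e (e 4<|e 1<|e 1<|e 1<|f)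
 (e (e 4<|e 0<|e 3<|e 2<|f)
 (e (e 0<|e 0<|e 4<|e 3<|f)
 (e (e 0<|e 0<|e 3<|e 0<|f)
 f))))) :type_of% (j _))<|
 k ((@_root_.Matrix.of (Fin 4) (Fin 4) _ (e (e 0<|e 2<|e 1<|e 3<|f)
 (e (e 2<|e 4<|e 1<|e 2<|f)
 (e (e 0<|e 0<|e 0<|e 1<|f)
 (e (e 0<|e 0<|e 4<|e 4<|f)
 f))))) :type_of% (j _))<|
 k ((@_root_.Matrix.of (Fin 4) (Fin 4) _ (e (e 4<|e 3<|e 4<|e 2<|f)
 (e (e 3<|e 0<|e 4<|e 3<|f)
 (e (e 0<|e 0<|e 4<|e 4<|f)
 (e (e 0<|e 0<|e 1<|e 0<|f)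
 f))))) :type_of% (j _))<|
 k ((@_root_.Matrix.of (Fin 4) (Fin 4) _ (e (e 3<|e 2<|e 2<|e 2<|f)
 (e (e 2<|e 0<|e 4<|e 1<|f)
 (e (e 0<|e 0<|e 3<|e 1<|f)
 (e (e 0<|e 0<|e 4<|e 0<|f)
 f))))) :type_of% (j _))<|
 k ((@_root_.Matrix.of (Fin 4) (Fin 4) _ (e (e 0<|e 3<|e 1<|e 2<|f)
 (e (e 3<|e 4<|e 4<|e 2<|f)
 (e (e 0<|e 0<|e 0<|e 4<|f)
 (e (e 0<|e 0<|e 1<|e 4<|f)
 f))))) :type_of% (j _))<|
 i));
 (let i:=(let i:=(k ((@_root_.Matrix.of (Fin 4) (Fin 4) _ (e (e 1<|e 3<|e 1<|e 0<|f)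
 (e (e 2<|e 2<|e 0<|e 4<|f)
 (e (e 0<|e 0<|e 1<|e 4<|f)
 (e (e 0<|e 0<|e 4<|e 2<|f)
 f))))) :type_of% (j _))<|
 k ((@_root_.Matrix.of (Fin 4) (Fin 4) _ (e (e 0<|e 4<|e 2<|e 1<|f)
 (e (e 1<|e 2<|e 3<|e 1<|f)
 (e (e 0<|e 0<|e 0<|e 2<|f)
 (e (e 0<|e 0<|e 2<|e 2<|f)
 f))))) :type_of% (j _))<|
 k ((@_root_.Matrix.of (Fin 4) (Fin 4) _ (e (e 4<|e 4<|e 1<|e 0<|f)
 (e (e 4<|e 3<|e 0<|e 4<|f)
 (e (e 0<|e 0<|e 4<|e 2<|f)
 (e (e 0<|e 0<|e 3<|e 3<|f)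
 f))))) :type_of% (j _))<|
 k ((@_root_.Matrix.of (Fin 4) (Fin 4) _ (e (e 4<|e 2<|e 4<|e 3<|f)
 (e (e 2<|e 0<|e 1<|e 3<|f)
 (e (e 0<|e 0<|e 4<|e 1<|f)
 (e (e 0<|e 0<|e 4<|e 0<|f)
 f))))) :type_of% (j _))<|
 i);
 (k ((@_root_.Matrix.of (Fin 4) (Fin 4) _ (e (e 2<|e 4<|e 2<|e 1<|f)
 (e (e 1<|e 0<|e 3<|e 1<|f)
 (e (e 0<|e 0<|e 2<|e 2<|f)
 (e (e 0<|e 0<|e 2<|e 0<|f)
 f))))) :type_of% (j _))<|
 k ((@_root_.Matrix.of (Fin 4) (Fin 4) _ (e (e 0<|e 1<|e 4<|e 1<|f)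
 (e (e 4<|e 4<|e 3<|e 3<|f)
 (e (e 0<|e 0<|e 0<|e 3<|f)
 (e (e 0<|e 0<|e 3<|e 4<|f)
 f))))) :type_of% (j _))<|
 k ((@_root_.Matrix.of (Fin 4) (Fin 4) _ (e (e 3<|e 3<|e 2<|e 3<|f)
 (e (e 3<|e 0<|e 1<|e 1<|f)
 (e (e 0<|e 0<|e 3<|e 4<|f)
 (e (e 0<|e 0<|e 1<|e 0<|f)
 f))))) :type_of% (j _))<|
 k ((@_root_.Matrix.of (Fin 4) (Fin 4) _ (e (e 4<|e 2<|e 2<|e 1<|f)
 (e (e 0<|e 4<|e 3<|e 1<|f)
 (e (e 0<|e 0<|e 4<|e 1<|f)
 (e (e 0<|e 0<|e 0<|e 4<|f)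
 f))))) :type_of% (j _))<|
 i));
 (k ((@_root_.Matrix.of (Fin 4) (Fin 4) _ (e (e 1<|e 1<|e 4<|e 1<|f)
 (e (e 4<|e 0<|e 3<|e 3<|f)
 (e (e 0<|e 0<|e 1<|e 3<|f)
 (e (e 0<|e 0<|e 3<|e 0<|f)
 f))))) :type_of% (j _))<|
 k ((@_root_.Matrix.of (Fin 4) (Fin 4) _ (e (e 1<|e 4<|e 0<|e 3<|f)
 (e (e 2<|e 4<|e 2<|e 0<|f)
 (e (e 0<|e 0<|e 1<|e 2<|f)
 (e (e 0<|e 0<|e 4<|e 4<|f)
 f))))) :type_of% (j _))<|
 k ((@_root_.Matrix.of (Fin 4) (Fin 4) _ (e (e 2<|e 2<|e 3<|e 2<|f)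
 (e (e 2<|e 0<|e 4<|e 4<|f)
 (e (e 0<|e 0<|e 2<|e 1<|f)
 (e (e 0<|e 0<|e 4<|e 0<|f)
 f))))) :type_of% (j _))<|
 k ((@_root_.Matrix.of (Fin 4) (Fin 4) _ (e (e 0<|e 3<|e 2<|e 3<|f)
 (e (e 3<|e 3<|e 1<|e 1<|f)
 (e (e 0<|e 0<|e 0<|e 4<|f)
 (e (e 0<|e 0<|e 1<|e 3<|f)
 f))))) :type_of% (j _))<|
 k ((@_root_.Matrix.of (Fin 4) (Fin 4) _ (e (e 4<|e 1<|e 1<|e 0<|f)
 (e (e 1<|e 3<|e 0<|e 4<|f)
 (e (e 0<|e 0<|e 4<|e 3<|f)
 (e (e 0<|e 0<|e 2<|e 3<|f)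
 f))))) :type_of% (j _))<|
 k ((@_root_.Matrix.of (Fin 4) (Fin 4) _ (e (e 4<|e 0<|e 2<|e 1<|f)
 (e (e 3<|e 4<|e 3<|e 1<|f)
 (e (e 0<|e 0<|e 4<|e 0<|f)
 (e (e 0<|e 0<|e 1<|e 4<|f)
 f))))) :type_of% (j _))<|
 k ((@_root_.Matrix.of (Fin 4) (Fin 4) _ (e (e 0<|e 2<|e 2<|e 2<|f)
 (e (e 2<|e 3<|e 4<|e 1<|f)
 (e (e 0<|e 0<|e 0<|e 1<|f)
 (e (e 0<|e 0<|e 4<|e 3<|f)
 f))))) :type_of% (j _))<|
 i)));
 (let i:=(let i:=(let i:=(k ((@_root_.Matrix.of (Fin 4) (Fin 4) _ (e (e 1<|e 3<|e 0<|e 4<|f)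
 (e (e 1<|e 4<|e 4<|e 0<|f)
 (e (e 0<|e 0<|e 1<|e 4<|f)
 (e (e 0<|e 0<|e 2<|e 4<|f)
 f))))) :type_of% (j _))<|
 k ((@_root_.Matrix.of (Fin 4) (Fin 4) _ (e (e 4<|e 1<|e 0<|e 0<|f)
 (e (e 2<|e 2<|e 0<|e 0<|f)
 (e (e 0<|e 0<|e 4<|e 3<|f)
 (e (e 0<|e 0<|e 4<|e 2<|f)
 f))))) :type_of% (j _))<|
 k ((@_root_.Matrix.of (Fin 4) (Fin 4) _ (e (e 2<|e 0<|e 0<|e 0<|f)
 (e (e 0<|e 3<|e 0<|e 0<|f)
 (e (e 0<|e 0<|e 2<|e 0<|f)
 (e (e 0<|e 0<|e 0<|e 3<|f)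
 f))))) :type_of% (j _))<|
 k ((@_root_.Matrix.of (Fin 4) (Fin 4) _ (e (e 3<|e 3<|e 0<|e 0<|f)
 (e (e 4<|e 1<|e 0<|e 0<|f)
 (e (e 0<|e 0<|e 3<|e 4<|f)
 (e (e 0<|e 0<|e 3<|e 1<|f)
 f))))) :type_of% (j _))<|
 i);
 (k ((@_root_.Matrix.of (Fin 4) (Fin 4) _ (e (e 3<|e 1<|e 0<|e 0<|f)
 (e (e 2<|e 1<|e 0<|e 0<|f)
 (e (e 0<|e 0<|e 3<|e 3<|f)
 (e (e 0<|e 0<|e 4<|e 1<|f)
 f))))) :type_of% (j _))<|
 k ((@_root_.Matrix.of (Fin 4) (Fin 4) _ (e (e 3<|e 4<|e 4<|e 2<|f)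
 (e (e 0<|e 2<|e 4<|e 3<|f)
 (e (e 0<|e 0<|e 3<|e 2<|f)
 (e (e 0<|e 0<|e 0<|e 2<|f)
 f))))) :type_of% (j _))<|
 k ((@_root_.Matrix.of (Fin 4) (Fin 4) _ (e (e 2<|e 3<|e 0<|e 1<|f)
 (e (e 1<|e 2<|e 1<|e 0<|f)
 (e (e 0<|e 0<|e 2<|e 4<|f)
 (e (e 0<|e 0<|e 2<|e 2<|f)
 f))))) :type_of% (j _))<|
 k ((@_root_.Matrix.of (Fin 4) (Fin 4) _ (e (e 0<|e 2<|e 3<|e 2<|f)
 (e (e 2<|e 2<|e 4<|e 4<|f)
 (e (e 0<|e 0<|e 0<|e 1<|f)
 (e (e 0<|e 0<|e 4<|e 2<|f)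
 f))))) :type_of% (j _))<|
 i));
 (k ((@_root_.Matrix.of (Fin 4) (Fin 4) _ (e (e 3<|e 0<|e 4<|e 3<|f)
 (e (e 1<|e 2<|e 1<|e 3<|f)
 (e (e 0<|e 0<|e 3<|e 0<|f)
 (e (e 0<|e 0<|e 2<|e 2<|f)
 f))))) :type_of% (j _))<|
 k ((@_root_.Matrix.of (Fin 4) (Fin 4) _ (e (e 1<|e 3<|e 0<|e 0<|f)
 (e (e 4<|e 3<|e 0<|e 0<|f)
 (e (e 0<|e 0<|e 1<|e 4<|f)
 (e (e 0<|e 0<|e 3<|e 3<|f)
 f))))) :type_of% (j _))<|
 k ((@_root_.Matrix.of (Fin 4) (Fin 4) _ (e (e 4<|e 3<|e 0<|e 0<|f)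
 (e (e 4<|e 2<|e 0<|e 0<|f)
 (e (e 0<|e 0<|e 4<|e 4<|f)
 (e (e 0<|e 0<|e 3<|e 2<|f)
 f))))) :type_of% (j _))<|
 k ((@_root_.Matrix.of (Fin 4) (Fin 4) _ (e (e 4<|e 0<|e 3<|e 2<|f)
 (e (e 1<|e 4<|e 4<|e 4<|f)
 (e (e 0<|e 0<|e 4<|e 0<|f)
 (e (e 0<|e 0<|e 2<|e 4<|f)
 f))))) :type_of% (j _))<|
 k ((@_root_.Matrix.of (Fin 4) (Fin 4) _ (e (e 0<|e 2<|e 0<|e 0<|f)
 (e (e 2<|e 0<|e 0<|e 0<|f)
 (e (e 0<|e 0<|e 0<|e 1<|f)
 (e (e 0<|e 0<|e 4<|e 0<|f)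
 f))))) :type_of% (j _))<|
 k ((@_root_.Matrix.of (Fin 4) (Fin 4) _ (e (e 0<|e 3<|e 0<|e 0<|f)
 (e (e 3<|e 0<|e 0<|e 0<|f)
 (e (e 0<|e 0<|e 0<|e 4<|f)
 (e (e 0<|e 0<|e 1<|e 0<|f)
 f))))) :type_of% (j _))<|
 k ((@_root_.Matrix.of (Fin 4) (Fin 4) _ (e (e 2<|e 1<|e 0<|e 0<|f)
 (e (e 2<|e 4<|e 0<|e 0<|f)
 (e (e 0<|e 0<|e 2<|e 3<|f)
 (e (e 0<|e 0<|e 4<|e 4<|f)
 f))))) :type_of% (j _))<|
 i));
 (let i:=(let i:=(k ((@_root_.Matrix.of (Fin 4) (Fin 4) _ (e (e 2<|e 3<|e 3<|e 3<|f)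
 (e (e 3<|e 0<|e 1<|e 4<|f)
 (e (e 0<|e 0<|e 2<|e 4<|f)
 (e (e 0<|e 0<|e 1<|e 0<|f)
 f))))) :type_of% (j _))<|
 k ((@_root_.Matrix.of (Fin 4) (Fin 4) _ (e (e 4<|e 4<|e 3<|e 3<|f)
 (e (e 0<|e 4<|e 1<|e 4<|f)
 (e (e 0<|e 0<|e 4<|e 2<|f)
 (e (e 0<|e 0<|e 0<|e 4<|f)
 f))))) :type_of% (j _))<|
 k ((@_root_.Matrix.of (Fin 4) (Fin 4) _ (e (e 2<|e 4<|e 0<|e 2<|f)
 (e (e 2<|e 2<|e 3<|e 0<|f)
 (e (e 0<|e 0<|e 2<|e 2<|f)
 (e (e 0<|e 0<|e 4<|e 2<|f)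
 f))))) :type_of% (j _))<|
 k ((@_root_.Matrix.of (Fin 4) (Fin 4) _ (e (e 0<|e 1<|e 3<|e 4<|f)
 (e (e 4<|e 3<|e 2<|e 4<|f)
 (e (e 0<|e 0<|e 0<|e 3<|f)
 (e (e 0<|e 0<|e 3<|e 3<|f)
 f))))) :type_of% (j _))<|
 i);
 (k ((@_root_.Matrix.of (Fin 4) (Fin 4) _ (e (e 0<|e 4<|e 0<|e 0<|f)
 (e (e 1<|e 0<|e 0<|e 0<|f)
 (e (e 0<|e 0<|e 0<|e 2<|f)
 (e (e 0<|e 0<|e 2<|e 0<|f)
 f))))) :type_of% (j _))<|
 k ((@_root_.Matrix.of (Fin 4) (Fin 4) _ (e (e 2<|e 4<|e 1<|e 2<|f)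
 (e (e 0<|e 3<|e 4<|e 2<|f)
 (e (e 0<|e 0<|e 2<|e 2<|f)
 (e (e 0<|e 0<|e 0<|e 3<|f)
 f))))) :type_of% (j _))<|
 k ((@_root_.Matrix.of (Fin 4) (Fin 4) _ (e (e 2<|e 3<|e 0<|e 0<|f)
 (e (e 4<|e 4<|e 0<|e 0<|f)
 (e (e 0<|e 0<|e 2<|e 4<|f)
 (e (e 0<|e 0<|e 3<|e 4<|f)
 f))))) :type_of% (j _))<|
 k ((@_root_.Matrix.of (Fin 4) (Fin 4) _ (e (e 4<|e 4<|e 0<|e 3<|f)
 (e (e 2<|e 1<|e 2<|e 0<|f)
 (e (e 0<|e 0<|e 4<|e 2<|f)
 (e (e 0<|e 0<|e 4<|e 1<|f)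
 f))))) :type_of% (j _))<|
 i));
 (k ((@_root_.Matrix.of (Fin 4) (Fin 4) _ (e (e 4<|e 2<|e 4<|e 0<|f)
 (e (e 3<|e 3<|e 0<|e 1<|f)
 (e (e 0<|e 0<|e 4<|e 1<|f)
 (e (e 0<|e 0<|e 1<|e 3<|f)
 f))))) :type_of% (j _))<|
 k ((@_root_.Matrix.of (Fin 4) (Fin 4) _ (e (e 2<|e 0<|e 1<|e 3<|f)
 (e (e 1<|e 3<|e 1<|e 2<|f)
 (e (e 0<|e 0<|e 2<|e 0<|f)
 (e (e 0<|e 0<|e 2<|e 3<|f)
 f))))) :type_of% (j _))<|
 k ((@_root_.Matrix.of (Fin 4) (Fin 4) _ (e (e 0<|e 1<|e 1<|e 1<|f)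
 (e (e 4<|e 1<|e 3<|e 2<|f)
 (e (e 0<|e 0<|e 0<|e 3<|f)
 (e (e 0<|e 0<|e 3<|e 1<|f)
 f))))) :type_of% (j _))<|
 k ((@_root_.Matrix.of (Fin 4) (Fin 4) _ (e (e 3<|e 2<|e 2<|e 0<|f)
 (e (e 3<|e 4<|e 0<|e 2<|f)
 (e (e 0<|e 0<|e 3<|e 1<|f)
 (e (e 0<|e 0<|e 1<|e 4<|f)
 f))))) :type_of% (j _))<|
 k ((@_root_.Matrix.of (Fin 4) (Fin 4) _ (e (e 1<|e 1<|e 0<|e 0<|f)
 (e (e 2<|e 3<|e 0<|e 0<|f)
 (e (e 0<|e 0<|e 1<|e 3<|f)
 (e (e 0<|e 0<|e 4<|e 3<|f)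
 f))))) :type_of% (j _))<|
 k ((@_root_.Matrix.of (Fin 4) (Fin 4) _ (e (e 3<|e 1<|e 3<|e 4<|f)
 (e (e 4<|e 0<|e 2<|e 4<|f)
 (e (e 0<|e 0<|e 3<|e 3<|f)
 (e (e 0<|e 0<|e 3<|e 0<|f)
 f))))) :type_of% (j _))<|
 k ((@_root_.Matrix.of (Fin 4) (Fin 4) _ (e (e 3<|e 0<|e 0<|e 0<|f)
 (e (e 0<|e 2<|e 0<|e 0<|f)
 (e (e 0<|e 0<|e 3<|e 0<|f)
 (e (e 0<|e 0<|e 0<|e 2<|f)
 f))))) :type_of% (j _))<|
 i))));
 (let i:=(let i:=(let i:=(let i:=(k ((@_root_.Matrix.of (Fin 4) (Fin 4) _ (e (e 2<|e 2<|e 0<|e 0<|f)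
 (e (e 1<|e 4<|e 0<|e 0<|f)
 (e (e 0<|e 0<|e 2<|e 1<|f)
 (e (e 0<|e 0<|e 2<|e 4<|f)
 f))))) :type_of% (j _))<|
 k ((@_root_.Matrix.of (Fin 4) (Fin 4) _ (e (e 1<|e 2<|e 1<|e 3<|f)
 (e (e 2<|e 0<|e 1<|e 2<|f)
 (e (e 0<|e 0<|e 1<|e 1<|f)
 (e (e 0<|e 0<|e 4<|e 0<|f)
 f))))) :type_of% (j _))<|
 k ((@_root_.Matrix.of (Fin 4) (Fin 4) _ (e (e 0<|e 3<|e 3<|e 3<|f)
 (e (e 3<|e 2<|e 1<|e 4<|f)
 (e (e 0<|e 0<|e 0<|e 4<|f)
 (e (e 0<|e 0<|e 1<|e 2<|f)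
 f))))) :type_of% (j _))<|
 k ((@_root_.Matrix.of (Fin 4) (Fin 4) _ (e (e 4<|e 3<|e 0<|e 4<|f)
 (e (e 1<|e 1<|e 4<|e 0<|f)
 (e (e 0<|e 0<|e 4<|e 4<|f)
 (e (e 0<|e 0<|e 2<|e 1<|f)
 f))))) :type_of% (j _))<|
 i);
 (k ((@_root_.Matrix.of (Fin 4) (Fin 4) _ (e (e 1<|e 1<|e 4<|e 0<|f)
 (e (e 1<|e 2<|e 0<|e 1<|f)
 (e (e 0<|e 0<|e 1<|e 3<|f)
 (e (e 0<|e 0<|e 2<|e 2<|f)
 f))))) :type_of% (j _))<|
 k ((@_root_.Matrix.of (Fin 4) (Fin 4) _ (e (e 2<|e 1<|e 1<|e 3<|f)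
 (e (e 0<|e 3<|e 1<|e 2<|f)
 (e (e 0<|e 0<|e 2<|e 3<|f)
 (e (e 0<|e 0<|e 0<|e 3<|f)
 f))))) :type_of% (j _))<|
 k ((@_root_.Matrix.of (Fin 4) (Fin 4) _ (e (e 3<|e 2<|e 0<|e 4<|f)
 (e (e 4<|e 3<|e 4<|e 0<|f)
 (e (e 0<|e 0<|e 3<|e 1<|f)
 (e (e 0<|e 0<|e 3<|e 3<|f)
 f))))) :type_of% (j _))<|
 k ((@_root_.Matrix.of (Fin 4) (Fin 4) _ (e (e 1<|e 4<|e 4<|e 0<|f)
 (e (e 4<|e 2<|e 0<|e 1<|f)
 (e (e 0<|e 0<|e 1<|e 2<|f)
 (e (e 0<|e 0<|e 3<|e 2<|f)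
 f))))) :type_of% (j _))<|
 i));
 (k ((@_root_.Matrix.of (Fin 4) (Fin 4) _ (e (e 0<|e 2<|e 4<|e 3<|f)
 (e (e 2<|e 1<|e 1<|e 3<|f)
 (e (e 0<|e 0<|e 0<|e 1<|f)
 (e (e 0<|e 0<|e 4<|e 1<|f)
 f))))) :type_of% (j _))<|
 k ((@_root_.Matrix.of (Fin 4) (Fin 4) _ (e (e 1<|e 3<|e 1<|e 2<|f)
 (e (e 3<|e 0<|e 4<|e 2<|f)
 (e (e 0<|e 0<|e 1<|e 4<|f)
 (e (e 0<|e 0<|e 1<|e 0<|f)
 f))))) :type_of% (j _))<|
 k ((@_root_.Matrix.of (Fin 4) (Fin 4) _ (e (e 4<|e 1<|e 3<|e 2<|f)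
 (e (e 0<|e 4<|e 4<|e 4<|f)
 (e (e 0<|e 0<|e 4<|e 3<|f)
 (e (e 0<|e 0<|e 0<|e 4<|f)
 f))))) :type_of% (j _))<|
 k ((@_root_.Matrix.of (Fin 4) (Fin 4) _ (e (e 3<|e 0<|e 1<|e 1<|f)
 (e (e 2<|e 2<|e 3<|e 2<|f)
 (e (e 0<|e 0<|e 3<|e 0<|f)
 (e (e 0<|e 0<|e 4<|e 2<|f)
 f))))) :type_of% (j _))<|
 k ((@_root_.Matrix.of (Fin 4) (Fin 4) _ (e (e 2<|e 0<|e 1<|e 2<|f)
 (e (e 4<|e 3<|e 4<|e 2<|f)
 (e (e 0<|e 0<|e 2<|e 0<|f)
 (e (e 0<|e 0<|e 3<|e 3<|f)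
 f))))) :type_of% (j _))<|
 k ((@_root_.Matrix.of (Fin 4) (Fin 4) _ (e (e 3<|e 3<|e 1<|e 1<|f)
 (e (e 0<|e 2<|e 3<|e 2<|f)
 (e (e 0<|e 0<|e 3<|e 4<|f)
 (e (e 0<|e 0<|e 0<|e 2<|f)
 f))))) :type_of% (j _))<|
 k ((@_root_.Matrix.of (Fin 4) (Fin 4) _ (e (e 4<|e 2<|e 0<|e 0<|f)
 (e (e 1<|e 2<|e 0<|e 0<|f)
 (e (e 0<|e 0<|e 4<|e 1<|f)
 (e (e 0<|e 0<|e 2<|e 2<|f)
 f))))) :type_of% (j _))<|
 i));
 (let i:=(let i:=(k ((@_root_.Matrix.of (Fin 4) (Fin 4) _ (e (e 3<|e 1<|e 4<|e 3<|f)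
 (e (e 0<|e 2<|e 1<|e 3<|f)
 (e (e 0<|e 0<|e 3<|e 3<|f)
 (e (e 0<|e 0<|e 0<|e 2<|f)
 f))))) :type_of% (j _))<|
 k ((@_root_.Matrix.of (Fin 4) (Fin 4) _ (e (e 3<|e 4<|e 3<|e 1<|f)
 (e (e 1<|e 0<|e 3<|e 4<|f)
 (e (e 0<|e 0<|e 3<|e 2<|f)
 (e (e 0<|e 0<|e 2<|e 0<|f)
 f))))) :type_of% (j _))<|
 k ((@_root_.Matrix.of (Fin 4) (Fin 4) _ (e (e 2<|e 3<|e 4<|e 1<|f)
 (e (e 0<|e 3<|e 3<|e 3<|f)
 (e (e 0<|e 0<|e 2<|e 4<|f)
 (e (e 0<|e 0<|e 0<|e 3<|f)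
 f))))) :type_of% (j _))<|
 k ((@_root_.Matrix.of (Fin 4) (Fin 4) _ (e (e 4<|e 0<|e 3<|e 3<|f)
 (e (e 4<|e 4<|e 1<|e 4<|f)
 (e (e 0<|e 0<|e 4<|e 0<|f)
 (e (e 0<|e 0<|e 3<|e 4<|f)
 f))))) :type_of% (j _))<|
 i);
 (k ((@_root_.Matrix.of (Fin 4) (Fin 4) _ (e (e 2<|e 4<|e 2<|e 0<|f)
 (e (e 4<|e 1<|e 0<|e 2<|f)
 (e (e 0<|e 0<|e 2<|e 2<|f)
 (e (e 0<|e 0<|e 3<|e 1<|f)
 f))))) :type_of% (j _))<|
 k ((@_root_.Matrix.of (Fin 4) (Fin 4) _ (e (e 2<|e 4<|e 0<|e 0<|f)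
 (e (e 3<|e 4<|e 0<|e 0<|f)
 (e (e 0<|e 0<|e 2<|e 2<|f)
 (e (e 0<|e 0<|e 1<|e 4<|f)
 f))))) :type_of% (j _))<|
 k ((@_root_.Matrix.of (Fin 4) (Fin 4) _ (e (e 2<|e 0<|e 4<|e 1<|f)
 (e (e 2<|e 3<|e 3<|e 3<|f)
 (e (e 0<|e 0<|e 2<|e 0<|f)
 (e (e 0<|e 0<|e 4<|e 3<|f)
 f))))) :type_of% (j _))<|
 k ((@_root_.Matrix.of (Fin 4) (Fin 4) _ (e (e 0<|e 1<|e 0<|e 0<|f)
 (e (e 4<|e 0<|e 0<|e 0<|f)
 (e (e 0<|e 0<|e 0<|e 3<|f)
 (e (e 0<|e 0<|e 3<|e 0<|f)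
 f))))) :type_of% (j _))<|
 i));
 (k ((@_root_.Matrix.of (Fin 4) (Fin 4) _ (e (e 1<|e 0<|e 3<|e 4<|f)
 (e (e 2<|e 1<|e 2<|e 4<|f)
 (e (e 0<|e 0<|e 1<|e 0<|f)
 (e (e 0<|e 0<|e 4<|e 1<|f)
 f))))) :type_of% (j _))<|
 k ((@_root_.Matrix.of (Fin 4) (Fin 4) _ (e (e 0<|e 3<|e 4<|e 2<|f)
 (e (e 3<|e 1<|e 4<|e 3<|f)
 (e (e 0<|e 0<|e 0<|e 4<|f)
 (e (e 0<|e 0<|e 1<|e 1<|f)
 f))))) :type_of% (j _))<|
 k ((@_root_.Matrix.of (Fin 4) (Fin 4) _ (e (e 4<|e 4<|e 0<|e 0<|f)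
 (e (e 3<|e 2<|e 0<|e 0<|f)
 (e (e 0<|e 0<|e 4<|e 2<|f)
 (e (e 0<|e 0<|e 1<|e 2<|f)
 f))))) :type_of% (j _))<|
 k ((@_root_.Matrix.of (Fin 4) (Fin 4) _ (e (e 2<|e 1<|e 2<|e 0<|f)
 (e (e 1<|e 1<|e 0<|e 2<|f)
 (e (e 0<|e 0<|e 2<|e 3<|f)
 (e (e 0<|e 0<|e 2<|e 1<|f)
 f))))) :type_of% (j _))<|
 k ((@_root_.Matrix.of (Fin 4) (Fin 4) _ (e (e 3<|e 1<|e 0<|e 3<|f)
 (e (e 3<|e 3<|e 2<|e 0<|f)
 (e (e 0<|e 0<|e 3<|e 3<|f)
 (e (e 0<|e 0<|e 1<|e 3<|f)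
 f))))) :type_of% (j _))<|
 k ((@_root_.Matrix.of (Fin 4) (Fin 4) _ (e (e 3<|e 0<|e 4<|e 2<|f)
 (e (e 4<|e 2<|e 4<|e 3<|f)
 (e (e 0<|e 0<|e 3<|e 0<|f)
 (e (e 0<|e 0<|e 3<|e 2<|f)
 f))))) :type_of% (j _))<|
 k ((@_root_.Matrix.of (Fin 4) (Fin 4) _ (e (e 0<|e 4<|e 3<|e 1<|f)
 (e (e 1<|e 3<|e 3<|e 4<|f)
 (e (e 0<|e 0<|e 0<|e 2<|f)
 (e (e 0<|e 0<|e 2<|e 3<|f)
 f))))) :type_of% (j _))<|
 i)));
 (let i:=(let i:=(let i:=(k ((@_root_.Matrix.of (Fin 4) (Fin 4) _ (e (e 3<|e 2<|e 1<|e 4<|f)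
 (e (e 0<|e 2<|e 2<|e 2<|f)
 (e (e 0<|e 0<|e 3<|e 1<|f)
 (e (e 0<|e 0<|e 0<|e 2<|f)
 f))))) :type_of% (j _))<|
 k ((@_root_.Matrix.of (Fin 4) (Fin 4) _ (e (e 1<|e 4<|e 4<|e 4<|f)
 (e (e 1<|e 0<|e 2<|e 3<|f)
 (e (e 0<|e 0<|e 1<|e 2<|f)
 (e (e 0<|e 0<|e 2<|e 0<|f)
 f))))) :type_of% (j _))<|
 k ((@_root_.Matrix.of (Fin 4) (Fin 4) _ (e (e 2<|e 2<|e 4<|e 4<|f)
 (e (e 0<|e 3<|e 2<|e 3<|f)
 (e (e 0<|e 0<|e 2<|e 1<|f)
 (e (e 0<|e 0<|e 0<|e 3<|f)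
 f))))) :type_of% (j _))<|
 k ((@_root_.Matrix.of (Fin 4) (Fin 4) _ (e (e 1<|e 2<|e 0<|e 1<|f)
 (e (e 4<|e 4<|e 1<|e 0<|f)
 (e (e 0<|e 0<|e 1<|e 1<|f)
 (e (e 0<|e 0<|e 3<|e 4<|f)
 f))))) :type_of% (j _))<|
 i);
 (k ((@_root_.Matrix.of (Fin 4) (Fin 4) _ (e (e 4<|e 2<|e 0<|e 1<|f)
 (e (e 4<|e 1<|e 1<|e 0<|f)
 (e (e 0<|e 0<|e 4<|e 1<|f)
 (e (e 0<|e 0<|e 3<|e 1<|f)
 f))))) :type_of% (j _))<|
 k ((@_root_.Matrix.of (Fin 4) (Fin 4) _ (e (e 1<|e 1<|e 0<|e 2<|f)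
 (e (e 3<|e 4<|e 3<|e 0<|f)
 (e (e 0<|e 0<|e 1<|e 3<|f)
 (e (e 0<|e 0<|e 1<|e 4<|f)
 f))))) :type_of% (j _))<|
 k ((@_root_.Matrix.of (Fin 4) (Fin 4) _ (e (e 3<|e 4<|e 0<|e 2<|f)
 (e (e 2<|e 3<|e 3<|e 0<|f)
 (e (e 0<|e 0<|e 3<|e 2<|f)
 (e (e 0<|e 0<|e 4<|e 3<|f)
 f))))) :type_of% (j _))<|
 k ((@_root_.Matrix.of (Fin 4) (Fin 4) _ (e (e 2<|e 1<|e 2<|e 4<|f)
 (e (e 4<|e 0<|e 2<|e 1<|f)
 (e (e 0<|e 0<|e 2<|e 3<|f)
 (e (e 0<|e 0<|e 3<|e 0<|f)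
 f))))) :type_of% (j _))<|
 i));
 (k ((@_root_.Matrix.of (Fin 4) (Fin 4) _ (e (e 1<|e 3<|e 3<|e 4<|f)
 (e (e 0<|e 1<|e 2<|e 4<|f)
 (e (e 0<|e 0<|e 1<|e 4<|f)
 (e (e 0<|e 0<|e 0<|e 1<|f)
 f))))) :type_of% (j _))<|
 k ((@_root_.Matrix.of (Fin 4) (Fin 4) _ (e (e 4<|e 1<|e 0<|e 2<|f)
 (e (e 3<|e 1<|e 3<|e 0<|f)
 (e (e 0<|e 0<|e 4<|e 3<|f)
 (e (e 0<|e 0<|e 1<|e 1<|f)
 f))))) :type_of% (j _))<|
 k ((@_root_.Matrix.of (Fin 4) (Fin 4) _ (e (e 3<|e 0<|e 1<|e 4<|f)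
 (e (e 3<|e 2<|e 2<|e 2<|f)
 (e (e 0<|e 0<|e 3<|e 0<|f)
 (e (e 0<|e 0<|e 1<|e 2<|f)
 f))))) :type_of% (j _))<|
 k ((@_root_.Matrix.of (Fin 4) (Fin 4) _ (e (e 0<|e 4<|e 1<|e 4<|f)
 (e (e 1<|e 1<|e 2<|e 2<|f)
 (e (e 0<|e 0<|e 0<|e 2<|f)
 (e (e 0<|e 0<|e 2<|e 1<|f)
 f))))) :type_of% (j _))<|
 k ((@_root_.Matrix.of (Fin 4) (Fin 4) _ (e (e 2<|e 0<|e 4<|e 4<|f)
 (e (e 3<|e 3<|e 2<|e 3<|f)
 (e (e 0<|e 0<|e 2<|e 0<|f)
 (e (e 0<|e 0<|e 1<|e 3<|f)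
 f))))) :type_of% (j _))<|
 k ((@_root_.Matrix.of (Fin 4) (Fin 4) _ (e (e 0<|e 1<|e 2<|e 4<|f)
 (e (e 4<|e 2<|e 2<|e 1<|f)
 (e (e 0<|e 0<|e 0<|e 3<|f)
 (e (e 0<|e 0<|e 3<|e 2<|f)
 f))))) :type_of% (j _))<|
 k ((@_root_.Matrix.of (Fin 4) (Fin 4) _ (e (e 3<|e 3<|e 0<|e 1<|f)
 (e (e 1<|e 3<|e 1<|e 0<|f)
 (e (e 0<|e 0<|e 3<|e 4<|f)
 (e (e 0<|e 0<|e 2<|e 3<|f)
 f))))) :type_of% (j _))<|
 i));
 (let i:=(let i:=(k ((@_root_.Matrix.of (Fin 4) (Fin 4) _ (e (e 1<|e 4<|e 0<|e 0<|f)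
 (e (e 3<|e 3<|e 0<|e 0<|f)
 (e (e 0<|e 0<|e 1<|e 2<|f)
 (e (e 0<|e 0<|e 1<|e 3<|f)
 f))))) :type_of% (j _))<|
 k ((@_root_.Matrix.of (Fin 4) (Fin 4) _ (e (e 2<|e 2<|e 0<|e 4<|f)
 (e (e 4<|e 2<|e 4<|e 0<|f)
 (e (e 0<|e 0<|e 2<|e 1<|f)
 (e (e 0<|e 0<|e 3<|e 2<|f)
 f))))) :type_of% (j _))<|
 k ((@_root_.Matrix.of (Fin 4) (Fin 4) _ (e (e 1<|e 2<|e 0<|e 0<|f)
 (e (e 1<|e 3<|e 0<|e 0<|f)
 (e (e 0<|e 0<|e 1<|e 1<|f)
 (e (e 0<|e 0<|e 2<|e 3<|f)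
 f))))) :type_of% (j _))<|
 k ((@_root_.Matrix.of (Fin 4) (Fin 4) _ (e (e 1<|e 0<|e 2<|e 3<|f)
 (e (e 4<|e 1<|e 1<|e 1<|f)
 (e (e 0<|e 0<|e 1<|e 0<|f)
 (e (e 0<|e 0<|e 3<|e 1<|f)
 f))))) :type_of% (j _))<|
 i);
 (k ((@_root_.Matrix.of (Fin 4) (Fin 4) _ (e (e 1<|e 1<|e 2<|e 2<|f)
 (e (e 0<|e 1<|e 4<|e 1<|f)
 (e (e 0<|e 0<|e 1<|e 3<|f)
 (e (e 0<|e 0<|e 0<|e 1<|f)
 f))))) :type_of% (j _))<|
 k ((@_root_.Matrix.of (Fin 4) (Fin 4) _ (e (e 3<|e 4<|e 0<|e 0<|f)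
 (e (e 3<|e 1<|e 0<|e 0<|f)
 (e (e 0<|e 0<|e 3<|e 2<|f)
 (e (e 0<|e 0<|e 1<|e 1<|f)
 f))))) :type_of% (j _))<|
 k ((@_root_.Matrix.of (Fin 4) (Fin 4) _ (e (e 2<|e 1<|e 0<|e 3<|f)
 (e (e 3<|e 2<|e 2<|e 0<|f)
 (e (e 0<|e 0<|e 2<|e 3<|f)
 (e (e 0<|e 0<|e 1<|e 2<|f)
 f))))) :type_of% (j _))<|
 k ((@_root_.Matrix.of (Fin 4) (Fin 4) _ (e (e 3<|e 2<|e 0<|e 0<|f)
 (e (e 1<|e 1<|e 0<|e 0<|f)
 (e (e 0<|e 0<|e 3<|e 1<|f)
 (e (e 0<|e 0<|e 2<|e 1<|f)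
 f))))) :type_of% (j _))<|
 i));
 (l ((@_root_.Matrix.of (Fin 4) (Fin 4) _ (e (e 1<|e 0<|e 0<|e 0<|f)
 (e (e 0<|e 1<|e 0<|e 0<|f)
 (e (e 0<|e 0<|e 1<|e 0<|f)
 (e (e 0<|e 0<|e 0<|e 1<|f)
 f))))) :type_of% (j _))<|
 l ((@_root_.Matrix.of (Fin 4) (Fin 4) _ (e (e 1<|e 2<|e 3<|e 1<|f)
 (e (e 0<|e 1<|e 3<|e 4<|f)
 (e (e 0<|e 0<|e 1<|e 1<|f)
 (e (e 0<|e 0<|e 0<|e 1<|f)
 f))))) :type_of% (j _))<|
 l ((@_root_.Matrix.of (Fin 4) (Fin 4) _ (e (e 1<|e 0<|e 3<|e 1<|f)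
 (e (e 3<|e 1<|e 3<|e 4<|f)
 (e (e 0<|e 0<|e 1<|e 0<|f)
 (e (e 0<|e 0<|e 1<|e 1<|f)
 f))))) :type_of% (j _))<|
 l ((@_root_.Matrix.of (Fin 4) (Fin 4) _ (e (e 1<|e 4<|e 2<|e 3<|f)
 (e (e 0<|e 1<|e 1<|e 1<|f)
 (e (e 0<|e 0<|e 1<|e 2<|f)
 (e (e 0<|e 0<|e 0<|e 1<|f)
 f))))) :type_of% (j _))<|
 l ((@_root_.Matrix.of (Fin 4) (Fin 4) _ (e (e 2<|e 2<|e 3<|e 0<|f)
 (e (e 3<|e 1<|e 0<|e 3<|f)
 (e (e 0<|e 0<|e 2<|e 1<|f)
 (e (e 0<|e 0<|e 1<|e 1<|f)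
 f))))) :type_of% (j _))<|
 l ((@_root_.Matrix.of (Fin 4) (Fin 4) _ (e (e 1<|e 2<|e 1<|e 0<|f)
 (e (e 3<|e 2<|e 0<|e 4<|f)
 (e (e 0<|e 0<|e 1<|e 1<|f)
 (e (e 0<|e 0<|e 1<|e 2<|f)
 f))))) :type_of% (j _))<|
 l ((@_root_.Matrix.of (Fin 4) (Fin 4) _ (e (e 1<|e 0<|e 2<|e 2<|f)
 (e (e 1<|e 1<|e 4<|e 1<|f)
 (e (e 0<|e 0<|e 1<|e 0<|f)
 (e (e 0<|e 0<|e 2<|e 1<|f)
 f))))) :type_of% (j _))<|
 i))))))

def pAP : List ℕ := (beta% delta% lq26321636b6 fun _ _ g h _ _ l _ _ o _ _ =>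
 (let i:=(let i:=(let i:=(let i:=(let i:=(h (18 :type_of% (g _))<|h (113 :type_of% (g _))<|h (24 :type_of% (g _))<|h (47 :type_of% (g _))<|o);
 (h (35 :type_of% (g _))<|h (87 :type_of% (g _))<|h (51 :type_of% (g _))<|h (119 :type_of% (g _))<|i));
 (h (92 :type_of% (g _))<|h (10 :type_of% (g _))<|h (103 :type_of% (g _))<|h (96 :type_of% (g _))<|h (16 :type_of% (g _))<|h (118 :type_of% (g _))<|h (80 :type_of% (g _))<|i));
 (let i:=(let i:=(h (30 :type_of% (g _))<|h (116 :type_of% (g _))<|h (22 :type_of% (g _))<|h (117 :type_of% (g _))<|i);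
 (h (84 :type_of% (g _))<|h (20 :type_of% (g _))<|h (8 :type_of% (g _))<|h (115 :type_of% (g _))<|i));
 (h (76 :type_of% (g _))<|h (64 :type_of% (g _))<|h (81 :type_of% (g _))<|h (111 :type_of% (g _))<|h (114 :type_of% (g _))<|h (109 :type_of% (g _))<|h (85 :type_of% (g _))<|i)));
 (let i:=(let i:=(let i:=(h (6 :type_of% (g _))<|h (70 :type_of% (g _))<|h (68 :type_of% (g _))<|h (112 :type_of% (g _))<|i);
 (h (110 :type_of% (g _))<|h (66 :type_of% (g _))<|h (56 :type_of% (g _))<|h (45 :type_of% (g _))<|i));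
 (h (106 :type_of% (g _))<|h (14 :type_of% (g _))<|h (107 :type_of% (g _))<|h (59 :type_of% (g _))<|h (108 :type_of% (g _))<|h (31 :type_of% (g _))<|h (39 :type_of% (g _))<|i));
 (let i:=(let i:=(h (4 :type_of% (g _))<|h (100 :type_of% (g _))<|h (105 :type_of% (g _))<|h (62 :type_of% (g _))<|i);
 (h (102 :type_of% (g _))<|h (43 :type_of% (g _))<|h (12 :type_of% (g _))<|h (104 :type_of% (g _))<|i));
 (h (95 :type_of% (g _))<|h (97 :type_of% (g _))<|h (98 :type_of% (g _))<|h (99 :type_of% (g _))<|h (101 :type_of% (g _))<|h (54 :type_of% (g _))<|h (41 :type_of% (g _))<|i))));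
 (let i:=(let i:=(let i:=(let i:=(h (33 :type_of% (g _))<|h (91 :type_of% (g _))<|h (93 :type_of% (g _))<|h (94 :type_of% (g _))<|i);
 (h (86 :type_of% (g _))<|h (88 :type_of% (g _))<|h (89 :type_of% (g _))<|h (90 :type_of% (g _))<|i));
 (h (79 :type_of% (g _))<|h (2 :type_of% (g _))<|h (72 :type_of% (g _))<|h (82 :type_of% (g _))<|h (37 :type_of% (g _))<|h (83 :type_of% (g _))<|h (78 :type_of% (g _))<|i));
 (let i:=(let i:=(h (26 :type_of% (g _))<|h (75 :type_of% (g _))<|h (28 :type_of% (g _))<|h (77 :type_of% (g _))<|i);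
 (h (69 :type_of% (g _))<|h (71 :type_of% (g _))<|h (73 :type_of% (g _))<|h (74 :type_of% (g _))<|i));
 (h (57 :type_of% (g _))<|h (58 :type_of% (g _))<|h (60 :type_of% (g _))<|h (61 :type_of% (g _))<|h (63 :type_of% (g _))<|h (65 :type_of% (g _))<|h (67 :type_of% (g _))<|i)));
 (let i:=(let i:=(let i:=(h (50 :type_of% (g _))<|h (52 :type_of% (g _))<|h (53 :type_of% (g _))<|h (55 :type_of% (g _))<|i);
 (h (44 :type_of% (g _))<|h (46 :type_of% (g _))<|h (48 :type_of% (g _))<|h (49 :type_of% (g _))<|i));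
 (h (0 :type_of% (g _))<|h (32 :type_of% (g _))<|h (34 :type_of% (g _))<|h (36 :type_of% (g _))<|h (38 :type_of% (g _))<|h (40 :type_of% (g _))<|h (42 :type_of% (g _))<|i));
 (let i:=(let i:=(h (23 :type_of% (g _))<|h (25 :type_of% (g _))<|h (27 :type_of% (g _))<|h (29 :type_of% (g _))<|i);
 (h (15 :type_of% (g _))<|h (17 :type_of% (g _))<|h (19 :type_of% (g _))<|h (21 :type_of% (g _))<|i));
 (l (1 :type_of% (g _))<|l (3 :type_of% (g _))<|l (5 :type_of% (g _))<|l (7 :type_of% (g _))<|l (9 :type_of% (g _))<|l (11 :type_of% (g _))<|l (13 :type_of% (g _))<|i))))))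

def pBP : List ℕ := (beta% delta% lq26321636b6 fun _ _ g h _ _ l _ _ o _ _ =>
 (let i:=(let i:=(let i:=(let i:=(let i:=(h (38 :type_of% (g _))<|h (44 :type_of% (g _))<|h (69 :type_of% (g _))<|h (118 :type_of% (g _))<|o);
 (h (116 :type_of% (g _))<|h (21 :type_of% (g _))<|h (27 :type_of% (g _))<|h (117 :type_of% (g _))<|i));
 (h (15 :type_of% (g _))<|h (23 :type_of% (g _))<|h (25 :type_of% (g _))<|h (29 :type_of% (g _))<|h (99 :type_of% (g _))<|h (104 :type_of% (g _))<|h (119 :type_of% (g _))<|i));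
 (let i:=(let i:=(h (58 :type_of% (g _))<|h (73 :type_of% (g _))<|h (11 :type_of% (g _))<|h (79 :type_of% (g _))<|i);
 (h (114 :type_of% (g _))<|h (106 :type_of% (g _))<|h (71 :type_of% (g _))<|h (108 :type_of% (g _))<|i));
 (h (107 :type_of% (g _))<|h (112 :type_of% (g _))<|h (110 :type_of% (g _))<|h (113 :type_of% (g _))<|h (53 :type_of% (g _))<|h (115 :type_of% (g _))<|h (13 :type_of% (g _))<|i)));
 (let i:=(let i:=(let i:=(h (111 :type_of% (g _))<|h (9 :type_of% (g _))<|h (49 :type_of% (g _))<|h (105 :type_of% (g _))<|i);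
 (h (7 :type_of% (g _))<|h (102 :type_of% (g _))<|h (101 :type_of% (g _))<|h (5 :type_of% (g _))<|i));
 (h (48 :type_of% (g _))<|h (93 :type_of% (g _))<|h (50 :type_of% (g _))<|h (95 :type_of% (g _))<|h (57 :type_of% (g _))<|h (109 :type_of% (g _))<|h (98 :type_of% (g _))<|i));
 (let i:=(let i:=(h (46 :type_of% (g _))<|h (91 :type_of% (g _))<|h (32 :type_of% (g _))<|h (34 :type_of% (g _))<|i);
 (h (97 :type_of% (g _))<|h (103 :type_of% (g _))<|h (86 :type_of% (g _))<|h (3 :type_of% (g _))<|i));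
 (h (96 :type_of% (g _))<|h (88 :type_of% (g _))<|h (82 :type_of% (g _))<|h (100 :type_of% (g _))<|h (94 :type_of% (g _))<|h (90 :type_of% (g _))<|h (75 :type_of% (g _))<|i))));
 (let i:=(let i:=(let i:=(let i:=(h (63 :type_of% (g _))<|h (92 :type_of% (g _))<|h (77 :type_of% (g _))<|h (89 :type_of% (g _))<|i);
 (h (87 :type_of% (g _))<|h (74 :type_of% (g _))<|h (60 :type_of% (g _))<|h (83 :type_of% (g _))<|i));
 (h (1 :type_of% (g _))<|h (80 :type_of% (g _))<|h (81 :type_of% (g _))<|h (17 :type_of% (g _))<|h (19 :type_of% (g _))<|h (84 :type_of% (g _))<|h (85 :type_of% (g _))<|i));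
 (let i:=(let i:=(h (52 :type_of% (g _))<|h (67 :type_of% (g _))<|h (76 :type_of% (g _))<|h (78 :type_of% (g _))<|i);
 (h (70 :type_of% (g _))<|h (72 :type_of% (g _))<|h (61 :type_of% (g _))<|h (65 :type_of% (g _))<|i));
 (h (0 :type_of% (g _))<|h (59 :type_of% (g _))<|h (55 :type_of% (g _))<|h (62 :type_of% (g _))<|h (64 :type_of% (g _))<|h (66 :type_of% (g _))<|h (68 :type_of% (g _))<|i)));
 (let i:=(let i:=(let i:=(h (51 :type_of% (g _))<|h (42 :type_of% (g _))<|h (54 :type_of% (g _))<|h (56 :type_of% (g _))<|i);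
 (h (45 :type_of% (g _))<|h (47 :type_of% (g _))<|h (36 :type_of% (g _))<|h (40 :type_of% (g _))<|i));
 (h (31 :type_of% (g _))<|h (33 :type_of% (g _))<|h (35 :type_of% (g _))<|h (37 :type_of% (g _))<|h (39 :type_of% (g _))<|h (41 :type_of% (g _))<|h (43 :type_of% (g _))<|i));
 (let i:=(let i:=(h (24 :type_of% (g _))<|h (26 :type_of% (g _))<|h (28 :type_of% (g _))<|h (30 :type_of% (g _))<|i);
 (h (16 :type_of% (g _))<|h (18 :type_of% (g _))<|h (20 :type_of% (g _))<|h (22 :type_of% (g _))<|i));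
 (l (2 :type_of% (g _))<|l (4 :type_of% (g _))<|l (6 :type_of% (g _))<|l (8 :type_of% (g _))<|l (10 :type_of% (g _))<|l (12 :type_of% (g _))<|l (14 :type_of% (g _))<|i))))))

private noncomputable def _root_.Cfsg.Agent.KOd073e7c.k86s : (by first | exact Subtype (fun g => @Cfsg.Agent.H309.Q5.lP = @g) | exact Unit : Sort _) := by first | exact ⟨_, by delta Cfsg.Agent.H309.Q5.lP; rewrite [Cfsg.Agent.KOd073e7c.e24.{0}]; exact rfl⟩ | exact ⟨_, rfl⟩ | exact ()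
private noncomputable def _root_.Cfsg.Agent.KOd073e7c.k86 : (by first | exact type_of% (@Subtype.val _ _ _root_.Cfsg.Agent.KOd073e7c.k86s) | exact Unit : Sort _) := by first | exact @Subtype.val _ _ _root_.Cfsg.Agent.KOd073e7c.k86s | exact ()
private theorem _root_.Cfsg.Agent.KOd073e7c.e86 : (by first | exact type_of% (show _ = @_root_.Cfsg.Agent.KOd073e7c.k86 from @Subtype.property _ _ _root_.Cfsg.Agent.KOd073e7c.k86s) | exact True : Prop) := by first | exact @Subtype.property _ _ _root_.Cfsg.Agent.KOd073e7c.k86s | trivial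

set_option maxRecDepth 100000 in
theorem chkAP : lP.map (fun x => x * (gA : M5)) = pAP.map (fun i => lP.getD i 1) := by (refine of_decide_eq_true ?_; (try (rewrite [Cfsg.Agent.LsF.mmulF_pat, Cfsg.Agent.LsF.zadd_pat, Cfsg.Agent.LsF.zmul_pat, Cfsg.Agent.LsF.zdecEq_eq, Cfsg.Agent.LsF.dMat_eq, Cfsg.Agent.LsF.instMOne_eq, Cfsg.Agent.LsF.zACM_pat, Cfsg.Agent.LsF.map_eq, Cfsg.Agent.LsF.getD_eq, Cfsg.Agent.LsF.dListEq_eq, Cfsg.Agent.LsF.decide_eq])); (first | (delta Cfsg.Agent.H24.Q5.gA; rewrite [Cfsg.Agent.KOd073e7c.e86, Cfsg.Agent.KOd073e7c.e84]; decide +kernel) | decide +kernel))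
set_option maxRecDepth 100000 in
theorem chkBP : lP.map (fun x => x * (gP : M5)) = pBP.map (fun i => lP.getD i 1) := by (refine of_decide_eq_true ?_; (try (rewrite [Cfsg.Agent.LsF.mmulF_pat, Cfsg.Agent.LsF.zadd_pat, Cfsg.Agent.LsF.zmul_pat, Cfsg.Agent.LsF.zdecEq_eq, Cfsg.Agent.LsF.dMat_eq, Cfsg.Agent.LsF.instMOne_eq, Cfsg.Agent.LsF.zACM_pat, Cfsg.Agent.LsF.map_eq, Cfsg.Agent.LsF.getD_eq, Cfsg.Agent.LsF.dListEq_eq, Cfsg.Agent.LsF.decide_eq])); (first | (delta Cfsg.Agent.H24.Q5.gP; rewrite [Cfsg.Agent.KOd073e7c.e86, Cfsg.Agent.KOd073e7c.e84]; decide +kernel) | decide +kernel))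
set_option maxRecDepth 100000 in
theorem one_mem_lP : (1 : M5) ∈ lP := by decide +kernel

theorem card_LP_le : Nat.card LP ≤ 120 := by
  have h := card_closure_le gA gP lP one_mem_lP pAP pBP chkAP chkBP
  have hl : lP.length = 120 := by decide +kernel
  rw [hl] at h; exact h

/-- the elements of `LR` -/
def lR : List M5 := (beta% delta% lq26321636b6 fun e f _ _ j k l _ _ o _ _ =>
 (let i:=(let i:=(let i:=(let i:=(let i:=(k ((@_root_.Matrix.of (Fin 4) (Fin 4) _ (e (e 2<|e 4<|e 1<|e 3<|f)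
 (e (e 4<|e 2<|e 0<|e 3<|f)
 (e (e 1<|e 1<|e 0<|e 0<|f)
 (e (e 0<|e 2<|e 0<|e 0<|f)
 f))))) :type_of% (j _))<|
 k ((@_root_.Matrix.of (Fin 4) (Fin 4) _ (e (e 0<|e 1<|e 0<|e 1<|f)
 (e (e 2<|e 0<|e 1<|e 0<|f)
 (e (e 0<|e 2<|e 0<|e 3<|f)
 (e (e 2<|e 0<|e 4<|e 0<|f)
 f))))) :type_of% (j _))<|
 k ((@_root_.Matrix.of (Fin 4) (Fin 4) _ (e (e 1<|e 2<|e 1<|e 0<|f)
 (e (e 0<|e 1<|e 2<|e 4<|f)
 (e (e 2<|e 2<|e 4<|e 3<|f)
 (e (e 2<|e 0<|e 4<|e 0<|f)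
 f))))) :type_of% (j _))<|
 k ((@_root_.Matrix.of (Fin 4) (Fin 4) _ (e (e 2<|e 2<|e 4<|e 2<|f)
 (e (e 2<|e 1<|e 2<|e 2<|f)
 (e (e 4<|e 1<|e 1<|e 1<|f)
 (e (e 0<|e 3<|e 4<|e 2<|f)
 f))))) :type_of% (j _))<|
 k ((@_root_.Matrix.of (Fin 4) (Fin 4) _ (e (e 0<|e 0<|e 1<|e 0<|f)
 (e (e 0<|e 0<|e 0<|e 3<|f)
 (e (e 1<|e 0<|e 0<|e 0<|f)
 (e (e 0<|e 2<|e 0<|e 0<|f)
 f))))) :type_of% (j _))<|o);
 (k ((@_root_.Matrix.of (Fin 4) (Fin 4) _ (e (e 3<|e 2<|e 1<|e 2<|f)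
 (e (e 2<|e 4<|e 2<|e 3<|f)
 (e (e 1<|e 1<|e 4<|e 1<|f)
 (e (e 0<|e 2<|e 4<|e 3<|f)
 f))))) :type_of% (j _))<|
 k ((@_root_.Matrix.of (Fin 4) (Fin 4) _ (e (e 0<|e 0<|e 1<|e 4<|f)
 (e (e 0<|e 0<|e 0<|e 3<|f)
 (e (e 1<|e 3<|e 3<|e 4<|f)
 (e (e 0<|e 2<|e 4<|e 3<|f)
 f))))) :type_of% (j _))<|
 k ((@_root_.Matrix.of (Fin 4) (Fin 4) _ (e (e 3<|e 3<|e 1<|e 4<|f)
 (e (e 2<|e 3<|e 0<|e 3<|f)
 (e (e 1<|e 3<|e 0<|e 0<|f)
 (e (e 0<|e 2<|e 0<|e 0<|f)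
 f))))) :type_of% (j _))<|
 k ((@_root_.Matrix.of (Fin 4) (Fin 4) _ (e (e 3<|e 2<|e 1<|e 3<|f)
 (e (e 1<|e 0<|e 2<|e 0<|f)
 (e (e 4<|e 2<|e 4<|e 0<|f)
 (e (e 0<|e 3<|e 4<|e 2<|f)
 f))))) :type_of% (j _))<|
 k ((@_root_.Matrix.of (Fin 4) (Fin 4) _ (e (e 3<|e 0<|e 0<|e 1<|f)
 (e (e 4<|e 1<|e 1<|e 3<|f)
 (e (e 4<|e 4<|e 0<|e 3<|f)
 (e (e 0<|e 3<|e 4<|e 2<|f)
 f))))) :type_of% (j _))<|
 i));
 (let i:=(k ((@_root_.Matrix.of (Fin 4) (Fin 4) _ (e (e 2<|e 1<|e 1<|e 1<|f)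
 (e (e 2<|e 0<|e 1<|e 0<|f)
 (e (e 4<|e 4<|e 1<|e 0<|f)
 (e (e 0<|e 3<|e 3<|e 3<|f)
 f))))) :type_of% (j _))<|
 k ((@_root_.Matrix.of (Fin 4) (Fin 4) _ (e (e 1<|e 2<|e 4<|e 3<|f)
 (e (e 2<|e 2<|e 0<|e 2<|f)
 (e (e 4<|e 4<|e 2<|e 1<|f)
 (e (e 4<|e 3<|e 4<|e 1<|f)
 f))))) :type_of% (j _))<|
 k ((@_root_.Matrix.of (Fin 4) (Fin 4) _ (e (e 0<|e 0<|e 4<|e 4<|f)
 (e (e 0<|e 0<|e 0<|e 2<|f)
 (e (e 4<|e 3<|e 2<|e 4<|f)
 (e (e 0<|e 3<|e 4<|e 2<|f)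
 f))))) :type_of% (j _))<|
 k ((@_root_.Matrix.of (Fin 4) (Fin 4) _ (e (e 2<|e 1<|e 1<|e 2<|f)
 (e (e 1<|e 2<|e 0<|e 3<|f)
 (e (e 1<|e 4<|e 0<|e 0<|f)
 (e (e 0<|e 2<|e 0<|e 0<|f)
 f))))) :type_of% (j _))<|
 k ((@_root_.Matrix.of (Fin 4) (Fin 4) _ (e (e 0<|e 0<|e 1<|e 3<|f)
 (e (e 0<|e 0<|e 0<|e 3<|f)
 (e (e 1<|e 1<|e 2<|e 2<|f)
 (e (e 0<|e 2<|e 3<|e 2<|f)
 f))))) :type_of% (j _))<|
 i);
 (k ((@_root_.Matrix.of (Fin 4) (Fin 4) _ (e (e 4<|e 2<|e 4<|e 0<|f)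
 (e (e 0<|e 4<|e 2<|e 1<|f)
 (e (e 3<|e 2<|e 1<|e 3<|f)
 (e (e 2<|e 0<|e 4<|e 0<|f)
 f))))) :type_of% (j _))<|
 k ((@_root_.Matrix.of (Fin 4) (Fin 4) _ (e (e 4<|e 4<|e 4<|e 4<|f)
 (e (e 1<|e 3<|e 0<|e 2<|f)
 (e (e 4<|e 2<|e 3<|e 2<|f)
 (e (e 3<|e 3<|e 2<|e 4<|f)
 f))))) :type_of% (j _))<|
 k ((@_root_.Matrix.of (Fin 4) (Fin 4) _ (e (e 2<|e 3<|e 4<|e 4<|f)
 (e (e 2<|e 2<|e 0<|e 2<|f)
 (e (e 4<|e 3<|e 0<|e 0<|f)
 (e (e 0<|e 3<|e 0<|e 0<|f)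
 f))))) :type_of% (j _))<|
 k ((@_root_.Matrix.of (Fin 4) (Fin 4) _ (e (e 4<|e 0<|e 4<|e 1<|f)
 (e (e 2<|e 2<|e 0<|e 2<|f)
 (e (e 1<|e 1<|e 3<|e 1<|f)
 (e (e 4<|e 0<|e 2<|e 0<|f)
 f))))) :type_of% (j _))<|
 k ((@_root_.Matrix.of (Fin 4) (Fin 4) _ (e (e 1<|e 1<|e 1<|e 1<|f)
 (e (e 4<|e 2<|e 0<|e 3<|f)
 (e (e 1<|e 3<|e 2<|e 3<|f)
 (e (e 2<|e 2<|e 3<|e 1<|f)
 f))))) :type_of% (j _))<|
 i)));
 (let i:=(let i:=(k ((@_root_.Matrix.of (Fin 4) (Fin 4) _ (e (e 0<|e 0<|e 1<|e 2<|f)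
 (e (e 0<|e 0<|e 0<|e 3<|f)
 (e (e 1<|e 4<|e 2<|e 3<|f)
 (e (e 0<|e 2<|e 2<|e 2<|f)
 f))))) :type_of% (j _))<|
 k ((@_root_.Matrix.of (Fin 4) (Fin 4) _ (e (e 0<|e 1<|e 3<|e 0<|f)
 (e (e 2<|e 4<|e 2<|e 3<|f)
 (e (e 0<|e 2<|e 1<|e 1<|f)
 (e (e 2<|e 4<|e 0<|e 1<|f)
 f))))) :type_of% (j _))<|
 k ((@_root_.Matrix.of (Fin 4) (Fin 4) _ (e (e 0<|e 1<|e 2<|e 0<|f)
 (e (e 2<|e 1<|e 2<|e 2<|f)
 (e (e 0<|e 2<|e 4<|e 1<|f)
 (e (e 2<|e 1<|e 0<|e 4<|f)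
 f))))) :type_of% (j _))<|
 k ((@_root_.Matrix.of (Fin 4) (Fin 4) _ (e (e 2<|e 0<|e 0<|e 3<|f)
 (e (e 2<|e 4<|e 2<|e 3<|f)
 (e (e 4<|e 2<|e 0<|e 1<|f)
 (e (e 0<|e 3<|e 2<|e 3<|f)
 f))))) :type_of% (j _))<|
 k ((@_root_.Matrix.of (Fin 4) (Fin 4) _ (e (e 0<|e 2<|e 4<|e 1<|f)
 (e (e 1<|e 3<|e 0<|e 2<|f)
 (e (e 0<|e 1<|e 2<|e 0<|f)
 (e (e 4<|e 2<|e 4<|e 4<|f)
 f))))) :type_of% (j _))<|
 i);
 (k ((@_root_.Matrix.of (Fin 4) (Fin 4) _ (e (e 4<|e 1<|e 4<|e 2<|f)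
 (e (e 1<|e 1<|e 4<|e 3<|f)
 (e (e 4<|e 4<|e 4<|e 3<|f)
 (e (e 3<|e 2<|e 2<|e 1<|f)
 f))))) :type_of% (j _))<|
 k ((@_root_.Matrix.of (Fin 4) (Fin 4) _ (e (e 4<|e 1<|e 3<|e 2<|f)
 (e (e 0<|e 4<|e 4<|e 4<|f)
 (e (e 0<|e 0<|e 4<|e 3<|f)
 (e (e 0<|e 0<|e 0<|e 4<|f)
 f))))) :type_of% (j _))<|
 k ((@_root_.Matrix.of (Fin 4) (Fin 4) _ (e (e 1<|e 1<|e 4<|e 1<|f)
 (e (e 0<|e 1<|e 2<|e 4<|f)
 (e (e 3<|e 2<|e 1<|e 2<|f)
 (e (e 4<|e 3<|e 4<|e 1<|f)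
 f))))) :type_of% (j _))<|
 k ((@_root_.Matrix.of (Fin 4) (Fin 4) _ (e (e 2<|e 0<|e 0<|e 1<|f)
 (e (e 4<|e 4<|e 1<|e 2<|f)
 (e (e 1<|e 4<|e 0<|e 3<|f)
 (e (e 0<|e 2<|e 4<|e 3<|f)
 f))))) :type_of% (j _))<|
 k ((@_root_.Matrix.of (Fin 4) (Fin 4) _ (e (e 1<|e 0<|e 3<|e 1<|f)
 (e (e 0<|e 1<|e 4<|e 1<|f)
 (e (e 2<|e 3<|e 4<|e 0<|f)
 (e (e 2<|e 1<|e 0<|e 4<|f)
 f))))) :type_of% (j _))<|
 i));
 (let i:=(k ((@_root_.Matrix.of (Fin 4) (Fin 4) _ (e (e 3<|e 2<|e 1<|e 1<|f)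
 (e (e 3<|e 3<|e 0<|e 3<|f)
 (e (e 1<|e 2<|e 0<|e 0<|f)
 (e (e 0<|e 2<|e 0<|e 0<|f)
 f))))) :type_of% (j _))<|
 k ((@_root_.Matrix.of (Fin 4) (Fin 4) _ (e (e 3<|e 1<|e 4<|e 2<|f)
 (e (e 1<|e 3<|e 0<|e 2<|f)
 (e (e 4<|e 4<|e 0<|e 0<|f)
 (e (e 0<|e 3<|e 0<|e 0<|f)
 f))))) :type_of% (j _))<|
 k ((@_root_.Matrix.of (Fin 4) (Fin 4) _ (e (e 3<|e 4<|e 4<|e 3<|f)
 (e (e 4<|e 3<|e 0<|e 2<|f)
 (e (e 4<|e 1<|e 0<|e 0<|f)
 (e (e 0<|e 3<|e 0<|e 0<|f)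
 f))))) :type_of% (j _))<|
 k ((@_root_.Matrix.of (Fin 4) (Fin 4) _ (e (e 3<|e 2<|e 1<|e 0<|f)
 (e (e 4<|e 2<|e 0<|e 3<|f)
 (e (e 4<|e 0<|e 2<|e 4<|f)
 (e (e 0<|e 3<|e 2<|e 3<|f)
 f))))) :type_of% (j _))<|
 k ((@_root_.Matrix.of (Fin 4) (Fin 4) _ (e (e 3<|e 1<|e 4<|e 1<|f)
 (e (e 2<|e 0<|e 1<|e 0<|f)
 (e (e 1<|e 4<|e 4<|e 0<|f)
 (e (e 0<|e 2<|e 3<|e 2<|f)
 f))))) :type_of% (j _))<|
 i);
 (k ((@_root_.Matrix.of (Fin 4) (Fin 4) _ (e (e 4<|e 4<|e 4<|e 3<|f)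
 (e (e 4<|e 1<|e 1<|e 3<|f)
 (e (e 4<|e 1<|e 4<|e 2<|f)
 (e (e 2<|e 2<|e 3<|e 1<|f)
 f))))) :type_of% (j _))<|
 k ((@_root_.Matrix.of (Fin 4) (Fin 4) _ (e (e 0<|e 0<|e 4<|e 3<|f)
 (e (e 0<|e 0<|e 0<|e 2<|f)
 (e (e 4<|e 1<|e 3<|e 2<|f)
 (e (e 0<|e 3<|e 3<|e 3<|f)
 f))))) :type_of% (j _))<|
 k ((@_root_.Matrix.of (Fin 4) (Fin 4) _ (e (e 0<|e 2<|e 1<|e 1<|f)
 (e (e 1<|e 2<|e 0<|e 3<|f)
 (e (e 0<|e 1<|e 3<|e 0<|f)
 (e (e 4<|e 3<|e 4<|e 1<|f)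
 f))))) :type_of% (j _))<|
 k ((@_root_.Matrix.of (Fin 4) (Fin 4) _ (e (e 2<|e 1<|e 1<|e 0<|f)
 (e (e 3<|e 3<|e 0<|e 3<|f)
 (e (e 4<|e 0<|e 3<|e 2<|f)
 (e (e 0<|e 3<|e 4<|e 2<|f)
 f))))) :type_of% (j _))<|
 k ((@_root_.Matrix.of (Fin 4) (Fin 4) _ (e (e 1<|e 3<|e 4<|e 4<|f)
 (e (e 2<|e 4<|e 2<|e 3<|f)
 (e (e 4<|e 3<|e 1<|e 4<|f)
 (e (e 4<|e 2<|e 4<|e 4<|f)
 f))))) :type_of% (j _))<|
 i))));
 (let i:=(let i:=(let i:=(k ((@_root_.Matrix.of (Fin 4) (Fin 4) _ (e (e 1<|e 1<|e 1<|e 2<|f)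
 (e (e 1<|e 4<|e 4<|e 2<|f)
 (e (e 1<|e 4<|e 1<|e 3<|f)
 (e (e 3<|e 3<|e 2<|e 4<|f)
 f))))) :type_of% (j _))<|
 k ((@_root_.Matrix.of (Fin 4) (Fin 4) _ (e (e 3<|e 3<|e 1<|e 0<|f)
 (e (e 1<|e 2<|e 0<|e 3<|f)
 (e (e 4<|e 0<|e 2<|e 1<|f)
 (e (e 0<|e 3<|e 3<|e 3<|f)
 f))))) :type_of% (j _))<|
 k ((@_root_.Matrix.of (Fin 4) (Fin 4) _ (e (e 0<|e 0<|e 4<|e 0<|f)
 (e (e 0<|e 0<|e 0<|e 2<|f)
 (e (e 4<|e 0<|e 0<|e 0<|f)
 (e (e 0<|e 3<|e 0<|e 0<|f)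
 f))))) :type_of% (j _))<|
 k ((@_root_.Matrix.of (Fin 4) (Fin 4) _ (e (e 4<|e 4<|e 1<|e 0<|f)
 (e (e 0<|e 4<|e 4<|e 4<|f)
 (e (e 2<|e 1<|e 1<|e 1<|f)
 (e (e 4<|e 0<|e 2<|e 0<|f)
 f))))) :type_of% (j _))<|
 k ((@_root_.Matrix.of (Fin 4) (Fin 4) _ (e (e 4<|e 3<|e 1<|e 4<|f)
 (e (e 2<|e 1<|e 2<|e 2<|f)
 (e (e 1<|e 3<|e 4<|e 4<|f)
 (e (e 4<|e 3<|e 4<|e 1<|f)
 f))))) :type_of% (j _))<|
 i);
 (k ((@_root_.Matrix.of (Fin 4) (Fin 4) _ (e (e 1<|e 4<|e 1<|e 3<|f)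
 (e (e 4<|e 4<|e 1<|e 2<|f)
 (e (e 1<|e 1<|e 1<|e 2<|f)
 (e (e 2<|e 3<|e 3<|e 4<|f)
 f))))) :type_of% (j _))<|
 k ((@_root_.Matrix.of (Fin 4) (Fin 4) _ (e (e 1<|e 0<|e 1<|e 1<|f)
 (e (e 2<|e 3<|e 0<|e 3<|f)
 (e (e 4<|e 1<|e 2<|e 1<|f)
 (e (e 4<|e 0<|e 2<|e 0<|f)
 f))))) :type_of% (j _))<|
 k ((@_root_.Matrix.of (Fin 4) (Fin 4) _ (e (e 1<|e 0<|e 4<|e 2<|f)
 (e (e 4<|e 3<|e 0<|e 2<|f)
 (e (e 1<|e 2<|e 2<|e 3<|f)
 (e (e 2<|e 0<|e 4<|e 0<|f)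
 f))))) :type_of% (j _))<|
 k ((@_root_.Matrix.of (Fin 4) (Fin 4) _ (e (e 2<|e 2<|e 4<|e 3<|f)
 (e (e 1<|e 0<|e 2<|e 0<|f)
 (e (e 1<|e 2<|e 1<|e 0<|f)
 (e (e 0<|e 2<|e 4<|e 3<|f)
 f))))) :type_of% (j _))<|
 k ((@_root_.Matrix.of (Fin 4) (Fin 4) _ (e (e 0<|e 1<|e 4<|e 2<|f)
 (e (e 2<|e 2<|e 0<|e 2<|f)
 (e (e 0<|e 2<|e 3<|e 0<|f)
 (e (e 2<|e 2<|e 3<|e 1<|f)
 f))))) :type_of% (j _))<|
 i));
 (let i:=(k ((@_root_.Matrix.of (Fin 4) (Fin 4) _ (e (e 4<|e 4<|e 0<|e 0<|f)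
 (e (e 0<|e 4<|e 0<|e 0<|f)
 (e (e 3<|e 1<|e 4<|e 2<|f)
 (e (e 2<|e 1<|e 0<|e 4<|f)
 f))))) :type_of% (j _))<|
 k ((@_root_.Matrix.of (Fin 4) (Fin 4) _ (e (e 2<|e 1<|e 1<|e 4<|f)
 (e (e 4<|e 1<|e 1<|e 3<|f)
 (e (e 1<|e 2<|e 1<|e 3<|f)
 (e (e 0<|e 2<|e 3<|e 2<|f)
 f))))) :type_of% (j _))<|
 k ((@_root_.Matrix.of (Fin 4) (Fin 4) _ (e (e 0<|e 0<|e 4<|e 2<|f)
 (e (e 0<|e 0<|e 0<|e 2<|f)
 (e (e 4<|e 4<|e 3<|e 3<|f)
 (e (e 0<|e 3<|e 2<|e 3<|f)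
 f))))) :type_of% (j _))<|
 k ((@_root_.Matrix.of (Fin 4) (Fin 4) _ (e (e 2<|e 4<|e 1<|e 0<|f)
 (e (e 2<|e 3<|e 0<|e 3<|f)
 (e (e 4<|e 0<|e 3<|e 3<|f)
 (e (e 0<|e 3<|e 1<|e 2<|f)
 f))))) :type_of% (j _))<|
 k ((@_root_.Matrix.of (Fin 4) (Fin 4) _ (e (e 4<|e 2<|e 1<|e 3<|f)
 (e (e 2<|e 3<|e 0<|e 3<|f)
 (e (e 1<|e 4<|e 3<|e 1<|f)
 (e (e 4<|e 2<|e 4<|e 4<|f)
 f))))) :type_of% (j _))<|
 i);
 (k ((@_root_.Matrix.of (Fin 4) (Fin 4) _ (e (e 1<|e 4<|e 1<|e 4<|f)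
 (e (e 1<|e 2<|e 0<|e 3<|f)
 (e (e 1<|e 2<|e 2<|e 2<|f)
 (e (e 3<|e 2<|e 2<|e 1<|f)
 f))))) :type_of% (j _))<|
 k ((@_root_.Matrix.of (Fin 4) (Fin 4) _ (e (e 4<|e 3<|e 2<|e 4<|f)
 (e (e 0<|e 4<|e 2<|e 1<|f)
 (e (e 0<|e 0<|e 4<|e 4<|f)
 (e (e 0<|e 0<|e 0<|e 4<|f)
 f))))) :type_of% (j _))<|
 k ((@_root_.Matrix.of (Fin 4) (Fin 4) _ (e (e 3<|e 0<|e 0<|e 3<|f)
 (e (e 2<|e 1<|e 2<|e 2<|f)
 (e (e 1<|e 2<|e 0<|e 1<|f)
 (e (e 0<|e 2<|e 2<|e 2<|f)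
 f))))) :type_of% (j _))<|
 k ((@_root_.Matrix.of (Fin 4) (Fin 4) _ (e (e 0<|e 2<|e 3<|e 0<|f)
 (e (e 1<|e 1<|e 4<|e 3<|f)
 (e (e 0<|e 1<|e 4<|e 2<|f)
 (e (e 4<|e 4<|e 0<|e 4<|f)
 f))))) :type_of% (j _))<|
 k ((@_root_.Matrix.of (Fin 4) (Fin 4) _ (e (e 4<|e 0<|e 2<|e 1<|f)
 (e (e 0<|e 4<|e 4<|e 4<|f)
 (e (e 3<|e 3<|e 1<|e 0<|f)
 (e (e 2<|e 4<|e 0<|e 1<|f)
 f))))) :type_of% (j _))<|
 i)));
 (let i:=(let i:=(k ((@_root_.Matrix.of (Fin 4) (Fin 4) _ (e (e 4<|e 2<|e 0<|e 1<|f)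
 (e (e 0<|e 4<|e 1<|e 4<|f)
 (e (e 2<|e 0<|e 0<|e 3<|f)
 (e (e 4<|e 3<|e 4<|e 1<|f)
 f))))) :type_of% (j _))<|
 k ((@_root_.Matrix.of (Fin 4) (Fin 4) _ (e (e 1<|e 3<|e 1<|e 2<|f)
 (e (e 0<|e 1<|e 1<|e 1<|f)
 (e (e 2<|e 4<|e 1<|e 1<|f)
 (e (e 2<|e 2<|e 3<|e 1<|f)
 f))))) :type_of% (j _))<|
 k ((@_root_.Matrix.of (Fin 4) (Fin 4) _ (e (e 2<|e 0<|e 0<|e 2<|f)
 (e (e 3<|e 4<|e 3<|e 3<|f)
 (e (e 4<|e 3<|e 0<|e 4<|f)
 (e (e 0<|e 3<|e 3<|e 3<|f)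
 f))))) :type_of% (j _))<|
 k ((@_root_.Matrix.of (Fin 4) (Fin 4) _ (e (e 0<|e 0<|e 1<|e 1<|f)
 (e (e 0<|e 0<|e 0<|e 3<|f)
 (e (e 1<|e 2<|e 3<|e 1<|f)
 (e (e 0<|e 2<|e 1<|e 3<|f)
 f))))) :type_of% (j _))<|
 k ((@_root_.Matrix.of (Fin 4) (Fin 4) _ (e (e 1<|e 4<|e 3<|e 1<|f)
 (e (e 2<|e 1<|e 2<|e 2<|f)
 (e (e 4<|e 2<|e 1<|e 3<|f)
 (e (e 4<|e 1<|e 0<|e 1<|f)
 f))))) :type_of% (j _))<|
 i);
 (k ((@_root_.Matrix.of (Fin 4) (Fin 4) _ (e (e 1<|e 0<|e 2<|e 2<|f)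
 (e (e 0<|e 1<|e 2<|e 4<|f)
 (e (e 3<|e 1<|e 4<|e 0<|f)
 (e (e 1<|e 4<|e 0<|e 4<|f)
 f))))) :type_of% (j _))<|
 k ((@_root_.Matrix.of (Fin 4) (Fin 4) _ (e (e 3<|e 1<|e 4<|e 4<|f)
 (e (e 4<|e 4<|e 1<|e 2<|f)
 (e (e 4<|e 2<|e 4<|e 3<|f)
 (e (e 0<|e 3<|e 3<|e 3<|f)
 f))))) :type_of% (j _))<|
 k ((@_root_.Matrix.of (Fin 4) (Fin 4) _ (e (e 4<|e 3<|e 3<|e 3<|f)
 (e (e 1<|e 4<|e 4<|e 2<|f)
 (e (e 4<|e 1<|e 4<|e 1<|f)
 (e (e 3<|e 1<|e 0<|e 4<|f)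
 f))))) :type_of% (j _))<|
 k ((@_root_.Matrix.of (Fin 4) (Fin 4) _ (e (e 2<|e 2<|e 4<|e 1<|f)
 (e (e 3<|e 2<|e 0<|e 2<|f)
 (e (e 4<|e 2<|e 0<|e 0<|f)
 (e (e 0<|e 3<|e 0<|e 0<|f)
 f))))) :type_of% (j _))<|
 k ((@_root_.Matrix.of (Fin 4) (Fin 4) _ (e (e 1<|e 4<|e 4<|e 0<|f)
 (e (e 0<|e 1<|e 4<|e 1<|f)
 (e (e 3<|e 1<|e 4<|e 1<|f)
 (e (e 4<|e 0<|e 2<|e 0<|f)
 f))))) :type_of% (j _))<|
 i));
 (let i:=(k ((@_root_.Matrix.of (Fin 4) (Fin 4) _ (e (e 3<|e 1<|e 4<|e 0<|f)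
 (e (e 3<|e 2<|e 0<|e 2<|f)
 (e (e 1<|e 0<|e 2<|e 2<|f)
 (e (e 0<|e 2<|e 4<|e 3<|f)
 f))))) :type_of% (j _))<|
 k ((@_root_.Matrix.of (Fin 4) (Fin 4) _ (e (e 4<|e 1<|e 0<|e 2<|f)
 (e (e 0<|e 4<|e 3<|e 1<|f)
 (e (e 3<|e 0<|e 0<|e 4<|f)
 (e (e 2<|e 2<|e 3<|e 1<|f)
 f))))) :type_of% (j _))<|
 k ((@_root_.Matrix.of (Fin 4) (Fin 4) _ (e (e 3<|e 0<|e 0<|e 4<|f)
 (e (e 1<|e 1<|e 4<|e 3<|f)
 (e (e 4<|e 1<|e 0<|e 2<|f)
 (e (e 0<|e 3<|e 1<|e 2<|f)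
 f))))) :type_of% (j _))<|
 k ((@_root_.Matrix.of (Fin 4) (Fin 4) _ (e (e 4<|e 2<|e 4<|e 3<|f)
 (e (e 0<|e 4<|e 4<|e 4<|f)
 (e (e 3<|e 1<|e 4<|e 4<|f)
 (e (e 3<|e 3<|e 2<|e 4<|f)
 f))))) :type_of% (j _))<|
 k ((@_root_.Matrix.of (Fin 4) (Fin 4) _ (e (e 3<|e 3<|e 1<|e 2<|f)
 (e (e 4<|e 0<|e 3<|e 0<|f)
 (e (e 4<|e 3<|e 4<|e 0<|f)
 (e (e 0<|e 3<|e 1<|e 2<|f)
 f))))) :type_of% (j _))<|
 i);
 (k ((@_root_.Matrix.of (Fin 4) (Fin 4) _ (e (e 4<|e 2<|e 0<|e 0<|f)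
 (e (e 0<|e 4<|e 0<|e 0<|f)
 (e (e 2<|e 2<|e 4<|e 1<|f)
 (e (e 1<|e 4<|e 0<|e 4<|f)
 f))))) :type_of% (j _))<|
 k ((@_root_.Matrix.of (Fin 4) (Fin 4) _ (e (e 4<|e 1<|e 4<|e 1<|f)
 (e (e 4<|e 3<|e 0<|e 2<|f)
 (e (e 4<|e 3<|e 3<|e 3<|f)
 (e (e 2<|e 3<|e 3<|e 4<|f)
 f))))) :type_of% (j _))<|
 k ((@_root_.Matrix.of (Fin 4) (Fin 4) _ (e (e 0<|e 2<|e 0<|e 3<|f)
 (e (e 1<|e 0<|e 2<|e 0<|f)
 (e (e 0<|e 1<|e 0<|e 1<|f)
 (e (e 4<|e 0<|e 2<|e 0<|f)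
 f))))) :type_of% (j _))<|
 k ((@_root_.Matrix.of (Fin 4) (Fin 4) _ (e (e 4<|e 0<|e 1<|e 2<|f)
 (e (e 4<|e 2<|e 0<|e 3<|f)
 (e (e 4<|e 2<|e 3<|e 3<|f)
 (e (e 2<|e 0<|e 4<|e 0<|f)
 f))))) :type_of% (j _))<|
 k ((@_root_.Matrix.of (Fin 4) (Fin 4) _ (e (e 1<|e 1<|e 3<|e 1<|f)
 (e (e 2<|e 0<|e 1<|e 0<|f)
 (e (e 4<|e 0<|e 4<|e 1<|f)
 (e (e 4<|e 4<|e 0<|e 4<|f)
 f))))) :type_of% (j _))<|
 i)))));
 (let i:=(let i:=(let i:=(let i:=(k ((@_root_.Matrix.of (Fin 4) (Fin 4) _ (e (e 4<|e 1<|e 1<|e 0<|f)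
 (e (e 0<|e 4<|e 1<|e 4<|f)
 (e (e 2<|e 4<|e 1<|e 4<|f)
 (e (e 1<|e 0<|e 3<|e 0<|f)
 f))))) :type_of% (j _))<|
 k ((@_root_.Matrix.of (Fin 4) (Fin 4) _ (e (e 0<|e 1<|e 1<|e 2<|f)
 (e (e 2<|e 3<|e 0<|e 3<|f)
 (e (e 0<|e 2<|e 2<|e 0<|f)
 (e (e 2<|e 3<|e 3<|e 4<|f)
 f))))) :type_of% (j _))<|
 k ((@_root_.Matrix.of (Fin 4) (Fin 4) _ (e (e 0<|e 3<|e 3<|e 0<|f)
 (e (e 4<|e 1<|e 1<|e 3<|f)
 (e (e 0<|e 4<|e 4<|e 3<|f)
 (e (e 1<|e 4<|e 0<|e 4<|f)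
 f))))) :type_of% (j _))<|
 k ((@_root_.Matrix.of (Fin 4) (Fin 4) _ (e (e 0<|e 0<|e 4<|e 1<|f)
 (e (e 0<|e 0<|e 0<|e 2<|f)
 (e (e 4<|e 2<|e 2<|e 1<|f)
 (e (e 0<|e 3<|e 1<|e 2<|f)
 f))))) :type_of% (j _))<|
 k ((@_root_.Matrix.of (Fin 4) (Fin 4) _ (e (e 4<|e 1<|e 1<|e 1<|f)
 (e (e 0<|e 4<|e 2<|e 1<|f)
 (e (e 2<|e 2<|e 4<|e 2<|f)
 (e (e 4<|e 2<|e 4<|e 4<|f)
 f))))) :type_of% (j _))<|
 i);
 (k ((@_root_.Matrix.of (Fin 4) (Fin 4) _ (e (e 1<|e 2<|e 2<|e 2<|f)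
 (e (e 4<|e 1<|e 1<|e 3<|f)
 (e (e 1<|e 4<|e 1<|e 4<|f)
 (e (e 2<|e 4<|e 0<|e 1<|f)
 f))))) :type_of% (j _))<|
 k ((@_root_.Matrix.of (Fin 4) (Fin 4) _ (e (e 0<|e 4<|e 1<|e 3<|f)
 (e (e 3<|e 3<|e 0<|e 3<|f)
 (e (e 0<|e 3<|e 2<|e 0<|f)
 (e (e 3<|e 3<|e 2<|e 4<|f)
 f))))) :type_of% (j _))<|
 k ((@_root_.Matrix.of (Fin 4) (Fin 4) _ (e (e 1<|e 3<|e 2<|e 2<|f)
 (e (e 4<|e 0<|e 3<|e 0<|f)
 (e (e 1<|e 0<|e 4<|e 3<|f)
 (e (e 2<|e 1<|e 0<|e 4<|f)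
 f))))) :type_of% (j _))<|
 k ((@_root_.Matrix.of (Fin 4) (Fin 4) _ (e (e 2<|e 3<|e 4<|e 0<|f)
 (e (e 1<|e 3<|e 0<|e 2<|f)
 (e (e 1<|e 0<|e 3<|e 1<|f)
 (e (e 0<|e 2<|e 3<|e 2<|f)
 f))))) :type_of% (j _))<|
 k ((@_root_.Matrix.of (Fin 4) (Fin 4) _ (e (e 2<|e 4<|e 1<|e 4<|f)
 (e (e 3<|e 0<|e 4<|e 0<|f)
 (e (e 4<|e 1<|e 1<|e 0<|f)
 (e (e 0<|e 3<|e 2<|e 3<|f)
 f))))) :type_of% (j _))<|
 i));
 (let i:=(k ((@_root_.Matrix.of (Fin 4) (Fin 4) _ (e (e 4<|e 0<|e 0<|e 0<|f)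
 (e (e 0<|e 4<|e 0<|e 0<|f)
 (e (e 0<|e 0<|e 4<|e 0<|f)
 (e (e 0<|e 0<|e 0<|e 4<|f)
 f))))) :type_of% (j _))<|
 k ((@_root_.Matrix.of (Fin 4) (Fin 4) _ (e (e 2<|e 2<|e 4<|e 0<|f)
 (e (e 4<|e 3<|e 0<|e 2<|f)
 (e (e 1<|e 0<|e 3<|e 4<|f)
 (e (e 0<|e 2<|e 2<|e 2<|f)
 f))))) :type_of% (j _))<|
 k ((@_root_.Matrix.of (Fin 4) (Fin 4) _ (e (e 0<|e 3<|e 0<|e 2<|f)
 (e (e 4<|e 0<|e 3<|e 0<|f)
 (e (e 0<|e 4<|e 0<|e 4<|f)
 (e (e 1<|e 0<|e 3<|e 0<|f)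
 f))))) :type_of% (j _))<|
 k ((@_root_.Matrix.of (Fin 4) (Fin 4) _ (e (e 4<|e 3<|e 1<|e 2<|f)
 (e (e 3<|e 3<|e 0<|e 3<|f)
 (e (e 1<|e 1<|e 3<|e 4<|f)
 (e (e 1<|e 2<|e 1<|e 4<|f)
 f))))) :type_of% (j _))<|
 k ((@_root_.Matrix.of (Fin 4) (Fin 4) _ (e (e 4<|e 4<|e 2<|e 1<|f)
 (e (e 2<|e 4<|e 2<|e 3<|f)
 (e (e 1<|e 2<|e 4<|e 3<|f)
 (e (e 4<|e 4<|e 0<|e 4<|f)
 f))))) :type_of% (j _))<|
 i);
 (k ((@_root_.Matrix.of (Fin 4) (Fin 4) _ (e (e 4<|e 0<|e 3<|e 2<|f)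
 (e (e 0<|e 4<|e 2<|e 1<|f)
 (e (e 2<|e 1<|e 1<|e 0<|f)
 (e (e 1<|e 1<|e 0<|e 1<|f)
 f))))) :type_of% (j _))<|
 k ((@_root_.Matrix.of (Fin 4) (Fin 4) _ (e (e 1<|e 2<|e 2<|e 3<|f)
 (e (e 1<|e 0<|e 2<|e 0<|f)
 (e (e 1<|e 0<|e 4<|e 2<|f)
 (e (e 3<|e 1<|e 0<|e 4<|f)
 f))))) :type_of% (j _))<|
 k ((@_root_.Matrix.of (Fin 4) (Fin 4) _ (e (e 3<|e 4<|e 4<|e 0<|f)
 (e (e 2<|e 2<|e 0<|e 2<|f)
 (e (e 1<|e 0<|e 2<|e 3<|f)
 (e (e 0<|e 2<|e 1<|e 3<|f)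
 f))))) :type_of% (j _))<|
 k ((@_root_.Matrix.of (Fin 4) (Fin 4) _ (e (e 0<|e 2<|e 2<|e 0<|f)
 (e (e 1<|e 4<|e 4<|e 2<|f)
 (e (e 0<|e 1<|e 1<|e 2<|f)
 (e (e 4<|e 1<|e 0<|e 1<|f)
 f))))) :type_of% (j _))<|
 k ((@_root_.Matrix.of (Fin 4) (Fin 4) _ (e (e 4<|e 4<|e 0<|e 3<|f)
 (e (e 0<|e 4<|e 2<|e 1<|f)
 (e (e 3<|e 0<|e 0<|e 1<|f)
 (e (e 3<|e 2<|e 2<|e 1<|f)
 f))))) :type_of% (j _))<|
 i)));
 (let i:=(let i:=(k ((@_root_.Matrix.of (Fin 4) (Fin 4) _ (e (e 2<|e 3<|e 4<|e 3<|f)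
 (e (e 3<|e 1<|e 3<|e 2<|f)
 (e (e 4<|e 4<|e 1<|e 4<|f)
 (e (e 0<|e 3<|e 1<|e 2<|f)
 f))))) :type_of% (j _))<|
 k ((@_root_.Matrix.of (Fin 4) (Fin 4) _ (e (e 1<|e 2<|e 0<|e 1<|f)
 (e (e 0<|e 1<|e 1<|e 1<|f)
 (e (e 3<|e 0<|e 0<|e 3<|f)
 (e (e 4<|e 2<|e 4<|e 4<|f)
 f))))) :type_of% (j _))<|
 k ((@_root_.Matrix.of (Fin 4) (Fin 4) _ (e (e 4<|e 1<|e 2<|e 4<|f)
 (e (e 3<|e 4<|e 3<|e 3<|f)
 (e (e 1<|e 3<|e 4<|e 2<|f)
 (e (e 1<|e 4<|e 0<|e 4<|f)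
 f))))) :type_of% (j _))<|
 k ((@_root_.Matrix.of (Fin 4) (Fin 4) _ (e (e 1<|e 1<|e 0<|e 2<|f)
 (e (e 0<|e 1<|e 3<|e 4<|f)
 (e (e 2<|e 0<|e 0<|e 4<|f)
 (e (e 2<|e 3<|e 3<|e 4<|f)
 f))))) :type_of% (j _))<|
 k ((@_root_.Matrix.of (Fin 4) (Fin 4) _ (e (e 4<|e 0<|e 1<|e 3<|f)
 (e (e 1<|e 2<|e 0<|e 3<|f)
 (e (e 4<|e 3<|e 3<|e 2<|f)
 (e (e 3<|e 0<|e 1<|e 0<|f)
 f))))) :type_of% (j _))<|
 i);
 (k ((@_root_.Matrix.of (Fin 4) (Fin 4) _ (e (e 4<|e 0<|e 4<|e 4<|f)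
 (e (e 3<|e 2<|e 0<|e 2<|f)
 (e (e 1<|e 4<|e 3<|e 4<|f)
 (e (e 1<|e 0<|e 3<|e 0<|f)
 f))))) :type_of% (j _))<|
 k ((@_root_.Matrix.of (Fin 4) (Fin 4) _ (e (e 4<|e 4<|e 1<|e 4<|f)
 (e (e 0<|e 4<|e 3<|e 1<|f)
 (e (e 2<|e 3<|e 4<|e 3<|f)
 (e (e 1<|e 2<|e 1<|e 4<|f)
 f))))) :type_of% (j _))<|
 k ((@_root_.Matrix.of (Fin 4) (Fin 4) _ (e (e 1<|e 3<|e 0<|e 4<|f)
 (e (e 0<|e 1<|e 4<|e 1<|f)
 (e (e 3<|e 0<|e 0<|e 2<|f)
 (e (e 1<|e 2<|e 1<|e 4<|f)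
 f))))) :type_of% (j _))<|
 k ((@_root_.Matrix.of (Fin 4) (Fin 4) _ (e (e 4<|e 3<|e 4<|e 2<|f)
 (e (e 0<|e 4<|e 1<|e 4<|f)
 (e (e 3<|e 4<|e 4<|e 1<|f)
 (e (e 2<|e 3<|e 3<|e 4<|f)
 f))))) :type_of% (j _))<|
 k ((@_root_.Matrix.of (Fin 4) (Fin 4) _ (e (e 1<|e 4<|e 3<|e 4<|f)
 (e (e 3<|e 0<|e 4<|e 0<|f)
 (e (e 4<|e 0<|e 4<|e 4<|f)
 (e (e 1<|e 4<|e 0<|e 4<|f)
 f))))) :type_of% (j _))<|
 i));
 (let i:=(k ((@_root_.Matrix.of (Fin 4) (Fin 4) _ (e (e 4<|e 3<|e 3<|e 2<|f)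
 (e (e 4<|e 0<|e 3<|e 0<|f)
 (e (e 4<|e 0<|e 1<|e 3<|f)
 (e (e 2<|e 4<|e 0<|e 1<|f)
 f))))) :type_of% (j _))<|
 k ((@_root_.Matrix.of (Fin 4) (Fin 4) _ (e (e 1<|e 4<|e 0<|e 3<|f)
 (e (e 0<|e 1<|e 2<|e 4<|f)
 (e (e 2<|e 0<|e 0<|e 1<|f)
 (e (e 3<|e 3<|e 2<|e 4<|f)
 f))))) :type_of% (j _))<|
 k ((@_root_.Matrix.of (Fin 4) (Fin 4) _ (e (e 4<|e 2<|e 3<|e 2<|f)
 (e (e 4<|e 4<|e 1<|e 2<|f)
 (e (e 4<|e 4<|e 4<|e 4<|f)
 (e (e 2<|e 1<|e 0<|e 4<|f)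
 f))))) :type_of% (j _))<|
 k ((@_root_.Matrix.of (Fin 4) (Fin 4) _ (e (e 3<|e 0<|e 0<|e 2<|f)
 (e (e 3<|e 1<|e 3<|e 2<|f)
 (e (e 1<|e 3<|e 0<|e 4<|f)
 (e (e 0<|e 2<|e 3<|e 2<|f)
 f))))) :type_of% (j _))<|
 k ((@_root_.Matrix.of (Fin 4) (Fin 4) _ (e (e 3<|e 4<|e 4<|e 1<|f)
 (e (e 1<|e 4<|e 4<|e 2<|f)
 (e (e 4<|e 3<|e 4<|e 2<|f)
 (e (e 0<|e 3<|e 2<|e 3<|f)
 f))))) :type_of% (j _))<|
 i);
 (k ((@_root_.Matrix.of (Fin 4) (Fin 4) _ (e (e 2<|e 4<|e 1<|e 1<|f)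
 (e (e 1<|e 1<|e 4<|e 3<|f)
 (e (e 1<|e 3<|e 1<|e 2<|f)
 (e (e 0<|e 2<|e 2<|e 2<|f)
 f))))) :type_of% (j _))<|
 k ((@_root_.Matrix.of (Fin 4) (Fin 4) _ (e (e 4<|e 3<|e 0<|e 4<|f)
 (e (e 0<|e 4<|e 4<|e 4<|f)
 (e (e 2<|e 0<|e 0<|e 2<|f)
 (e (e 1<|e 3<|e 1<|e 1<|f)
 f))))) :type_of% (j _))<|
 k ((@_root_.Matrix.of (Fin 4) (Fin 4) _ (e (e 1<|e 0<|e 1<|e 4<|f)
 (e (e 3<|e 3<|e 0<|e 3<|f)
 (e (e 4<|e 4<|e 2<|e 4<|f)
 (e (e 1<|e 0<|e 3<|e 0<|f)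
 f))))) :type_of% (j _))<|
 k ((@_root_.Matrix.of (Fin 4) (Fin 4) _ (e (e 0<|e 3<|e 4<|e 4<|f)
 (e (e 4<|e 3<|e 0<|e 2<|f)
 (e (e 0<|e 4<|e 2<|e 0<|f)
 (e (e 1<|e 2<|e 1<|e 4<|f)
 f))))) :type_of% (j _))<|
 k ((@_root_.Matrix.of (Fin 4) (Fin 4) _ (e (e 4<|e 3<|e 0<|e 0<|f)
 (e (e 0<|e 4<|e 0<|e 0<|f)
 (e (e 2<|e 3<|e 4<|e 4<|f)
 (e (e 4<|e 4<|e 0<|e 4<|f)
 f))))) :type_of% (j _))<|
 i))));
 (let i:=(let i:=(let i:=(k ((@_root_.Matrix.of (Fin 4) (Fin 4) _ (e (e 2<|e 3<|e 4<|e 2<|f)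
 (e (e 4<|e 0<|e 3<|e 0<|f)
 (e (e 1<|e 3<|e 1<|e 0<|f)
 (e (e 0<|e 2<|e 1<|e 3<|f)
 f))))) :type_of% (j _))<|
 k ((@_root_.Matrix.of (Fin 4) (Fin 4) _ (e (e 0<|e 3<|e 1<|e 4<|f)
 (e (e 4<|e 2<|e 0<|e 3<|f)
 (e (e 0<|e 4<|e 3<|e 0<|f)
 (e (e 1<|e 3<|e 1<|e 1<|f)
 f))))) :type_of% (j _))<|
 k ((@_root_.Matrix.of (Fin 4) (Fin 4) _ (e (e 4<|e 1<|e 2<|e 1<|f)
 (e (e 2<|e 0<|e 1<|e 0<|f)
 (e (e 1<|e 0<|e 1<|e 1<|f)
 (e (e 4<|e 1<|e 0<|e 1<|f)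
 f))))) :type_of% (j _))<|
 k ((@_root_.Matrix.of (Fin 4) (Fin 4) _ (e (e 0<|e 4<|e 4<|e 3<|f)
 (e (e 3<|e 2<|e 0<|e 2<|f)
 (e (e 0<|e 3<|e 3<|e 0<|f)
 (e (e 3<|e 2<|e 2<|e 1<|f)
 f))))) :type_of% (j _))<|
 k ((@_root_.Matrix.of (Fin 4) (Fin 4) _ (e (e 4<|e 2<|e 2<|e 1<|f)
 (e (e 0<|e 4<|e 3<|e 1<|f)
 (e (e 0<|e 0<|e 4<|e 1<|f)
 (e (e 0<|e 0<|e 0<|e 4<|f)
 f))))) :type_of% (j _))<|
 i);
 (k ((@_root_.Matrix.of (Fin 4) (Fin 4) _ (e (e 1<|e 4<|e 0<|e 0<|f)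
 (e (e 0<|e 1<|e 0<|e 0<|f)
 (e (e 2<|e 1<|e 1<|e 2<|f)
 (e (e 2<|e 4<|e 0<|e 1<|f)
 f))))) :type_of% (j _))<|
 k ((@_root_.Matrix.of (Fin 4) (Fin 4) _ (e (e 4<|e 2<|e 3<|e 3<|f)
 (e (e 1<|e 0<|e 2<|e 0<|f)
 (e (e 4<|e 0<|e 1<|e 2<|f)
 (e (e 3<|e 4<|e 0<|e 1<|f)
 f))))) :type_of% (j _))<|
 k ((@_root_.Matrix.of (Fin 4) (Fin 4) _ (e (e 1<|e 0<|e 4<|e 3<|f)
 (e (e 1<|e 3<|e 0<|e 2<|f)
 (e (e 1<|e 3<|e 2<|e 2<|f)
 (e (e 3<|e 0<|e 1<|e 0<|f)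
 f))))) :type_of% (j _))<|
 k ((@_root_.Matrix.of (Fin 4) (Fin 4) _ (e (e 4<|e 4<|e 2<|e 4<|f)
 (e (e 3<|e 0<|e 4<|e 0<|f)
 (e (e 1<|e 0<|e 1<|e 4<|f)
 (e (e 1<|e 1<|e 0<|e 1<|f)
 f))))) :type_of% (j _))<|
 k ((@_root_.Matrix.of (Fin 4) (Fin 4) _ (e (e 4<|e 1<|e 0<|e 0<|f)
 (e (e 0<|e 4<|e 0<|e 0<|f)
 (e (e 3<|e 4<|e 4<|e 3<|f)
 (e (e 3<|e 1<|e 0<|e 4<|f)
 f))))) :type_of% (j _))<|
 i));
 (let i:=(k ((@_root_.Matrix.of (Fin 4) (Fin 4) _ (e (e 3<|e 4<|e 4<|e 4<|f)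
 (e (e 3<|e 0<|e 4<|e 0<|f)
 (e (e 1<|e 1<|e 4<|e 0<|f)
 (e (e 0<|e 2<|e 2<|e 2<|f)
 f))))) :type_of% (j _))<|
 k ((@_root_.Matrix.of (Fin 4) (Fin 4) _ (e (e 4<|e 2<|e 1<|e 1<|f)
 (e (e 3<|e 1<|e 3<|e 2<|f)
 (e (e 1<|e 2<|e 4<|e 1<|f)
 (e (e 1<|e 3<|e 1<|e 1<|f)
 f))))) :type_of% (j _))<|
 k ((@_root_.Matrix.of (Fin 4) (Fin 4) _ (e (e 1<|e 1<|e 4<|e 0<|f)
 (e (e 0<|e 1<|e 1<|e 1<|f)
 (e (e 3<|e 4<|e 4<|e 4<|f)
 (e (e 1<|e 0<|e 3<|e 0<|f)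
 f))))) :type_of% (j _))<|
 k ((@_root_.Matrix.of (Fin 4) (Fin 4) _ (e (e 1<|e 2<|e 4<|e 1<|f)
 (e (e 3<|e 4<|e 3<|e 3<|f)
 (e (e 4<|e 2<|e 1<|e 1<|f)
 (e (e 1<|e 2<|e 1<|e 4<|f)
 f))))) :type_of% (j _))<|
 k ((@_root_.Matrix.of (Fin 4) (Fin 4) _ (e (e 1<|e 0<|e 2<|e 3<|f)
 (e (e 0<|e 1<|e 3<|e 4<|f)
 (e (e 3<|e 4<|e 4<|e 0<|f)
 (e (e 4<|e 4<|e 0<|e 4<|f)
 f))))) :type_of% (j _))<|
 i);
 (k ((@_root_.Matrix.of (Fin 4) (Fin 4) _ (e (e 2<|e 0<|e 0<|e 4<|f)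
 (e (e 1<|e 4<|e 4<|e 2<|f)
 (e (e 1<|e 1<|e 0<|e 2<|f)
 (e (e 0<|e 2<|e 1<|e 3<|f)
 f))))) :type_of% (j _))<|
 k ((@_root_.Matrix.of (Fin 4) (Fin 4) _ (e (e 1<|e 3<|e 4<|e 2<|f)
 (e (e 3<|e 2<|e 0<|e 2<|f)
 (e (e 4<|e 1<|e 2<|e 4<|f)
 (e (e 1<|e 3<|e 1<|e 1<|f)
 f))))) :type_of% (j _))<|
 k ((@_root_.Matrix.of (Fin 4) (Fin 4) _ (e (e 4<|e 0<|e 3<|e 3<|f)
 (e (e 0<|e 4<|e 3<|e 1<|f)
 (e (e 2<|e 4<|e 1<|e 0<|f)
 (e (e 4<|e 1<|e 0<|e 1<|f)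
 f))))) :type_of% (j _))<|
 k ((@_root_.Matrix.of (Fin 4) (Fin 4) _ (e (e 1<|e 2<|e 1<|e 3<|f)
 (e (e 0<|e 1<|e 4<|e 1<|f)
 (e (e 2<|e 1<|e 1<|e 4<|f)
 (e (e 3<|e 2<|e 2<|e 1<|f)
 f))))) :type_of% (j _))<|
 k ((@_root_.Matrix.of (Fin 4) (Fin 4) _ (e (e 4<|e 4<|e 3<|e 3<|f)
 (e (e 0<|e 4<|e 1<|e 4<|f)
 (e (e 0<|e 0<|e 4<|e 2<|f)
 (e (e 0<|e 0<|e 0<|e 4<|f)
 f))))) :type_of% (j _))<|
 i)));
 (let i:=(let i:=(k ((@_root_.Matrix.of (Fin 4) (Fin 4) _ (e (e 1<|e 3<|e 3<|e 4<|f)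
 (e (e 0<|e 1<|e 2<|e 4<|f)
 (e (e 0<|e 0<|e 1<|e 4<|f)
 (e (e 0<|e 0<|e 0<|e 1<|f)
 f))))) :type_of% (j _))<|
 k ((@_root_.Matrix.of (Fin 4) (Fin 4) _ (e (e 1<|e 3<|e 2<|e 3<|f)
 (e (e 1<|e 1<|e 4<|e 3<|f)
 (e (e 1<|e 1<|e 1<|e 1<|f)
 (e (e 3<|e 4<|e 0<|e 1<|f)
 f))))) :type_of% (j _))<|
 k ((@_root_.Matrix.of (Fin 4) (Fin 4) _ (e (e 4<|e 3<|e 4<|e 0<|f)
 (e (e 0<|e 4<|e 3<|e 1<|f)
 (e (e 3<|e 3<|e 1<|e 2<|f)
 (e (e 3<|e 0<|e 1<|e 0<|f)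
 f))))) :type_of% (j _))<|
 k ((@_root_.Matrix.of (Fin 4) (Fin 4) _ (e (e 0<|e 3<|e 2<|e 0<|f)
 (e (e 4<|e 4<|e 1<|e 2<|f)
 (e (e 0<|e 4<|e 1<|e 3<|f)
 (e (e 1<|e 1<|e 0<|e 1<|f)
 f))))) :type_of% (j _))<|
 k ((@_root_.Matrix.of (Fin 4) (Fin 4) _ (e (e 0<|e 4<|e 2<|e 0<|f)
 (e (e 3<|e 1<|e 3<|e 2<|f)
 (e (e 0<|e 3<|e 4<|e 4<|f)
 (e (e 3<|e 1<|e 0<|e 4<|f)
 f))))) :type_of% (j _))<|
 i);
 (k ((@_root_.Matrix.of (Fin 4) (Fin 4) _ (e (e 1<|e 1<|e 3<|e 4<|f)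
 (e (e 3<|e 1<|e 3<|e 2<|f)
 (e (e 4<|e 3<|e 1<|e 2<|f)
 (e (e 1<|e 1<|e 0<|e 1<|f)
 f))))) :type_of% (j _))<|
 k ((@_root_.Matrix.of (Fin 4) (Fin 4) _ (e (e 1<|e 0<|e 3<|e 4<|f)
 (e (e 0<|e 1<|e 1<|e 1<|f)
 (e (e 2<|e 2<|e 4<|e 0<|f)
 (e (e 3<|e 1<|e 0<|e 4<|f)
 f))))) :type_of% (j _))<|
 k ((@_root_.Matrix.of (Fin 4) (Fin 4) _ (e (e 3<|e 3<|e 1<|e 3<|f)
 (e (e 3<|e 4<|e 3<|e 3<|f)
 (e (e 1<|e 4<|e 4<|e 4<|f)
 (e (e 0<|e 2<|e 1<|e 3<|f)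
 f))))) :type_of% (j _))<|
 k ((@_root_.Matrix.of (Fin 4) (Fin 4) _ (e (e 1<|e 4<|e 4<|e 4<|f)
 (e (e 0<|e 1<|e 3<|e 4<|f)
 (e (e 3<|e 3<|e 1<|e 3<|f)
 (e (e 1<|e 3<|e 1<|e 1<|f)
 f))))) :type_of% (j _))<|
 k ((@_root_.Matrix.of (Fin 4) (Fin 4) _ (e (e 1<|e 3<|e 0<|e 0<|f)
 (e (e 0<|e 1<|e 0<|e 0<|f)
 (e (e 3<|e 3<|e 1<|e 4<|f)
 (e (e 4<|e 1<|e 0<|e 1<|f)
 f))))) :type_of% (j _))<|
 i));
 (let i:=(k ((@_root_.Matrix.of (Fin 4) (Fin 4) _ (e (e 1<|e 3<|e 1<|e 0<|f)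
 (e (e 0<|e 1<|e 3<|e 4<|f)
 (e (e 2<|e 3<|e 4<|e 2<|f)
 (e (e 3<|e 0<|e 1<|e 0<|f)
 f))))) :type_of% (j _))<|
 k ((@_root_.Matrix.of (Fin 4) (Fin 4) _ (e (e 1<|e 2<|e 0<|e 0<|f)
 (e (e 0<|e 1<|e 0<|e 0<|f)
 (e (e 3<|e 2<|e 1<|e 1<|f)
 (e (e 1<|e 1<|e 0<|e 1<|f)
 f))))) :type_of% (j _))<|
 k ((@_root_.Matrix.of (Fin 4) (Fin 4) _ (e (e 1<|e 1<|e 2<|e 2<|f)
 (e (e 0<|e 1<|e 4<|e 1<|f)
 (e (e 0<|e 0<|e 1<|e 3<|f)
 (e (e 0<|e 0<|e 0<|e 1<|f)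
 f))))) :type_of% (j _))<|
 k ((@_root_.Matrix.of (Fin 4) (Fin 4) _ (e (e 4<|e 0<|e 2<|e 4<|f)
 (e (e 0<|e 4<|e 1<|e 4<|f)
 (e (e 3<|e 2<|e 1<|e 0<|f)
 (e (e 3<|e 4<|e 0<|e 1<|f)
 f))))) :type_of% (j _))<|
 k ((@_root_.Matrix.of (Fin 4) (Fin 4) _ (e (e 0<|e 4<|e 0<|e 4<|f)
 (e (e 3<|e 0<|e 4<|e 0<|f)
 (e (e 0<|e 3<|e 0<|e 2<|f)
 (e (e 3<|e 0<|e 1<|e 0<|f)
 f))))) :type_of% (j _))<|
 i);
 (l ((@_root_.Matrix.of (Fin 4) (Fin 4) _ (e (e 1<|e 0<|e 0<|e 0<|f)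
 (e (e 0<|e 1<|e 0<|e 0<|f)
 (e (e 0<|e 0<|e 1<|e 0<|f)
 (e (e 0<|e 0<|e 0<|e 1<|f)
 f))))) :type_of% (j _))<|
 l ((@_root_.Matrix.of (Fin 4) (Fin 4) _ (e (e 1<|e 2<|e 3<|e 1<|f)
 (e (e 0<|e 1<|e 3<|e 4<|f)
 (e (e 0<|e 0<|e 1<|e 1<|f)
 (e (e 0<|e 0<|e 0<|e 1<|f)
 f))))) :type_of% (j _))<|
 l ((@_root_.Matrix.of (Fin 4) (Fin 4) _ (e (e 1<|e 1<|e 0<|e 0<|f)
 (e (e 0<|e 1<|e 0<|e 0<|f)
 (e (e 2<|e 4<|e 1<|e 3<|f)
 (e (e 3<|e 4<|e 0<|e 1<|f)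
 f))))) :type_of% (j _))<|
 l ((@_root_.Matrix.of (Fin 4) (Fin 4) _ (e (e 1<|e 4<|e 2<|e 3<|f)
 (e (e 0<|e 1<|e 1<|e 1<|f)
 (e (e 0<|e 0<|e 1<|e 2<|f)
 (e (e 0<|e 0<|e 0<|e 1<|f)
 f))))) :type_of% (j _))<|
 l ((@_root_.Matrix.of (Fin 4) (Fin 4) _ (e (e 0<|e 4<|e 3<|e 0<|f)
 (e (e 3<|e 4<|e 3<|e 3<|f)
 (e (e 0<|e 3<|e 1<|e 4<|f)
 (e (e 3<|e 4<|e 0<|e 1<|f)
 f))))) :type_of% (j _))<|
 i)))))))

def pAR : List ℕ := (beta% delta% lq26321636b6 fun _ _ g h _ _ l _ _ o _ _ =>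
 (let i:=(let i:=(let i:=(let i:=(let i:=(h (35 :type_of% (g _))<|h (136 :type_of% (g _))<|h (30 :type_of% (g _))<|h (145 :type_of% (g _))<|h (98 :type_of% (g _))<|o);
 (h (152 :type_of% (g _))<|h (159 :type_of% (g _))<|h (62 :type_of% (g _))<|h (116 :type_of% (g _))<|h (91 :type_of% (g _))<|i));
 (let i:=(h (138 :type_of% (g _))<|h (99 :type_of% (g _))<|h (121 :type_of% (g _))<|h (20 :type_of% (g _))<|h (151 :type_of% (g _))<|i);
 (h (104 :type_of% (g _))<|h (31 :type_of% (g _))<|h (158 :type_of% (g _))<|h (119 :type_of% (g _))<|h (72 :type_of% (g _))<|i)));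
 (let i:=(let i:=(h (149 :type_of% (g _))<|h (76 :type_of% (g _))<|h (156 :type_of% (g _))<|h (108 :type_of% (g _))<|h (82 :type_of% (g _))<|i);
 (h (141 :type_of% (g _))<|h (24 :type_of% (g _))<|h (14 :type_of% (g _))<|h (155 :type_of% (g _))<|h (157 :type_of% (g _))<|i));
 (let i:=(h (12 :type_of% (g _))<|h (153 :type_of% (g _))<|h (154 :type_of% (g _))<|h (89 :type_of% (g _))<|h (150 :type_of% (g _))<|i);
 (h (47 :type_of% (g _))<|h (107 :type_of% (g _))<|h (63 :type_of% (g _))<|h (97 :type_of% (g _))<|h (111 :type_of% (g _))<|i))));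
 (let i:=(let i:=(let i:=(h (16 :type_of% (g _))<|h (49 :type_of% (g _))<|h (147 :type_of% (g _))<|h (95 :type_of% (g _))<|h (37 :type_of% (g _))<|i);
 (h (144 :type_of% (g _))<|h (146 :type_of% (g _))<|h (70 :type_of% (g _))<|h (148 :type_of% (g _))<|h (137 :type_of% (g _))<|i));
 (let i:=(h (140 :type_of% (g _))<|h (133 :type_of% (g _))<|h (78 :type_of% (g _))<|h (142 :type_of% (g _))<|h (143 :type_of% (g _))<|i);
 (h (115 :type_of% (g _))<|h (131 :type_of% (g _))<|h (129 :type_of% (g _))<|h (139 :type_of% (g _))<|h (53 :type_of% (g _))<|i)));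
 (let i:=(let i:=(h (22 :type_of% (g _))<|h (134 :type_of% (g _))<|h (74 :type_of% (g _))<|h (135 :type_of% (g _))<|h (84 :type_of% (g _))<|i);
 (h (6 :type_of% (g _))<|h (128 :type_of% (g _))<|h (130 :type_of% (g _))<|h (123 :type_of% (g _))<|h (132 :type_of% (g _))<|i));
 (let i:=(h (125 :type_of% (g _))<|h (105 :type_of% (g _))<|h (126 :type_of% (g _))<|h (8 :type_of% (g _))<|h (127 :type_of% (g _))<|i);
 (h (60 :type_of% (g _))<|h (120 :type_of% (g _))<|h (122 :type_of% (g _))<|h (45 :type_of% (g _))<|h (124 :type_of% (g _))<|i)))));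
 (let i:=(let i:=(let i:=(let i:=(h (51 :type_of% (g _))<|h (114 :type_of% (g _))<|h (18 :type_of% (g _))<|h (117 :type_of% (g _))<|h (118 :type_of% (g _))<|i);
 (h (110 :type_of% (g _))<|h (4 :type_of% (g _))<|h (112 :type_of% (g _))<|h (113 :type_of% (g _))<|h (55 :type_of% (g _))<|i));
 (let i:=(h (101 :type_of% (g _))<|h (106 :type_of% (g _))<|h (43 :type_of% (g _))<|h (57 :type_of% (g _))<|h (109 :type_of% (g _))<|i);
 (h (41 :type_of% (g _))<|h (100 :type_of% (g _))<|h (102 :type_of% (g _))<|h (103 :type_of% (g _))<|h (88 :type_of% (g _))<|i)));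
 (let i:=(let i:=(h (93 :type_of% (g _))<|h (94 :type_of% (g _))<|h (33 :type_of% (g _))<|h (96 :type_of% (g _))<|h (92 :type_of% (g _))<|i);
 (h (68 :type_of% (g _))<|h (80 :type_of% (g _))<|h (90 :type_of% (g _))<|h (86 :type_of% (g _))<|h (10 :type_of% (g _))<|i));
 (let i:=(h (81 :type_of% (g _))<|h (2 :type_of% (g _))<|h (83 :type_of% (g _))<|h (85 :type_of% (g _))<|h (87 :type_of% (g _))<|i);
 (h (73 :type_of% (g _))<|h (75 :type_of% (g _))<|h (28 :type_of% (g _))<|h (77 :type_of% (g _))<|h (79 :type_of% (g _))<|i))));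
 (let i:=(let i:=(let i:=(h (66 :type_of% (g _))<|h (67 :type_of% (g _))<|h (69 :type_of% (g _))<|h (71 :type_of% (g _))<|h (65 :type_of% (g _))<|i);
 (h (58 :type_of% (g _))<|h (59 :type_of% (g _))<|h (61 :type_of% (g _))<|h (26 :type_of% (g _))<|h (64 :type_of% (g _))<|i));
 (let i:=(h (48 :type_of% (g _))<|h (50 :type_of% (g _))<|h (52 :type_of% (g _))<|h (54 :type_of% (g _))<|h (56 :type_of% (g _))<|i);
 (h (40 :type_of% (g _))<|h (42 :type_of% (g _))<|h (44 :type_of% (g _))<|h (46 :type_of% (g _))<|h (39 :type_of% (g _))<|i)));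
 (let i:=(let i:=(h (0 :type_of% (g _))<|h (32 :type_of% (g _))<|h (34 :type_of% (g _))<|h (36 :type_of% (g _))<|h (38 :type_of% (g _))<|i);
 (h (21 :type_of% (g _))<|h (23 :type_of% (g _))<|h (25 :type_of% (g _))<|h (27 :type_of% (g _))<|h (29 :type_of% (g _))<|i));
 (let i:=(h (11 :type_of% (g _))<|h (13 :type_of% (g _))<|h (15 :type_of% (g _))<|h (17 :type_of% (g _))<|h (19 :type_of% (g _))<|i);
 (l (1 :type_of% (g _))<|l (3 :type_of% (g _))<|l (5 :type_of% (g _))<|l (7 :type_of% (g _))<|l (9 :type_of% (g _))<|i)))))))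

def pBR : List ℕ := (beta% delta% lq26321636b6 fun _ _ g h _ _ l _ _ o _ _ =>
 (let i:=(let i:=(let i:=(let i:=(let i:=(h (125 :type_of% (g _))<|h (154 :type_of% (g _))<|h (153 :type_of% (g _))<|h (124 :type_of% (g _))<|h (155 :type_of% (g _))<|o);
 (h (157 :type_of% (g _))<|h (83 :type_of% (g _))<|h (148 :type_of% (g _))<|h (79 :type_of% (g _))<|h (56 :type_of% (g _))<|i));
 (let i:=(h (106 :type_of% (g _))<|h (85 :type_of% (g _))<|h (139 :type_of% (g _))<|h (159 :type_of% (g _))<|h (144 :type_of% (g _))<|i);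
 (h (158 :type_of% (g _))<|h (143 :type_of% (g _))<|h (93 :type_of% (g _))<|h (38 :type_of% (g _))<|h (42 :type_of% (g _))<|i)));
 (let i:=(let i:=(h (128 :type_of% (g _))<|h (15 :type_of% (g _))<|h (69 :type_of% (g _))<|h (46 :type_of% (g _))<|h (146 :type_of% (g _))<|i);
 (h (25 :type_of% (g _))<|h (134 :type_of% (g _))<|h (113 :type_of% (g _))<|h (156 :type_of% (g _))<|h (103 :type_of% (g _))<|i));
 (let i:=(h (152 :type_of% (g _))<|h (142 :type_of% (g _))<|h (117 :type_of% (g _))<|h (71 :type_of% (g _))<|h (120 :type_of% (g _))<|i);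
 (h (27 :type_of% (g _))<|h (73 :type_of% (g _))<|h (151 :type_of% (g _))<|h (109 :type_of% (g _))<|h (132 :type_of% (g _))<|i))));
 (let i:=(let i:=(let i:=(h (118 :type_of% (g _))<|h (149 :type_of% (g _))<|h (126 :type_of% (g _))<|h (23 :type_of% (g _))<|h (150 :type_of% (g _))<|i);
 (h (145 :type_of% (g _))<|h (100 :type_of% (g _))<|h (147 :type_of% (g _))<|h (140 :type_of% (g _))<|h (50 :type_of% (g _))<|i));
 (let i:=(h (44 :type_of% (g _))<|h (96 :type_of% (g _))<|h (141 :type_of% (g _))<|h (59 :type_of% (g _))<|h (122 :type_of% (g _))<|i);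
 (h (135 :type_of% (g _))<|h (137 :type_of% (g _))<|h (138 :type_of% (g _))<|h (54 :type_of% (g _))<|h (7 :type_of% (g _))<|i)));
 (let i:=(let i:=(h (133 :type_of% (g _))<|h (75 :type_of% (g _))<|h (48 :type_of% (g _))<|h (36 :type_of% (g _))<|h (136 :type_of% (g _))<|i);
 (h (61 :type_of% (g _))<|h (129 :type_of% (g _))<|h (131 :type_of% (g _))<|h (127 :type_of% (g _))<|h (130 :type_of% (g _))<|i));
 (let i:=(h (112 :type_of% (g _))<|h (67 :type_of% (g _))<|h (9 :type_of% (g _))<|h (94 :type_of% (g _))<|h (5 :type_of% (g _))<|i);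
 (h (34 :type_of% (g _))<|h (121 :type_of% (g _))<|h (64 :type_of% (g _))<|h (123 :type_of% (g _))<|h (77 :type_of% (g _))<|i)))));
 (let i:=(let i:=(let i:=(let i:=(h (110 :type_of% (g _))<|h (116 :type_of% (g _))<|h (11 :type_of% (g _))<|h (32 :type_of% (g _))<|h (119 :type_of% (g _))<|i);
 (h (3 :type_of% (g _))<|h (111 :type_of% (g _))<|h (29 :type_of% (g _))<|h (114 :type_of% (g _))<|h (115 :type_of% (g _))<|i));
 (let i:=(h (105 :type_of% (g _))<|h (107 :type_of% (g _))<|h (58 :type_of% (g _))<|h (108 :type_of% (g _))<|h (90 :type_of% (g _))<|i);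
 (h (99 :type_of% (g _))<|h (101 :type_of% (g _))<|h (21 :type_of% (g _))<|h (104 :type_of% (g _))<|h (102 :type_of% (g _))<|i)));
 (let i:=(let i:=(h (17 :type_of% (g _))<|h (95 :type_of% (g _))<|h (19 :type_of% (g _))<|h (97 :type_of% (g _))<|h (98 :type_of% (g _))<|i);
 (h (81 :type_of% (g _))<|h (89 :type_of% (g _))<|h (87 :type_of% (g _))<|h (91 :type_of% (g _))<|h (92 :type_of% (g _))<|i));
 (let i:=(h (1 :type_of% (g _))<|h (82 :type_of% (g _))<|h (84 :type_of% (g _))<|h (86 :type_of% (g _))<|h (88 :type_of% (g _))<|i);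
 (h (74 :type_of% (g _))<|h (52 :type_of% (g _))<|h (76 :type_of% (g _))<|h (78 :type_of% (g _))<|h (80 :type_of% (g _))<|i))));
 (let i:=(let i:=(let i:=(h (13 :type_of% (g _))<|h (68 :type_of% (g _))<|h (70 :type_of% (g _))<|h (66 :type_of% (g _))<|h (72 :type_of% (g _))<|i);
 (h (0 :type_of% (g _))<|h (60 :type_of% (g _))<|h (62 :type_of% (g _))<|h (63 :type_of% (g _))<|h (65 :type_of% (g _))<|i));
 (let i:=(h (49 :type_of% (g _))<|h (51 :type_of% (g _))<|h (53 :type_of% (g _))<|h (55 :type_of% (g _))<|h (57 :type_of% (g _))<|i);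
 (h (41 :type_of% (g _))<|h (43 :type_of% (g _))<|h (45 :type_of% (g _))<|h (40 :type_of% (g _))<|h (47 :type_of% (g _))<|i)));
 (let i:=(let i:=(h (31 :type_of% (g _))<|h (33 :type_of% (g _))<|h (35 :type_of% (g _))<|h (37 :type_of% (g _))<|h (39 :type_of% (g _))<|i);
 (h (22 :type_of% (g _))<|h (24 :type_of% (g _))<|h (26 :type_of% (g _))<|h (28 :type_of% (g _))<|h (30 :type_of% (g _))<|i));
 (let i:=(h (12 :type_of% (g _))<|h (14 :type_of% (g _))<|h (16 :type_of% (g _))<|h (18 :type_of% (g _))<|h (20 :type_of% (g _))<|i);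
 (l (2 :type_of% (g _))<|l (4 :type_of% (g _))<|l (6 :type_of% (g _))<|l (8 :type_of% (g _))<|l (10 :type_of% (g _))<|i)))))))

private noncomputable def _root_.Cfsg.Agent.KOd073e7c.k88s : (by first | exact Subtype (fun g => @Cfsg.Agent.H309.Q5.lR = @g) | exact Unit : Sort _) := by first | exact ⟨_, by delta Cfsg.Agent.H309.Q5.lR; rewrite [Cfsg.Agent.KOd073e7c.e24.{0}]; exact rfl⟩ | exact ⟨_, rfl⟩ | exact ()
private noncomputable def _root_.Cfsg.Agent.KOd073e7c.k88 : (by first | exact type_of% (@Subtype.val _ _ _root_.Cfsg.Agent.KOd073e7c.k88s) | exact Unit : Sort _) := by first | exact @Subtype.val _ _ _root_.Cfsg.Agent.KOd073e7c.k88s | exact ()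
private theorem _root_.Cfsg.Agent.KOd073e7c.e88 : (by first | exact type_of% (show _ = @_root_.Cfsg.Agent.KOd073e7c.k88 from @Subtype.property _ _ _root_.Cfsg.Agent.KOd073e7c.k88s) | exact True : Prop) := by first | exact @Subtype.property _ _ _root_.Cfsg.Agent.KOd073e7c.k88s | trivial

set_option maxRecDepth 100000 in
theorem chkAR : lR.map (fun x => x * (gA : M5)) = pAR.map (fun i => lR.getD i 1) := by (refine of_decide_eq_true ?_; (try (rewrite [Cfsg.Agent.LsF.mmulF_pat, Cfsg.Agent.LsF.zadd_pat, Cfsg.Agent.LsF.zmul_pat, Cfsg.Agent.LsF.zdecEq_eq, Cfsg.Agent.LsF.dMat_eq, Cfsg.Agent.LsF.instMOne_eq, Cfsg.Agent.LsF.zACM_pat, Cfsg.Agent.LsF.map_eq, Cfsg.Agent.LsF.getD_eq, Cfsg.Agent.LsF.dListEq_eq, Cfsg.Agent.LsF.decide_eq])); (first | (delta Cfsg.Agent.H24.Q5.gA; rewrite [Cfsg.Agent.KOd073e7c.e88, Cfsg.Agent.KOd073e7c.e84]; decide +kernel) | decide +kernel))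
set_option maxRecDepth 100000 in
theorem chkBR : lR.map (fun x => x * (gR : M5)) = pBR.map (fun i => lR.getD i 1) := by (refine of_decide_eq_true ?_; (try (rewrite [Cfsg.Agent.LsF.mmulF_pat, Cfsg.Agent.LsF.zadd_pat, Cfsg.Agent.LsF.zmul_pat, Cfsg.Agent.LsF.zdecEq_eq, Cfsg.Agent.LsF.dMat_eq, Cfsg.Agent.LsF.instMOne_eq, Cfsg.Agent.LsF.zACM_pat, Cfsg.Agent.LsF.map_eq, Cfsg.Agent.LsF.getD_eq, Cfsg.Agent.LsF.dListEq_eq, Cfsg.Agent.LsF.decide_eq])); (first | (delta Cfsg.Agent.H24.Q5.gR; rewrite [Cfsg.Agent.KOd073e7c.e88, Cfsg.Agent.KOd073e7c.e84]; decide +kernel) | decide +kernel))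
set_option maxRecDepth 100000 in
theorem one_mem_lR : (1 : M5) ∈ lR := by decide +kernel

theorem card_LR_le : Nat.card LR ≤ 160 := by
  have h := card_closure_le gA gR lR one_mem_lR pAR pBR chkAR chkBR
  have hl : lR.length = 160 := by decide +kernel
  rw [hl] at h; exact h

end Cfsg.Agent.H309.Q5
end

-- part: H309/Q5/Core
section
/-!
# S5211, q = 5, piece M5: a group of order 720 with a subgroup of order 120

`L` has order 720, `z` is a central involution, `a` of order 5 has centralizer `<a, z>`, `S` is a subgroup of order 120 generated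
by `a` and `q`, `α` is an automorphism of order dividing 4 which normalizes `S`, `<a>`, `<q>`. Then `L` acts on the six cosets of
`S` as the alternating group, and the two `α`-invariant Sylow subgroups `<a>`, `<q>` of `S` have two companions outside `S`.
-/

set_option autoImplicit false

namespace Cfsg.Agent.H309.Q5

open Subgroup

/-- powers of an element of order 5 -/
theorem pow_inv5 {G : Type*} [Group G] {x y : G} (hx : x ^ 5 = 1) (hy1 : y ≠ 1) {j : ℕ} (h : x ^ j = y) :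
    ∃ i : ℕ, y ^ i = x := by
  have hj : ¬ 5 ∣ j := by
    rintro ⟨m, rfl⟩
    rw [pow_mul, hx, one_pow] at h
    exact hy1 h.symm
  have hc : Nat.Coprime j 5 := ((Nat.Prime.coprime_iff_not_dvd Nat.prime_five).2 hj).symm
  obtain ⟨m, -, hm⟩ := Nat.exists_mul_mod_eq_one_of_coprime hc (by norm_num)
  refine ⟨m, ?_⟩
  rw [← h, ← pow_mul, pow_eq_pow_mod (j * m) hx, hm, pow_one]

theorem count_fix5 {X : Type*} [Fintype X] [DecidableEq X] (f : Equiv.Perm X) (hf : f ^ 5 = 1) (u v : X) (huv : u ≠ v)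
    (hu : f u = u) (hv : f v = v) (h : ∀ x, f x = x → x = u ∨ x = v) : Fintype.card X % 5 = 2 := by
  haveI : Fact (Nat.Prime 5) := ⟨Nat.prime_five⟩
  have h1 := Equiv.Perm.card_compl_support_modEq (σ := f) (p := 5) (n := 1) (by simpa using hf)
  have h2 : f.supportᶜ = {u, v} := by
    ext x
    simp only [Finset.mem_compl, Equiv.Perm.mem_support, not_not, Finset.mem_insert, Finset.mem_singleton]
    constructor
    · exact h x
    · rintro (rfl | rfl)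
      · exact hu
      · exact hv
  rw [h2, Finset.card_pair huv] at h1
  have := h1.symm
  unfold Nat.ModEq at this
  omega

section

variable {L : Type*} [Group L] [Finite L]

theorem core (hL : Nat.card L = 720) (S : Subgroup L) (hS : Nat.card S = 120)
    (z : L) (hzS : z ∈ S) (hz1 : z ≠ 1) (hz2 : z ^ 2 = 1) (hzc : ∀ x, z * x = x * z)
    (a q : L) (ha5 : a ^ 5 = 1) (ha : a ≠ 1) (hq5 : q ^ 5 = 1) (haS : a ∈ S) (hqS : q ∈ S)
    (hSg : S ≤ closure {a, q})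
    (hC : ∀ g, g * a = a * g → ∃ k : ℕ, g = a ^ k ∨ g = z * a ^ k)
    (hcj : ∀ g : L, g ^ 5 = 1 → g ≠ 1 → ∃ x, ∃ k : ℕ, x * a ^ k * x⁻¹ = g)
    (hgen : ∀ H : Subgroup L, (∀ g : L, g ^ 5 = 1 → g ∈ H) → H = ⊤) :
    (MulAction.toPermHom L (L ⧸ S)).range.Normal ∧ Nat.card (L ⧸ S) = 6 ∧
      ∀ x, MulAction.toPermHom L (L ⧸ S) x = 1 → x = 1 ∨ x = z := by
  classical
  have hidx : S.index = 6 := by
    have := S.card_mul_index; rw [hS, hL] at this; omega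
  have hcard : Nat.card (L ⧸ S) = 6 := hidx
  haveI : Finite (L ⧸ S) := Nat.finite_of_card_ne_zero (by rw [hcard]; norm_num)
  set φ := MulAction.toPermHom L (L ⧸ S) with hφ
  set K := φ.ker with hK
  have hKn : K.Normal := MonoidHom.normal_ker φ
  have hKS : K ≤ S := by rw [hK, hφ, ← normalCore_eq_ker]; exact S.normalCore_le
  have hzK : z ∈ K := by
    rw [hK, hφ, ← normalCore_eq_ker]
    intro b
    have : b * z * b⁻¹ = z := by rw [← hzc b, mul_assoc, mul_inv_cancel, mul_one]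
    rw [this]; exact hzS
  -- 5 does not divide the order of the kernel
  have h5 : ∀ g : L, g ^ 5 = 1 → g ∈ K → g = 1 := by
    intro g hg5 hgK
    by_contra hg1
    obtain ⟨x, k, hx⟩ := hcj g hg5 hg1
    have hak : a ^ k ∈ K := by
      have := hKn.conj_mem g hgK x⁻¹
      rwa [← hx, show x⁻¹ * (x * a ^ k * x⁻¹) * x⁻¹⁻¹ = a ^ k by group] at this
    have hak1 : a ^ k ≠ 1 := by
      intro h
      rw [h, mul_one, mul_inv_cancel] at hx
      exact hg1 hx.symm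
    obtain ⟨i, hi⟩ := pow_inv5 ha5 hak1 rfl
    have haK : a ∈ K := by rw [← hi]; exact pow_mem hak i
    have hT : K = ⊤ := by
      apply hgen
      intro y hy
      by_cases hy1 : y = 1
      · rw [hy1]; exact one_mem _
      · obtain ⟨x, k, hx⟩ := hcj y hy hy1
        rw [← hx]
        exact hKn.conj_mem _ (pow_mem haK k) x
    have : (⊤ : Subgroup L) ≤ S := hT ▸ hKS
    have h2 : S = ⊤ := top_le_iff.1 this
    rw [h2, card_top, hL] at hS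
    omega
  have hnd : ¬ 5 ∣ Nat.card K := by
    intro h
    haveI : Fact (Nat.Prime 5) := ⟨Nat.prime_five⟩
    obtain ⟨g, hg⟩ := exists_prime_orderOf_dvd_card' 5 h
    have h1 : (g : L) = 1 := by
      apply h5 g _ g.2
      rw [← SubgroupClass.coe_pow, ← hg, pow_orderOf_eq_one]; rfl
    have : g = 1 := Subtype.ext h1
    rw [this, orderOf_one] at hg
    omega
  have hdvd : Nat.card K ∣ 24 := by
    have h1 : Nat.card K ∣ 5 * 24 := by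
      have := Subgroup.card_dvd_of_le hKS
      rwa [hS] at this
    exact Nat.Coprime.dvd_of_dvd_mul_left ((Nat.Prime.coprime_iff_not_dvd Nat.prime_five).2 hnd).symm h1
  -- the congruence
  haveI : Fintype K := Fintype.ofFinite K
  have hmod : Nat.card K % 5 = 2 := by
    have hconj : ∀ n : ℕ, ∀ x : K, (((MulAut.conjNormal a : MulAut K).toEquiv ^ n : Equiv.Perm K) x : L) =
        a ^ n * x * (a ^ n)⁻¹ := by
      intro n
      induction n with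
      | zero => intro x; simp
      | succ n ih =>
        intro x
        rw [pow_succ', Equiv.Perm.mul_apply]
        change ((MulAut.conjNormal a : MulAut K) _ : L) = _
        rw [MulAut.conjNormal_apply, ih, pow_succ']
        group
    rw [Nat.card_eq_fintype_card]
    refine count_fix5 ((MulAut.conjNormal a : MulAut K).toEquiv) ?_ 1 ⟨z, hzK⟩ ?_ ?_ ?_ ?_
    · ext x
      rw [hconj, ha5]; simp
    · intro h
      exact hz1 (congrArg Subtype.val h).symm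
    · exact map_one (MulAut.conjNormal a : MulAut K)
    · apply Subtype.ext
      change ((MulAut.conjNormal a : MulAut K) _ : L) = _
      rw [MulAut.conjNormal_apply]
      change a * z * a⁻¹ = z
      rw [← hzc a, mul_assoc, mul_inv_cancel, mul_one]
    · intro x hx
      have h1 := congrArg Subtype.val hx
      change ((MulAut.conjNormal a : MulAut K) _ : L) = _ at h1
      rw [MulAut.conjNormal_apply, mul_inv_eq_iff_eq_mul] at h1
      obtain ⟨k, hk | hk⟩ := hC x h1.symm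
      · left
        apply Subtype.ext
        apply h5 _ _ x.2
        rw [hk, ← pow_mul, mul_comm, pow_mul, ha5, one_pow]
      · right
        apply Subtype.ext
        change (x : L) = z
        have h2 : a ^ k ∈ K := by
          have h3 : (x : L) ∈ K := x.2
          rw [hk] at h3
          exact (K.mul_mem_cancel_left hzK).1 h3
        have h4 : a ^ k = 1 := by
          apply h5 _ _ h2
          rw [← pow_mul, mul_comm, pow_mul, ha5, one_pow]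
        rw [hk, h4, mul_one]
  -- the images
  have hmap : Nat.card K * Nat.card (S.map φ) = 120 := by
    have h1 := relIndex_mul_relIndex (⊥ : Subgroup L) K S bot_le hKS
    rw [relIndex_bot_left, relIndex_bot_left, hS, hK, relIndex_ker] at h1
    exact h1
  have hran : Nat.card K * Nat.card φ.range = 720 := by
    have h1 := K.card_mul_index
    rw [hL, hK, index_ker] at h1
    exact h1
  have hK2 : Nat.card K = 2 := by
    have hle : Nat.card K ≤ 24 := Nat.le_of_dvd (by norm_num) hdvd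
    have h212 : Nat.card K = 2 ∨ Nat.card K = 12 := by
      generalize Nat.card K = m at *
      interval_cases m <;> omega
    rcases h212 with h | h
    · exact h
    exfalso
    rw [h] at hmap
    have hT : Nat.card (S.map φ) = 10 := by omega
    have hφa : φ a ≠ 1 := fun hh => ha (h5 a ha5 hh)
    have hZ : Nat.card (zpowers (φ a)) = 5 := by
      haveI : Fact (Nat.Prime 5) := ⟨Nat.prime_five⟩
      rw [Nat.card_zpowers]
      exact orderOf_eq_prime (by rw [← map_pow, ha5, map_one]) hφa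
    have hZT : zpowers (φ a) ≤ S.map φ := by
      rw [zpowers_le]; exact mem_map_of_mem _ haS
    have hrel : (zpowers (φ a)).relIndex (S.map φ) = 2 := by
      have h1 := relIndex_mul_relIndex (⊥ : Subgroup _) (zpowers (φ a)) (S.map φ) bot_le hZT
      rw [relIndex_bot_left, relIndex_bot_left, hZ, hT] at h1
      omega
    have hq : φ q ∈ zpowers (φ a) := by
      have h1 : ((zpowers (φ a)).subgroupOf (S.map φ)).index = 2 := hrel
      have h2 := sq_mem_of_index_two h1 ⟨φ (q ^ 3), mem_map_of_mem _ (pow_mem hqS 3)⟩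
      rw [mem_subgroupOf] at h2
      change (φ (q ^ 3)) ^ 2 ∈ _ at h2
      rw [← map_pow, ← pow_mul, show 3 * 2 = 5 + 1 from rfl, pow_succ, hq5, one_mul] at h2
      exact h2
    have hle : S.map φ ≤ zpowers (φ a) := by
      rw [map_le_iff_le_comap]
      refine hSg.trans ?_
      rw [closure_le]
      rintro y (rfl | hy)
      · exact mem_zpowers _
      · rw [Set.mem_singleton_iff] at hy; subst hy; exact hq
    have := Nat.card_le_card_of_injective _ (inclusion_injective hle)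
    rw [hZ, hT] at this
    omega
  rw [hK2] at hran
  have hperm : Nat.card (Equiv.Perm (L ⧸ S)) = 720 := by
    rw [Nat.card_perm, hcard]; rfl
  have hri : φ.range.index = 2 := by
    have := φ.range.card_mul_index
    rw [hperm] at this
    have h360 : Nat.card φ.range = 360 := by omega
    rw [h360] at this; omega
  refine ⟨normal_of_index_eq_two hri, hcard, ?_⟩
  intro x hx
  have hxK : x ∈ K := hx
  by_contra hcon
  push Not at hcon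
  have h3 : ({⟨1, one_mem _⟩, ⟨z, hzK⟩, ⟨x, hxK⟩} : Finset K).card = 3 := by
    rw [Finset.card_eq_three]
    refine ⟨_, _, _, ?_, ?_, ?_, rfl⟩
    · intro h; exact hz1 (congrArg Subtype.val h).symm
    · intro h; exact hcon.1 (congrArg Subtype.val h).symm
    · intro h; exact hcon.2 (congrArg Subtype.val h).symm
  have h4 := Finset.card_le_univ ({⟨1, one_mem _⟩, ⟨z, hzK⟩, ⟨x, hxK⟩} : Finset K)
  rw [h3, ← Nat.card_eq_fintype_card, hK2] at h4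
  omega

/-- The two `α`-invariant subgroups outside `S`. -/
theorem companions (S : Subgroup L) (z : L) (hz1 : z ≠ 1) (hz2 : z ^ 2 = 1) (hzc : ∀ x, z * x = x * z)
    (hn : (MulAction.toPermHom L (L ⧸ S)).range.Normal) (h6 : Nat.card (L ⧸ S) = 6)
    (hker : ∀ x, MulAction.toPermHom L (L ⧸ S) x = 1 → x = 1 ∨ x = z)
    (α : MulAut L) (hα : ∀ x, α (α (α (α x))) = x) (hαS : ∀ x ∈ S, α x ∈ S) :
    ∃ τ : Equiv.Perm (L ⧸ S), ∀ g ∈ S, g ^ 5 = 1 → g ≠ 1 → ∀ k : ℕ, α g = g ^ k →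
      ∃ x : L, x ^ 5 = 1 ∧ x ∉ S ∧ α x = x ^ k ∧
        MulAction.toPermHom L (L ⧸ S) x = τ * MulAction.toPermHom L (L ⧸ S) g * τ⁻¹ := by
  classical
  haveI : Finite (L ⧸ S) := Nat.finite_of_card_ne_zero (by rw [h6]; norm_num)
  haveI : Fintype (L ⧸ S) := Fintype.ofFinite _
  have h6' : Fintype.card (L ⧸ S) = 6 := by rw [← Nat.card_eq_fintype_card, h6]
  set φ := MulAction.toPermHom L (L ⧸ S) with hφ
  have hφm : ∀ g x : L, φ g (x : L ⧸ S) = ((g * x : L) : L ⧸ S) := fun g x => rfl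
  have hαS' : ∀ x, α x ∈ S ↔ x ∈ S := by
    intro x
    refine ⟨fun h => ?_, hαS x⟩
    rw [← hα x]
    exact hαS _ (hαS _ (hαS _ h))
  let σ : Equiv.Perm (L ⧸ S) := Quotient.congr α.toEquiv (by
    intro x y
    rw [QuotientGroup.leftRel_apply, QuotientGroup.leftRel_apply]
    change _ ↔ (α x)⁻¹ * α y ∈ S
    rw [← map_inv, ← map_mul, hαS'])
  have hσm : ∀ x : L, σ (x : L ⧸ S) = ((α x : L) : L ⧸ S) := fun x => rfl
  have hσ4 : σ ^ 2 ^ 2 = 1 := by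
    ext x
    induction x using QuotientGroup.induction_on with
    | H x =>
      change σ (σ (σ (σ (x : L ⧸ S)))) = (x : L ⧸ S)
      rw [hσm, hσm, hσm, hσm, hα]
  have hσφ : ∀ g : L, σ * φ g = φ (α g) * σ := by
    intro g
    ext x
    induction x using QuotientGroup.induction_on with
    | H x =>
      rw [Equiv.Perm.mul_apply, Equiv.Perm.mul_apply, hφm, hσm, hσm, hφm, map_mul]
  have hσφ' : ∀ g : L, φ (α g) = σ * φ g * σ⁻¹ := by
    intro g; rw [hσφ, mul_assoc, mul_inv_cancel, mul_one]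
  have hσi : σ ((1 : L) : L ⧸ S) = ((1 : L) : L ⧸ S) := by rw [hσm, map_one]
  obtain ⟨o, hσo, hoi⟩ := Equiv.Perm.exists_fixed_point_of_prime' (p := 2) (n := 2) (by rw [h6']; norm_num) hσ4 hσi
  set i : L ⧸ S := ((1 : L) : L ⧸ S) with hi
  let τ : Equiv.Perm (L ⧸ S) := Equiv.swap o i
  have hστ : σ * τ = τ * σ := by
    have := Equiv.mul_swap_eq_swap_mul σ o i
    rw [hσo, hσi] at this
    exact this
  have hz5 : z ^ 5 = z := by
    rw [show 5 = 2 * 2 + 1 from rfl, pow_succ, pow_mul, hz2, one_pow, one_mul]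
  have hzpow : ∀ n : ℕ, ∀ x : L, (z * x) ^ n = z ^ n * x ^ n := fun n x => (Commute.mul_pow (hzc x) n)
  refine ⟨τ, ?_⟩
  intro g hgS hg5 hg1 k hk
  obtain ⟨y, hy⟩ : τ * φ g * τ⁻¹ ∈ φ.range := hn.conj_mem _ ⟨g, rfl⟩ τ
  have hy5 : φ (y ^ 5) = 1 := by
    rw [map_pow, hy, conj_pow, ← map_pow, hg5, map_one, mul_one, mul_inv_cancel]
  -- correct `y` by a power
  have hyz : (y ^ 5) ^ 2 = 1 := by
    rcases hker _ hy5 with h | h
    · rw [h, one_pow]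
    · rw [h, hz2]
  have hx5 : (y ^ 6) ^ 5 = 1 := by
    rw [← pow_mul, show 6 * 5 = 5 * 2 * 3 from rfl, pow_mul, pow_mul, hyz, one_pow]
  have hφx : φ (y ^ 6) = τ * φ g * τ⁻¹ := by
    rw [pow_succ, map_mul, hy5, one_mul, hy]
  refine ⟨y ^ 6, hx5, ?_, ?_, hφx⟩
  · intro hxS
    have h1 : φ (y ^ 6) i = i := by
      rw [hi, hφm, mul_one]
      exact (QuotientGroup.eq.2 (by simpa using hxS)).symm
    rw [hφx] at h1
    have h2 : φ g o = o := by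
      have h3 : τ⁻¹ i = o := by
        rw [Equiv.Perm.inv_eq_iff_eq]; exact (Equiv.swap_apply_left o i).symm
      rw [Equiv.Perm.mul_apply, Equiv.Perm.mul_apply, h3] at h1
      exact τ.injective (h1.trans (Equiv.swap_apply_left o i).symm)
    have h3 : φ g i = i := by
      rw [hi, hφm, mul_one]
      exact (QuotientGroup.eq.2 (by simpa using hgS)).symm
    haveI : Fact (Nat.Prime 5) := ⟨Nat.prime_five⟩
    have h4 := Equiv.Perm.card_compl_support_modEq (σ := φ g) (p := 5) (n := 1)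
      (by rw [pow_one, ← map_pow, hg5, map_one])
    rw [h6'] at h4
    have h5 : 2 ≤ (φ g).supportᶜ.card := by
      rw [← Finset.card_pair hoi]
      apply Finset.card_le_card
      intro t ht
      rw [Finset.mem_insert, Finset.mem_singleton] at ht
      rw [Finset.mem_compl, Equiv.Perm.mem_support, not_not]
      rcases ht with rfl | rfl
      · exact h2
      · exact h3
    have h7 := Finset.card_add_card_compl (φ g).support
    rw [h6'] at h7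
    have h8 : (φ g).support.card = 0 := by
      unfold Nat.ModEq at h4; omega
    rw [Finset.card_eq_zero, Equiv.Perm.support_eq_empty_iff] at h8
    rcases hker _ h8 with h | h
    · exact hg1 h
    · rw [h, hz5] at hg5; exact hz1 hg5
  · have h1 : φ (α (y ^ 6) * ((y ^ 6) ^ k)⁻¹) = 1 := by
      rw [map_mul, map_inv, mul_inv_eq_one, hσφ', hφx, map_pow, hφx, conj_pow, ← map_pow, ← hk, hσφ']
      calc σ * (τ * φ g * τ⁻¹) * σ⁻¹ = (σ * τ) * φ g * (σ * τ)⁻¹ := by group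
        _ = (τ * σ) * φ g * (τ * σ)⁻¹ := by rw [hστ]
        _ = τ * (σ * φ g * σ⁻¹) * τ⁻¹ := by group
    rcases hker _ h1 with h | h
    · exact mul_inv_eq_one.1 h
    · exfalso
      have h2 : α (y ^ 6) = z * (y ^ 6) ^ k := mul_inv_eq_iff_eq_mul.1 h
      have h3 : (α (y ^ 6)) ^ 5 = (z * (y ^ 6) ^ k) ^ 5 := by rw [h2]
      rw [← map_pow, hx5, map_one, hzpow, hz5, ← pow_mul, mul_comm k 5, pow_mul, hx5, one_pow, mul_one] at h3
      exact hz1 h3.symm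

end

end Cfsg.Agent.H309.Q5
end

-- part: H309/Q5/M5
section
/-!
# S5211, q = 5, piece M5: the case of order 720
-/

set_option autoImplicit false

namespace Cfsg.Agent.H309.Q5

open Subgroup Cfsg.Agent.H24.Q5

/-- (M2) in its strong form: a `gh2`-invariant subgroup of order 5 of `L` is `<gA>` or contains one of the five elements -/
def StM2s : Prop := ∀ L : Subgroup M5ˣ, Hyp L → ∀ x ∈ L, x ^ 5 = 1 → x ≠ 1 → (∃ k : ℕ, gh2 * x * gh2⁻¹ = x ^ k) →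
  ∃ j : ℕ, x = gA ^ j ∨ x ^ j = gS ∨ x ^ j = gR ∨ x ^ j = gC ∨ x ^ j = gB ∨ x ^ j = gP

theorem gA5 : gA ^ 5 = 1 := Units.ext (by rw [Units.val_pow_eq_pow_val]; exact mA5)
theorem gS5 : gS ^ 5 = 1 := Units.ext (by rw [Units.val_pow_eq_pow_val]; exact mS5)
theorem gP5 : gP ^ 5 = 1 := Units.ext (by rw [Units.val_pow_eq_pow_val]; exact mP5)
theorem gh24 : gh2 ^ 4 = 1 := Units.ext (by rw [Units.val_pow_eq_pow_val]; exact mh24)
theorem gA_ne : gA ≠ 1 := fun h => absurd (congrArg Units.val h) (by decide +kernel)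
theorem gS_ne : gS ≠ 1 := fun h => absurd (congrArg Units.val h) (by decide +kernel)
theorem gP_ne : gP ≠ 1 := fun h => absurd (congrArg Units.val h) (by decide +kernel)

theorem gh2_gA : gh2 * gA * gh2⁻¹ = gA ^ 3 := by
  rw [mul_inv_eq_iff_eq_mul]
  apply Units.ext
  rw [Units.val_mul, Units.val_mul, Units.val_pow_eq_pow_val]
  decide +kernel

theorem gh2_gS : gh2 * gS * gh2⁻¹ = gS ^ 2 := by
  rw [mul_inv_eq_iff_eq_mul]
  apply Units.ext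
  rw [Units.val_mul, Units.val_mul, Units.val_pow_eq_pow_val]
  decide +kernel

theorem gh2_gP : gh2 * gP * gh2⁻¹ = gP ^ 2 := by
  rw [mul_inv_eq_iff_eq_mul]
  apply Units.ext
  rw [Units.val_mul, Units.val_mul, Units.val_pow_eq_pow_val]
  decide +kernel

theorem gA_pow_ne_gS (j : ℕ) : gA ^ j ≠ gS := by
  rw [pow_eq_pow_mod j gA5]
  have h : ∀ i < 5, (gA : M5) ^ i ≠ (gS : M5) := by decide +kernel
  intro hh
  apply h (j % 5) (Nat.mod_lt _ (by norm_num))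
  rw [← hh, Units.val_pow_eq_pow_val]

theorem gA_pow_ne_gP (j : ℕ) : gA ^ j ≠ gP := by
  rw [pow_eq_pow_mod j gA5]
  have h : ∀ i < 5, (gA : M5) ^ i ≠ (gP : M5) := by decide +kernel
  intro hh
  apply h (j % 5) (Nat.mod_lt _ (by norm_num))
  rw [← hh, Units.val_pow_eq_pow_val]

theorem neg_one_ne : (-1 : M5ˣ) ≠ 1 := fun h => absurd (congrArg Units.val h) (by decide +kernel)

theorem conj3 {G : Type*} [Group G] (h x : G) : h * (h * (h * x * h⁻¹) * h⁻¹) * h⁻¹ = h ^ 3 * x * (h ^ 3)⁻¹ := by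
  simp only [pow_succ, pow_zero, one_mul, mul_inv_rev, mul_assoc]

theorem conj4 {G : Type*} [Group G] (h x : G) :
    h * (h * (h * (h * x * h⁻¹) * h⁻¹) * h⁻¹) * h⁻¹ = h ^ 4 * x * (h ^ 4)⁻¹ := by
  simp only [pow_succ, pow_zero, one_mul, mul_inv_rev, mul_assoc]

theorem inv5 {G : Type*} [Group G] {z : G} (h : z ^ 2 = 1) : z ^ 5 = z := by
  rw [show 5 = 2 * 2 + 1 from rfl, pow_succ, pow_mul, h, one_pow, one_mul]

/-- conjugation by `gh2` on `L` -/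
def alph (L : Subgroup M5ˣ) (h2 : ∀ g ∈ L, gh2 * g * gh2⁻¹ ∈ L) : MulAut L where
  toFun x := ⟨gh2 * x * gh2⁻¹, h2 x x.2⟩
  invFun x := ⟨gh2⁻¹ * x * gh2, by
    have h := h2 _ (h2 _ (h2 x x.2))
    have e3 : gh2 ^ 3 = gh2⁻¹ := by
      rw [eq_inv_iff_mul_eq_one, ← pow_succ]; exact gh24
    rw [conj3, e3, inv_inv] at h
    exact h⟩
  left_inv x := Subtype.ext (by simp only []; group)
  right_inv x := Subtype.ext (by simp only []; group)
  map_mul' x y := Subtype.ext (by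
    change gh2 * ((x : M5ˣ) * y) * gh2⁻¹ = (gh2 * x * gh2⁻¹) * (gh2 * y * gh2⁻¹)
    group)

/-- the core for the explicit groups: `q` is `gS` or `gP` -/
theorem two_more (h1 : StM1) (L : Subgroup M5ˣ) (hL : Hyp L) (hcard : Nat.card L = 720) (q : M5ˣ) (hq5 : q ^ 5 = 1)
    (hq1 : q ≠ 1) (hqL : q ∈ L) (hq2 : gh2 * q * gh2⁻¹ = q ^ 2) (hAq : ∀ j : ℕ, gA ^ j ≠ q)
    (hc : Nat.card (closure {gA, q} : Subgroup M5ˣ) = 120) (hm : -1 ∈ (closure {gA, q} : Subgroup M5ˣ)) :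
    ∃ x ∈ L, ∃ y ∈ L, x ^ 5 = 1 ∧ y ^ 5 = 1 ∧ x ∉ (closure {gA, q} : Subgroup M5ˣ) ∧
      y ∉ (closure {gA, q} : Subgroup M5ˣ) ∧ gh2 * x * gh2⁻¹ = x ^ 3 ∧ gh2 * y * gh2⁻¹ = y ^ 2 ∧
      ∀ j : ℕ, x ^ j ≠ y := by
  obtain ⟨hcj, -, hC, -, -⟩ := h1 L hL
  set S0 : Subgroup M5ˣ := closure {gA, q} with hS0
  have hSL : S0 ≤ L := by
    rw [hS0, closure_le]
    rintro y (rfl | hy)
    · exact hL.memA
    · rw [Set.mem_singleton_iff] at hy; subst hy; exact hqL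
  have hAS : gA ∈ S0 := subset_closure (Set.mem_insert _ _)
  have hqS : q ∈ S0 := subset_closure (Set.mem_insert_of_mem _ rfl)
  let S : Subgroup L := S0.subgroupOf L
  have hScard : Nat.card S = 120 := by
    rw [← hc]; exact Nat.card_congr (subgroupOfEquivOfLe hSL).toEquiv
  let z : L := ⟨-1, hSL hm⟩
  let a : L := ⟨gA, hL.memA⟩
  let q' : L := ⟨q, hqL⟩
  have hz1 : z ≠ 1 := fun h => neg_one_ne (congrArg Subtype.val h)
  have hz2 : z ^ 2 = 1 := Subtype.ext (by change (-1 : M5ˣ) ^ 2 = 1; simp)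
  have hzc : ∀ x : L, z * x = x * z := fun x => Subtype.ext (by
    change (-1 : M5ˣ) * x = x * (-1); rw [neg_mul, one_mul, mul_neg, mul_one])
  have ha5 : a ^ 5 = 1 := Subtype.ext gA5
  have ha1 : a ≠ 1 := fun h => gA_ne (congrArg Subtype.val h)
  have hq5' : q' ^ 5 = 1 := Subtype.ext hq5
  have hq1' : q' ≠ 1 := fun h => hq1 (congrArg Subtype.val h)
  have haS : a ∈ S := mem_subgroupOf.2 hAS
  have hqS' : q' ∈ S := mem_subgroupOf.2 hqS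
  have hSg : S ≤ Subgroup.closure {a, q'} := by
    intro x hx
    have hx' : (x : M5ˣ) ∈ S0 := mem_subgroupOf.1 hx
    have hmap : (Subgroup.closure {a, q'}).map L.subtype = S0 := by
      rw [MonoidHom.map_closure, hS0]
      congr 1
      rw [Set.image_pair]; rfl
    rw [← hmap] at hx'
    obtain ⟨y, hy, hyx⟩ := hx'
    have : y = x := Subtype.ext hyx
    rwa [← this]
  have hC' : ∀ g : L, g * a = a * g → ∃ k : ℕ, g = a ^ k ∨ g = z * a ^ k := by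
    intro g hg
    obtain ⟨k, hk | hk⟩ := hC g g.2 (congrArg Subtype.val hg)
    · exact ⟨k, Or.inl (Subtype.ext hk)⟩
    · refine ⟨k, Or.inr (Subtype.ext ?_)⟩
      change (g : M5ˣ) = (-1) * gA ^ k
      rw [hk, neg_mul, one_mul]
  have hcj' : ∀ g : L, g ^ 5 = 1 → g ≠ 1 → ∃ x, ∃ k : ℕ, x * a ^ k * x⁻¹ = g := by
    intro g hg hg1
    obtain ⟨x, hx, k, hk⟩ := hcj g g.2 (congrArg Subtype.val hg) (fun h => hg1 (Subtype.ext h))
    exact ⟨⟨x, hx⟩, k, Subtype.ext hk⟩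
  have hgen : ∀ H : Subgroup L, (∀ g : L, g ^ 5 = 1 → g ∈ H) → H = ⊤ := by
    intro H hH
    rw [eq_top_iff]
    intro x _
    have h1 : L ≤ H.map L.subtype := by
      refine hL.gen.trans ?_
      rw [closure_le]
      rintro g ⟨hg, hg5⟩
      exact ⟨⟨g, hg⟩, hH _ (Subtype.ext hg5), rfl⟩
    obtain ⟨y, hy, hyx⟩ := h1 x.2
    have : y = x := Subtype.ext hyx
    rwa [← this]
  obtain ⟨hn, h6, hker⟩ := core hcard S hScard z (mem_subgroupOf.2 hm) hz1 hz2 hzc a q' ha5 ha1 hq5' haS hqS' hSg hC' hcj' hgen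
  let α := alph L hL.h2
  have hα : ∀ x, α (α (α (α x))) = x := by
    intro x
    apply Subtype.ext
    change gh2 * (gh2 * (gh2 * (gh2 * (x : M5ˣ) * gh2⁻¹) * gh2⁻¹) * gh2⁻¹) * gh2⁻¹ = x
    rw [conj4, gh24, one_mul, inv_one, mul_one]
  have hαS : ∀ x ∈ S, α x ∈ S := by
    intro x hx
    rw [mem_subgroupOf] at hx ⊢
    change gh2 * (x : M5ˣ) * gh2⁻¹ ∈ S0
    have h1 : S0 ≤ S0.comap (MulAut.conj gh2).toMonoidHom := by
      conv_lhs => rw [hS0]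
      rw [closure_le]
      rintro y (rfl | hy)
      · change gh2 * gA * gh2⁻¹ ∈ S0
        rw [gh2_gA]; exact pow_mem hAS 3
      · rw [Set.mem_singleton_iff] at hy; subst hy
        change gh2 * y * gh2⁻¹ ∈ S0
        rw [hq2]; exact pow_mem hqS 2
    exact h1 hx
  obtain ⟨τ, hτ⟩ := companions S z hz1 hz2 hzc hn h6 hker α hα hαS
  obtain ⟨x, hx5, hxS, hxα, hxφ⟩ := hτ a haS ha5 ha1 3 (Subtype.ext gh2_gA)
  obtain ⟨y, hy5, hyS, hyα, hyφ⟩ := hτ q' hqS' hq5' hq1' 2 (Subtype.ext hq2)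
  refine ⟨x, x.2, y, y.2, congrArg Subtype.val hx5, congrArg Subtype.val hy5, fun h => hxS (mem_subgroupOf.2 h),
    fun h => hyS (mem_subgroupOf.2 h), congrArg Subtype.val hxα, congrArg Subtype.val hyα, ?_⟩
  intro j hj
  have hj' : x ^ j = y := Subtype.ext hj
  rw [← hj', map_pow, hxφ, conj_pow] at hyφ
  have h2 : MulAction.toPermHom L (L ⧸ S) (a ^ j * q'⁻¹) = 1 := by
    rw [map_mul, map_inv, map_pow, mul_inv_eq_one]
    exact mul_left_cancel (mul_right_cancel hyφ)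
  rcases hker _ h2 with h | h
  · exact hAq j (congrArg Subtype.val (mul_inv_eq_one.1 h))
  · have h3 : a ^ j = z * q' := mul_inv_eq_iff_eq_mul.1 h
    have h4 : (a ^ j) ^ 5 = (z * q') ^ 5 := by rw [h3]
    rw [← pow_mul, mul_comm j 5, pow_mul, ha5, one_pow, Commute.mul_pow (hzc q'), hq5', mul_one,
      inv5 hz2] at h4
    exact hz1 h4.symm

/-- (M5) -/
theorem stM5_of (h1 : StM1) (h2 : StM2s) (h2' : StM2) (h6 : StM6) : StM5 := by
  intro L hL hcard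
  obtain ⟨⟨cS, cR, cC, cB, cP⟩, ⟨mS, mR, mC, mB, mP⟩, -⟩ := h6
  by_contra hCL
  haveI : Finite L := Nat.finite_of_card_ne_zero (by rw [hcard]; norm_num)
  have hle : ∀ g ∈ L, (closure {gA, g} : Subgroup M5ˣ) ≤ L := by
    intro g hg
    rw [closure_le]
    rintro y (rfl | hy)
    · exact hL.memA
    · rw [Set.mem_singleton_iff] at hy; subst hy; exact hg
  have hR : gR ∉ L := by
    intro h
    have h3 : Nat.card LR = 160 := le_antisymm card_LR_le cR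
    have h4 := Subgroup.card_dvd_of_le (hle gR h)
    change Nat.card LR ∣ _ at h4
    rw [h3, hcard] at h4
    omega
  have hB : gB ∉ L := by
    intro h
    have h4 := Subgroup.card_dvd_of_le (hle gB h)
    change Nat.card LB ∣ _ at h4
    rw [hcard] at h4
    have := Nat.le_of_dvd (by norm_num) h4
    omega
  -- a gh2-invariant subgroup contains `gS` or `gP`
  have key : ∀ x ∈ L, x ^ 5 = 1 → (∀ j : ℕ, x ≠ gA ^ j) → (∃ k : ℕ, gh2 * x * gh2⁻¹ = x ^ k) →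
      ∃ j : ℕ, x ^ j = gS ∨ x ^ j = gP := by
    intro x hx hx5 hxA hk
    obtain ⟨j, h | h | h | h | h | h⟩ := h2 L hL x hx hx5 (fun h => hxA 0 (by rw [h, pow_zero])) hk
    · exact absurd h (hxA j)
    · exact ⟨j, Or.inl h⟩
    · exact absurd (h ▸ pow_mem hx j) hR
    · exact absurd (h ▸ pow_mem hx j) hCL
    · exact absurd (h ▸ pow_mem hx j) hB
    · exact ⟨j, Or.inr h⟩
  have main : ∀ q q' : M5ˣ, q ^ 5 = 1 → q' ^ 5 = 1 → q ≠ 1 → q' ≠ 1 → q ∈ L → gh2 * q * gh2⁻¹ = q ^ 2 → (∀ j : ℕ, gA ^ j ≠ q) →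
      Nat.card (closure {gA, q} : Subgroup M5ˣ) = 120 → -1 ∈ (closure {gA, q} : Subgroup M5ˣ) →
      (∀ x ∈ L, x ^ 5 = 1 → (∀ j : ℕ, x ≠ gA ^ j) → (∃ k : ℕ, gh2 * x * gh2⁻¹ = x ^ k) →
      ∃ j : ℕ, x ^ j = q ∨ x ^ j = q') → False := by
    intro q q' hq5 hq5' hq1 hq1' hqL hq2 hAq hc hm hk
    obtain ⟨x, hxL, y, hyL, hx5, hy5, hxS, hyS, hx2, hy2, hxy⟩ := two_more h1 L hL hcard q hq5 hq1 hqL hq2 hAq hc hm
    have hAS : gA ∈ (closure {gA, q} : Subgroup M5ˣ) := subset_closure (Set.mem_insert _ _)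
    have hqS : q ∈ (closure {gA, q} : Subgroup M5ˣ) := subset_closure (Set.mem_insert_of_mem _ rfl)
    have aux : ∀ w ∈ L, w ^ 5 = 1 → w ∉ (closure {gA, q} : Subgroup M5ˣ) → (∃ k : ℕ, gh2 * w * gh2⁻¹ = w ^ k) →
        ∃ j : ℕ, w ^ j = q' := by
      intro w hw hw5 hwS hwk
      obtain ⟨j, hj | hj⟩ := hk w hw hw5 (fun j h => hwS (h ▸ pow_mem hAS j)) hwk
      · obtain ⟨i, hi⟩ := pow_inv5 hw5 hq1 hj
        exact absurd (hi ▸ pow_mem hqS i) hwS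
      · exact ⟨j, hj⟩
    obtain ⟨j, hj⟩ := aux x hxL hx5 hxS ⟨3, hx2⟩
    obtain ⟨i, hi⟩ := aux y hyL hy5 hyS ⟨2, hy2⟩
    obtain ⟨m, hm⟩ := pow_inv5 hy5 hq1' hi
    apply hxy (j * m)
    rw [pow_mul, hj, hm]
  rcases h2' L hL with h | h | h | h | h
  · exact main gS gP gS5 gP5 gS_ne gP_ne h gh2_gS gA_pow_ne_gS (le_antisymm card_LS_le cS) mS key
  · exact hR h
  · exact hCL h
  · exact hB h
  · refine main gP gS gP5 gS5 gP_ne gS_ne h gh2_gP gA_pow_ne_gP (le_antisymm card_LP_le cP) mP ?_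
    intro x hx hx5 hxA hk
    obtain ⟨j, hj⟩ := key x hx hx5 hxA hk
    exact ⟨j, hj.symm⟩

end Cfsg.Agent.H309.Q5
end

-- part: H913/Q5/Push
section
/-!
# S5211, block q = 5: transfer of the local data along an injective homomorphism
-/

set_option autoImplicit false

namespace Cfsg.Agent.H913.Q5

open Cfsg Cfsg.Agent.H24.Q5 Cfsg.Agent.H779.G2

theorem card_U5 : Nat.card U5 = 5 ^ 6 := by
  rw [GU.card_eq, Nat.card_zmod]

theorem mem_QG {G : Type} [Group G] {T : Sylow 5 G} {e : (T : Subgroup G) ≃* U5} {g : G} :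
    g ∈ QG T e ↔ ∃ x : (T : Subgroup G), e x ∈ A5 ∧ (x : G) = g := by
  rw [QG, Subgroup.mem_map]
  exact Iff.rfl

/-- the order of the automizer divides the order of the automizer in a bigger group -/
theorem relIndex_dvd {G H : Type*} [Group G] [Group H] (j : G →* H) (hj : Function.Injective j) (Q : Subgroup G) :
    (Subgroup.centralizer (Q : Set G)).relIndex (Subgroup.normalizer (Q : Set G)) ∣
      (Subgroup.centralizer ((Q.map j : Subgroup H) : Set H)).relIndex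
        (Subgroup.normalizer ((Q.map j : Subgroup H) : Set H)) := by
  have hC : (Subgroup.centralizer ((Q.map j : Subgroup H) : Set H)).comap j = Subgroup.centralizer (Q : Set G) := by
    ext g
    rw [Subgroup.mem_comap, Subgroup.mem_centralizer_iff, Subgroup.mem_centralizer_iff]
    constructor
    · intro h x hx
      apply hj
      rw [map_mul, map_mul]
      exact h (j x) ⟨x, hx, rfl⟩
    · rintro h _ ⟨x, hx, rfl⟩
      rw [← map_mul, ← map_mul, h x hx]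
  have hN : (Subgroup.normalizer (Q : Set G)).map j ≤ Subgroup.normalizer ((Q.map j : Subgroup H) : Set H) := by
    rintro _ ⟨g, hg, rfl⟩
    rw [SetLike.mem_coe, Subgroup.mem_normalizer_iff] at hg
    rw [Subgroup.mem_normalizer_iff]
    intro y
    constructor
    · rintro ⟨x, hx, rfl⟩
      exact ⟨g * x * g⁻¹, (hg x).1 hx, by rw [map_mul, map_mul, map_inv]⟩
    · rintro ⟨x, hx, hxy⟩
      refine ⟨g⁻¹ * x * g, ?_, ?_⟩
      · refine (hg _).2 ?_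
        have : g * (g⁻¹ * x * g) * g⁻¹ = x := by group
        rw [this]
        exact hx
      · rw [map_mul, map_mul, map_inv, hxy]
        group
  rw [← hC, Subgroup.relIndex_comap]
  set N' : Subgroup H := Subgroup.normalizer ((Q.map j : Subgroup H) : Set H) with hN'
  set C' : Subgroup H := Subgroup.centralizer ((Q.map j : Subgroup H) : Set H) with hC'
  have hnorm : (C'.subgroupOf N').Normal := by
    rw [hN', hC']
    infer_instance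
  have h1 := Subgroup.relIndex_dvd_index_of_normal (C'.subgroupOf N')
    (((Subgroup.normalizer (Q : Set G)).map j).subgroupOf N')
  rw [Subgroup.relIndex_subgroupOf hN] at h1
  exact h1

variable {G H : Type} [Group G] [Group H]

/-- **Transfer of the local data.** `j : G → H` injective, `5⁷` does not divide `|H|`. -/
theorem loc_push [Finite H] (j : G →* H) (hj : Function.Injective j) (hH : ¬ 5 ^ 7 ∣ Nat.card H) {T : Sylow 5 G}
    {e : (T : Subgroup G) ≃* U5} (h : Loc G T e) :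
    ∃ (T' : Sylow 5 H) (e' : (T' : Subgroup H) ≃* U5), (T' : Subgroup H) = (T : Subgroup G).map j ∧
      (∀ (x : (T : Subgroup G)) (y : (T' : Subgroup H)), (y : H) = j x → e' y = e x) ∧ Loc H T' e' ∧
      QG T' e' = (QG T e).map j ∧ autN T e ∣ autN T' e' := by
  have hcT : Nat.card ((T : Subgroup G).map j) = 5 ^ 6 := by
    rw [Subgroup.card_map_of_injective hj, Nat.card_congr e.toEquiv, card_U5]
  have hp : IsPGroup 5 ((T : Subgroup G).map j) := IsPGroup.of_card hcT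
  have hidx : ¬ 5 ∣ ((T : Subgroup G).map j).index := by
    intro hd
    apply hH
    rw [← ((T : Subgroup G).map j).card_mul_index, hcT, show (5 : ℕ) ^ 7 = 5 ^ 6 * 5 by norm_num]
    exact Nat.mul_dvd_mul_left _ hd
  let T' : Sylow 5 H := hp.toSylow hidx
  let m : (T : Subgroup G) ≃* ((T : Subgroup G).map j) := (T : Subgroup G).equivMapOfInjective j hj
  let e' : (T' : Subgroup H) ≃* U5 := m.symm.trans e
  have hm : ∀ (x : (T : Subgroup G)) (y : (T' : Subgroup H)), (y : H) = j x → e' y = e x := by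
    intro x y hxy
    have : y = m x := Subtype.ext hxy
    rw [this]
    show e (m.symm (m x)) = e x
    rw [MulEquiv.symm_apply_apply]
  have hmem : ∀ x : (T : Subgroup G), j x ∈ (T' : Subgroup H) := fun x => ⟨x, x.2, rfl⟩
  have hsurj : ∀ y : (T' : Subgroup H), ∃ x : (T : Subgroup G), (y : H) = j x := by
    rintro ⟨y, x, hx, rfl⟩
    exact ⟨⟨x, hx⟩, rfl⟩
  -- the transfer of a conjugation statement
  have key : ∀ (g : G) (Z : Subgroup U5),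
      ((∀ x : (T : Subgroup G), e x ∈ A5 → ∃ y : (T : Subgroup G), (y : G) = g * x * g⁻¹ ∧ e y ∈ A5) ∧
        ∃ x y : (T : Subgroup G), e x ∈ Z ∧ (y : G) = g * x * g⁻¹ ∧ e y ∉ Z) →
      ((∀ x : (T' : Subgroup H), e' x ∈ A5 → ∃ y : (T' : Subgroup H), (y : H) = j g * x * (j g)⁻¹ ∧ e' y ∈ A5) ∧
        ∃ x y : (T' : Subgroup H), e' x ∈ Z ∧ (y : H) = j g * x * (j g)⁻¹ ∧ e' y ∉ Z) := by
    rintro g Z ⟨h1, x, y, hx, hxy, hy⟩
    constructor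
    · intro x' hx'
      obtain ⟨x₀, hx₀⟩ := hsurj x'
      rw [hm _ _ hx₀] at hx'
      obtain ⟨y₀, hy₀, hy₀'⟩ := h1 x₀ hx'
      refine ⟨⟨j y₀, hmem y₀⟩, ?_, ?_⟩
      · show j y₀ = _
        rw [hy₀, hx₀, map_mul, map_mul, map_inv]
      · rw [hm y₀ _ rfl]
        exact hy₀'
    · refine ⟨⟨j x, hmem x⟩, ⟨j y, hmem y⟩, ?_, ?_, ?_⟩
      · rw [hm x _ rfl]
        exact hx
      · show j y = j g * j x * (j g)⁻¹
        rw [hxy, map_mul, map_mul, map_inv]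
      · rw [hm y _ rfl]
        exact hy
  have hQ : QG T' e' = (QG T e).map j := by
    ext y
    rw [mem_QG, Subgroup.mem_map]
    constructor
    · rintro ⟨x, hx, rfl⟩
      obtain ⟨x₀, hx₀⟩ := hsurj x
      rw [hm _ _ hx₀] at hx
      exact ⟨x₀, mem_QG.2 ⟨x₀, hx, rfl⟩, hx₀.symm⟩
    · rintro ⟨_, hx, rfl⟩
      obtain ⟨x₀, hx₀, rfl⟩ := mem_QG.1 hx
      exact ⟨⟨j x₀, hmem x₀⟩, by rw [hm x₀ _ rfl]; exact hx₀, rfl⟩
  refine ⟨T', e', rfl, hm, ⟨?_, ?_, ?_⟩, hQ, ?_⟩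
  · obtain ⟨g, hg⟩ := h.a1
    exact ⟨j g, key g _ hg⟩
  · obtain ⟨g, hg⟩ := h.a2
    exact ⟨j g, key g _ hg⟩
  · obtain ⟨g, x, y, hx, hxy, hy⟩ := h.b
    refine ⟨j g, ⟨j x, hmem x⟩, ⟨j y, hmem y⟩, ?_, ?_, ?_⟩
    · rw [hm x _ rfl]
      exact hx
    · show j y = j g * j x * (j g)⁻¹
      rw [hxy, map_mul, map_mul, map_inv]
    · rw [hm y _ rfl]
      exact hy
  · rw [autN, autN, hQ]
    exact relIndex_dvd j hj _

end Cfsg.Agent.H913.Q5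
end

-- part: H35/Q5/EqA
section
/-!
# S5211, block `q = 5` (helper35): `Q_a` is the only subgroup of index 5 of `U5` with a derived subgroup of order at most 5
-/

set_option autoImplicit false

namespace Cfsg.Agent.H35.Q5

open Cfsg Subgroup Cfsg.Agent.H779.G2 Cfsg.Agent.H24.Q5

section comm

variable {K : Type*} [Field K]

theorem comm_coord (u c : GU K) (ha : c.a = 0) (hb : c.b = 0) :
    (u * c * u⁻¹ * c⁻¹).a = 0 ∧ (u * c * u⁻¹ * c⁻¹).b = 0 ∧ (u * c * u⁻¹ * c⁻¹).c = 0 ∧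
      (u * c * u⁻¹ * c⁻¹).d = - (2 * c.c * u.a) := by
  refine ⟨?_, ?_, ?_, ?_⟩
  · simp [ha]
  · simp [hb]
  · simp only [GU.mul_a, GU.mul_b, GU.mul_c, GU.inv_a, GU.inv_b, GU.inv_c, ha, hb]
    ring
  · simp only [GU.mul_a, GU.mul_b, GU.mul_c, GU.mul_d, GU.inv_a, GU.inv_b, GU.inv_c, GU.inv_d, ha, hb]
    ring

theorem comm_coord' (u c : GU K) (ha : c.a = 0) (hb : c.b = 0) (hc : c.c = 0) :
    (u * c * u⁻¹ * c⁻¹).e = - (3 * c.d * u.a) := by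
  simp only [GU.mul_b, GU.mul_c, GU.mul_d, GU.mul_e, GU.inv_a, GU.inv_b, GU.inv_c, GU.inv_d, GU.inv_e, ha, hb, hc]
  ring

theorem pow_coord (w : GU K) (ha : w.a = 0) (hb : w.b = 0) (hc : w.c = 0) (k : ℕ) :
    (w ^ k).a = 0 ∧ (w ^ k).b = 0 ∧ (w ^ k).c = 0 ∧ (w ^ k).d = k * w.d := by
  induction k with
  | zero => simp
  | succ k ih =>
    obtain ⟨h1, h2, h3, h4⟩ := ih
    rw [pow_succ]
    refine ⟨by simp [h1, ha], by simp [h2, hb], by simp [h3, hc, ha], ?_⟩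
    simp only [GU.mul_d, h4, ha]
    push_cast
    ring

end comm

/-- commutators lie in subgroups of index 5 -/
theorem comm_mem {M : Subgroup U5} (hM : M.index = 5) (x y : U5) : x * y * x⁻¹ * y⁻¹ ∈ M := by
  have hcard : Nat.card U5 = 5 ^ 6 := by
    rw [GU.card_eq, Nat.card_eq_fintype_card, ZMod.card]
  have hn : M.Normal := Subgroup.normal_of_index_eq_minFac_card (by rw [hM, hcard, Nat.Prime.pow_minFac (by norm_num) (by norm_num)])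
  have h1 : Nat.card (U5 ⧸ M) = 5 := hM
  have : Fact (Nat.Prime 5) := ⟨by norm_num⟩
  have hcyc : IsCyclic (U5 ⧸ M) := isCyclic_of_prime_card h1
  have hcomm : ∀ a b : U5 ⧸ M, a * b = b * a := by
    let _ := IsCyclic.commGroup (α := U5 ⧸ M)
    exact fun a b => mul_comm a b
  rw [← QuotientGroup.eq_one_iff]
  show (x : U5 ⧸ M) * y * (x : U5 ⧸ M)⁻¹ * (y : U5 ⧸ M)⁻¹ = 1
  rw [hcomm (x : U5 ⧸ M) y, mul_inv_cancel_right, mul_inv_cancel]

/-- **uniqueness of `Q_a`** -/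
theorem eq_A5 (M : Subgroup U5) (hM : M.index = 5) (z : U5) (hz : z ^ 5 = 1)
    (h : ∀ x ∈ M, ∀ y ∈ M, x * y * x⁻¹ * y⁻¹ ∈ zpowers z) : M = A5 := by
  have hcard : Nat.card U5 = 5 ^ 6 := by
    rw [GU.card_eq, Nat.card_eq_fintype_card, ZMod.card]
  have hle : M ≤ A5 := by
    intro u hu
    by_contra hua
    have hua' : u.a ≠ 0 := hua
    -- the commutators
    obtain ⟨xa, hxa⟩ : ∃ xa : U5, xa = ⟨1, 0, 0, 0, 0, 0⟩ := ⟨_, rfl⟩
    obtain ⟨xb, hxb⟩ : ∃ xb : U5, xb = ⟨0, 1, 0, 0, 0, 0⟩ := ⟨_, rfl⟩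
    obtain ⟨c1, hc1⟩ : ∃ c1 : U5, c1 = xa * xb * xa⁻¹ * xb⁻¹ := ⟨_, rfl⟩
    have c1M : c1 ∈ M := hc1 ▸ comm_mem hM xa xb
    have c1a : c1.a = 0 := by rw [hc1, hxa, hxb]; decide +kernel
    have c1b : c1.b = 0 := by rw [hc1, hxa, hxb]; decide +kernel
    have c1c : c1.c ≠ 0 := by rw [hc1, hxa, hxb]; decide +kernel
    obtain ⟨c2, hc2⟩ : ∃ c2 : U5, c2 = xa * c1 * xa⁻¹ * c1⁻¹ := ⟨_, rfl⟩
    have c2M : c2 ∈ M := hc2 ▸ comm_mem hM xa c1
    obtain ⟨c2a, c2b, c2c, c2d⟩ : c2.a = 0 ∧ c2.b = 0 ∧ c2.c = 0 ∧ c2.d = - (2 * c1.c * xa.a) :=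
      hc2 ▸ comm_coord xa c1 c1a c1b
    have hxa1 : xa.a = 1 := by rw [hxa]
    have c2d' : c2.d ≠ 0 := by
      rw [c2d, hxa1, mul_one, neg_ne_zero]
      exact mul_ne_zero (by decide) c1c
    obtain ⟨w1, hw1⟩ : ∃ w1 : U5, w1 = u * c1 * u⁻¹ * c1⁻¹ := ⟨_, rfl⟩
    obtain ⟨w2, hw2⟩ : ∃ w2 : U5, w2 = u * c2 * u⁻¹ * c2⁻¹ := ⟨_, rfl⟩
    obtain ⟨w1a, w1b, w1c, w1d⟩ : w1.a = 0 ∧ w1.b = 0 ∧ w1.c = 0 ∧ w1.d = - (2 * c1.c * u.a) :=
      hw1 ▸ comm_coord u c1 c1a c1b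
    obtain ⟨w2a, w2b, w2c, w2d⟩ : w2.a = 0 ∧ w2.b = 0 ∧ w2.c = 0 ∧ w2.d = - (2 * c2.c * u.a) :=
      hw2 ▸ comm_coord u c2 c2a c2b
    have w2e : w2.e = - (3 * c2.d * u.a) := hw2 ▸ comm_coord' u c2 c2a c2b c2c
    have w1d' : w1.d ≠ 0 := by
      rw [w1d, neg_ne_zero]
      exact mul_ne_zero (mul_ne_zero (by decide) c1c) hua'
    have w2e' : w2.e ≠ 0 := by
      rw [w2e, neg_ne_zero]
      exact mul_ne_zero (mul_ne_zero (by decide) c2d') hua'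
    have w2d' : w2.d = 0 := by rw [w2d, c2c]; ring
    have hz1 : w1 ∈ zpowers z := hw1 ▸ h u hu c1 c1M
    have hz2 : w2 ∈ zpowers z := hw2 ▸ h u hu c2 c2M
    have hw1ne : w1 ≠ 1 := by
      rintro h1
      rw [h1] at w1d'
      exact w1d' rfl
    -- `w2` is a power of `w1`
    have hzo : Nat.card (zpowers z) = 5 := by
      have h1 : orderOf z ∣ 5 := orderOf_dvd_of_pow_eq_one hz
      rw [Nat.card_zpowers]
      rcases (Nat.dvd_prime (by norm_num : Nat.Prime 5)).1 h1 with h2 | h2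
      · exfalso
        rw [orderOf_eq_one_iff] at h2
        rw [h2] at hz1
        simp only [zpowers_one_eq_bot, mem_bot] at hz1
        exact hw1ne hz1
      · exact h2
    have hzz : zpowers w1 = zpowers z := by
      have h5 : (⟨w1, hz1⟩ : ↥(zpowers z)) ≠ 1 := fun h6 => hw1ne (congrArg Subtype.val h6)
      have : Fact (Nat.Prime 5) := ⟨by norm_num⟩
      have h7 := zpowers_eq_top_of_prime_card hzo h5
      apply le_antisymm
      · rw [zpowers_le]; exact hz1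
      · intro x hx
        have h8 : (⟨x, hx⟩ : ↥(zpowers z)) ∈ zpowers (⟨w1, hz1⟩ : ↥(zpowers z)) := by rw [h7]; trivial
        obtain ⟨k, hk⟩ := h8
        exact ⟨k, congrArg Subtype.val hk⟩
    classical
    rw [← hzz, mem_zpowers_iff_mem_range_orderOf] at hz2
    simp only [Finset.mem_image, Finset.mem_range] at hz2
    obtain ⟨k, hk, hk2⟩ := hz2
    have hord : orderOf w1 = 5 := by rw [← Nat.card_zpowers, hzz, hzo]
    rw [hord] at hk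
    have h9 := (pow_coord w1 w1a w1b w1c k).2.2.2
    rw [hk2, w2d'] at h9
    have h10 : (k : ZMod 5) = 0 := (mul_eq_zero.1 h9.symm).resolve_right w1d'
    rw [ZMod.natCast_eq_zero_iff] at h10
    have h11 : k = 0 := by
      rcases Nat.eq_zero_or_pos k with h12 | h12
      · exact h12
      · have := Nat.le_of_dvd h12 h10
        omega
    rw [h11, pow_zero] at hk2
    rw [← hk2] at w2e'
    exact w2e' rfl
  have hcM : Nat.card M * 5 = 5 ^ 6 := by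
    have h1 := Subgroup.card_mul_index M
    rw [hM, hcard] at h1
    exact h1
  have hcA : Nat.card A5 = 5 ^ 5 := by
    rw [H103.GT.card_Qa, Nat.card_eq_fintype_card, ZMod.card]
  exact Subgroup.eq_of_le_of_card_ge hle (by rw [hcA]; omega)

end Cfsg.Agent.H35.Q5
end

private theorem dce_356eab58d536 : _root_.True := by
  try have : _root_.True := by simp only [_root_.Cfsg.Agent.H689.Q5.ZZ.congr_simp]
  try have : _root_.True := by simp only [_root_.Cfsg.Agent.H24.Q5.QG.eq_1]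
  try have : _root_.True := by simp only [_root_.Cfsg.Agent.H689.Q5.ZZ.eq_1]
  try have : _root_.True := by simp only [_root_.Cfsg.Agent.H24.Q5.autN.eq_1]
  try have : _root_.True := by simp only [_root_.Cfsg.Agent.H689.Q5.nn.congr_simp]
  try have : _root_.True := by simp only [_root_.Cfsg.Agent.H689.Q5.nn.eq_1]
  try have : _root_.True := by simp only [_root_.Cfsg.Agent.H689.Q5.tau.eq_1]
  exact _root_.True.intro
end
end

-- part: H650/GU/RowFive_mg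
section
set_option linter.all false
open scoped Cfsg.Agent.FastGrp

-- part: H650/GU/Real
section
/-!
# S5211: (REAL), the fusion systems of `G₂(K) ⋊ D` (helper650)
-/

set_option autoImplicit false

namespace Cfsg.Agent.H650.GR

open Cfsg Cfsg.FusionSystem Cfsg.Lie Cfsg.Agent.H756.PU Cfsg.Agent.H779.G2 Cfsg.Agent.H650.GA Cfsg.Agent.H781
open Cfsg.Agent.ChevalleyStructure.Elts Cfsg.Agent.ChevalleyStructure.NConj
open Cfsg.Agent.ChevalleyStructure.WordCheck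
open Cfsg.Agent.Hexagon.G2Pos Cfsg.Agent.Hexagon.G2Side Cfsg.Agent.Hexagon.Words

open scoped Pointwise

universe u

variable {K : Type u} [Field K]

/-! ### the group of pairs -/

/-- the pairs of automorphisms -/
def S0 (x : MulAut (GU K) × MulAut ↥(chevG2.group K)) : Prop := ∃ s t τ, IsTor x.1 s t τ ∧ IsTG x.2 s t τ

def S1 (x : MulAut (GU K) × MulAut ↥(chevG2.group K)) : Prop := IsGr x.1 ∧ IsGG x.2

variable (K) in
def TG : Subgroup (MulAut (GU K) × MulAut ↥(chevG2.group K)) := Subgroup.closure ({x | S0 x} ∪ {x | S1 x})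

theorem S0.mul {x y : MulAut (GU K) × MulAut ↥(chevG2.group K)} (hx : S0 x) (hy : S0 y) : S0 (x * y) := by
  obtain ⟨s, t, τ, h, k⟩ := hx
  obtain ⟨s', t', τ', h', k'⟩ := hy
  exact ⟨_, _, _, torMul h h', k.mul k'⟩

theorem S0.inv {x : MulAut (GU K) × MulAut ↥(chevG2.group K)} (hx : S0 x) : S0 x⁻¹ := by
  obtain ⟨s, t, τ, h, k⟩ := hx
  exact ⟨_, _, _, torInv h, k.inv h.ne1 h.ne2⟩

theorem S0.one : S0 (1 : MulAut (GU K) × MulAut ↥(chevG2.group K)) := ⟨_, _, _, isTor_one, isTG_one⟩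

theorem S1.sq [Finite K] {x : MulAut (GU K) × MulAut ↥(chevG2.group K)} (hx : S1 x) : S0 (x * x) := by
  obtain ⟨τ, hτ⟩ := exists_cube hx.1.three
  exact ⟨_, _, _, grSq hx.1 hτ, hx.2.sq hτ⟩

theorem S1.uniq {x y : MulAut (GU K) × MulAut ↥(chevG2.group K)} (hx : S1 x) (hy : S1 y) : x = y :=
  Prod.ext (grUniq hx.1 hy.1) (hx.2.uniq hy.2)

theorem S1.comm {x y : MulAut (GU K) × MulAut ↥(chevG2.group K)} (hx : S1 x) (hy : S0 y) :
    ∃ z, S0 z ∧ x * y = z * x := by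
  obtain ⟨s, t, τ, h, k⟩ := hy
  obtain ⟨z1, hz1⟩ := exists_isTor t (s ^ 3) τ h.ne2 (pow_ne_zero _ h.ne1)
  obtain ⟨z2, hz2⟩ := exists_isTG (K := K) h.ne2 (pow_ne_zero 3 h.ne1) τ
  exact ⟨(z1, z2), ⟨_, _, _, hz1, hz2⟩, Prod.ext (grComm hx.1 h hz1) (hx.2.comm k hz2)⟩

theorem TG_cases [Finite K] {x : MulAut (GU K) × MulAut ↥(chevG2.group K)} (hx : x ∈ TG K) :
    S0 x ∨ ∃ y z, S0 y ∧ S1 z ∧ x = y * z := by
  have key : ∀ x y : MulAut (GU K) × MulAut ↥(chevG2.group K), (S0 x ∨ ∃ y z, S0 y ∧ S1 z ∧ x = y * z) →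
      (S0 y ∨ ∃ y' z, S0 y' ∧ S1 z ∧ y = y' * z) → (S0 (x * y) ∨ ∃ y' z, S0 y' ∧ S1 z ∧ x * y = y' * z) := by
    rintro x y (hx | ⟨x', z, hx, hz, rfl⟩) (hy | ⟨y', z', hy, hz', rfl⟩)
    · exact Or.inl (hx.mul hy)
    · exact Or.inr ⟨_, _, hx.mul hy, hz', by rw [mul_assoc]⟩
    · obtain ⟨w, hw, e⟩ := hz.comm hy
      exact Or.inr ⟨_, _, hx.mul hw, hz, by rw [mul_assoc, e, mul_assoc]⟩
    · obtain ⟨w, hw, e⟩ := hz.comm hy
      obtain rfl := hz.uniq hz'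
      have e2 : x' * z * (y' * z) = (x' * w) * (z * z) := by
        rw [mul_assoc, ← mul_assoc z, e]; group
      rw [e2]
      exact Or.inl ((hx.mul hw).mul hz.sq)
  induction hx using Subgroup.closure_induction with
  | mem x hx =>
    rcases hx with h | h
    · exact Or.inl h
    · exact Or.inr ⟨1, x, S0.one, h, (one_mul x).symm⟩
  | one => exact Or.inl S0.one
  | mul x y _ _ hx hy => exact key x y hx hy
  | inv x _ hx =>
    rcases hx with hx | ⟨y, z, hy, hz, rfl⟩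
    · exact Or.inl hx.inv
    · have e : z⁻¹ = (z * z)⁻¹ * z := by group
      rw [mul_inv_rev, e, mul_assoc]
      exact key _ _ (Or.inl hz.sq.inv) (key _ _ (Or.inr ⟨1, z, S0.one, hz, (one_mul z).symm⟩) (Or.inl hy.inv))

theorem TG_inj [Finite K] {x : MulAut (GU K) × MulAut ↥(chevG2.group K)} (hx : x ∈ TG K) (h1 : x.1 = 1) : x = 1 := by
  rcases TG_cases hx with ⟨s, t, τ, h, k⟩ | ⟨y, z, ⟨s, t, τ, h, k⟩, hz, rfl⟩
  · rw [h1] at h
    have ha : s = 1 := by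
      have := h.a (e1 1)
      simp only [MulAut.one_apply, e1, map_one, mul_one] at this
      exact this.symm
    have hb : t = 1 := by
      have := h.b (e2 1)
      simp only [MulAut.one_apply, e2, map_one, mul_one] at this
      exact this.symm
    have hτ : τ = RingEquiv.refl K := by
      ext u
      have := h.a (e1 u)
      simp only [MulAut.one_apply, e1, ha, one_mul] at this
      exact this.symm
    subst ha hb hτ
    exact Prod.ext h1 (k.uniq isTG_one)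
  · exfalso
    have h2 := congrArg (fun α : MulAut (GU K) => (α (e1 1)).a) h1
    have h3 : ((y * z).1 (e1 (1 : K))).a = s * τ 0 := by
      show (y.1 (z.1 (e1 1))).a = _
      rw [h.a, hz.1.a]
      rfl
    rw [map_zero, mul_zero] at h3
    have h4 : (((1 : MulAut (GU K)) (e1 (1 : K)))).a = 1 := rfl
    exact one_ne_zero (h4.symm.trans (h2.symm.trans h3))

theorem TG_cov {x : MulAut (GU K) × MulAut ↥(chevG2.group K)} (hx : x ∈ TG K) (g : GU K) :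
    x.2 (ι K g) = ι K (x.1 g) := by
  induction hx using Subgroup.closure_induction generalizing g with
  | mem x hx =>
    rcases hx with ⟨s, t, τ, h, k⟩ | h
    · exact cov_tor h k g
    · exact cov_gr h.1 h.2 g
  | one => rfl
  | mul x y _ _ hx hy =>
    show x.2 (y.2 (ι K g)) = _
    rw [hy, hx]
    rfl
  | inv x _ hx =>
    show x.2⁻¹ (ι K g) = ι K (x.1⁻¹ g)
    apply x.2.injective
    rw [MulAut.apply_inv_self, hx, MulAut.apply_inv_self]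

theorem TG_surj [Finite K] {α : MulAut (GU K)} (hα : α ∈ TT K) : ∃ β, (α, β) ∈ TG K := by
  induction hα using Subgroup.closure_induction with
  | mem x hx =>
    rcases hx with ⟨s, t, τ, h⟩ | h
    · obtain ⟨β, hβ⟩ := exists_isTG (K := K) h.ne1 h.ne2 τ
      exact ⟨β, Subgroup.subset_closure (Or.inl ⟨s, t, τ, h, hβ⟩)⟩
    · obtain ⟨β, hβ⟩ := exists_isGG (K := K) h.three
      exact ⟨β, Subgroup.subset_closure (Or.inr ⟨h, hβ⟩)⟩
  | one => exact ⟨1, (TG K).one_mem⟩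
  | mul x y _ _ hx hy =>
    obtain ⟨β, hβ⟩ := hx
    obtain ⟨β', hβ'⟩ := hy
    exact ⟨β * β', (TG K).mul_mem hβ hβ'⟩
  | inv x _ hx =>
    obtain ⟨β, hβ⟩ := hx
    exact ⟨β⁻¹, (TG K).inv_mem hβ⟩

/-! ### Weyl elements -/

def nw (r r' : ℕ) : List (ℕ × PExpr) := [(r, .const 1), (r', .const (-1)), (r, .const 1)]

def nn (r r' : ℕ) : ↥(chevG2.group K) := xs r 1 * (xs r' (-1) * xs r 1)

theorem n_conj {r r' s s' : ℕ} {f : ℤ} (h : check chevG2 0 0 1 (xw (nw r r' ++ ([(s, .var 0)] : List (ℕ × Cfsg.Agent.ChevalleyStructure.WordCheck.PExpr))))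
    (xw ((s', .mul (.const f) (.var 0)) :: nw r r')) = true) (t : K) :
    nn r r' * xs s t * (nn r r')⁻¹ = (xs s' ((f : K) * t) : ↥(chevG2.group K)) := by
  rw [mul_inv_eq_iff_eq_mul]
  apply Subtype.ext
  have h1 := gval_eq hG2 (rho t t) 1 h
  have h2 : gval hG2 (rho t t) (nw r r') = ((nn r r' : ↥(chevG2.group K)) : GL chevG2.Idx K) := by
    unfold nw nn
    rw [gval_cons, gval_cons, gval_cons, gval_nil, mul_one, Subgroup.coe_mul, Subgroup.coe_mul, coe_xs, coe_xs]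
    simp [PExpr.denote]
  rw [gval_append, gval_cons, gval_nil, mul_one, gval_cons, h2] at h1
  rw [Subgroup.coe_mul, Subgroup.coe_mul, coe_xs, coe_xs]
  exact h1

theorem map_isWa {γ : MulAut (Qa K)} (h : IsWa γ) (e : Qa K) :
    nn 7 4 * ι K (e : GU K) * (nn 7 4)⁻¹ = ι K ((γ e : Qa K) : GU K) := by
  let q2 : K → Qa K := fun t => ⟨e2 t, rfl⟩
  let q3 : K → Qa K := fun t => ⟨e3 t, rfl⟩
  let q4 : K → Qa K := fun t => ⟨e4 t, rfl⟩
  let q5 : K → Qa K := fun t => ⟨e5 t, rfl⟩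
  let q6 : K → Qa K := fun t => ⟨e6 t, rfl⟩
  have g2 : ∀ t, ((γ (q2 t) : Qa K) : GU K) = e5 (-t) := fun t => by
    ext
    · exact (γ (q2 t)).2
    · rw [h.b]; rfl
    · rw [h.c]; show -(0 : K) = 0; ring
    · rw [h.d]; rfl
    · rw [h.e]; rfl
    · rw [h.f]; show (0 : K) + t * 0 - 3 * 0 * 0 = 0; ring
  have g3 : ∀ t, ((γ (q3 t) : Qa K) : GU K) = e4 t := fun t => by
    ext
    · exact (γ (q3 t)).2
    · rw [h.b]; rfl
    · rw [h.c]; show -(0 : K) = 0; ring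
    · rw [h.d]; rfl
    · rw [h.e]; show -(0 : K) = 0; ring
    · rw [h.f]; show (0 : K) + 0 * 0 - 3 * t * 0 = 0; ring
  have g4 : ∀ t, ((γ (q4 t) : Qa K) : GU K) = e3 (-t) := fun t => by
    ext
    · exact (γ (q4 t)).2
    · rw [h.b]; rfl
    · rw [h.c]; rfl
    · rw [h.d]; rfl
    · rw [h.e]; show -(0 : K) = 0; ring
    · rw [h.f]; show (0 : K) + 0 * 0 - 3 * 0 * t = 0; ring
  have g5 : ∀ t, ((γ (q5 t) : Qa K) : GU K) = e2 t := fun t => by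
    ext
    · exact (γ (q5 t)).2
    · rw [h.b]; rfl
    · rw [h.c]; show -(0 : K) = 0; ring
    · rw [h.d]; rfl
    · rw [h.e]; show -(0 : K) = 0; ring
    · rw [h.f]; show (0 : K) + 0 * t - 3 * 0 * 0 = 0; ring
  have g6 : ∀ t, ((γ (q6 t) : Qa K) : GU K) = e6 t := fun t => by
    ext
    · exact (γ (q6 t)).2
    · rw [h.b]; rfl
    · rw [h.c]; show -(0 : K) = 0; ring
    · rw [h.d]; rfl
    · rw [h.e]; show -(0 : K) = 0; ring
    · rw [h.f]; show t + 0 * 0 - 3 * 0 * 0 = t; ring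
  have key : ∀ x y : Qa K, nn 7 4 * ι K (x : GU K) * (nn 7 4)⁻¹ = ι K ((γ x : Qa K) : GU K) →
      nn 7 4 * ι K (y : GU K) * (nn 7 4)⁻¹ = ι K ((γ y : Qa K) : GU K) →
      nn 7 4 * ι K ((x * y : Qa K) : GU K) * (nn 7 4)⁻¹ = ι K ((γ (x * y) : Qa K) : GU K) := by
    intro x y hx hy
    rw [map_mul γ, Subgroup.coe_mul, Subgroup.coe_mul, map_mul, map_mul, ← hx, ← hy]
    group
  have he : e = q5 (e : GU K).e * q4 (e : GU K).d * q3 (e : GU K).c * q2 (e : GU K).b *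
      q6 ((e : GU K).f - 3 * (e : GU K).d * (e : GU K).c + (e : GU K).e * (e : GU K).b) := by
    apply Subtype.ext
    have h0 : (e : GU K).a = 0 := e.2
    have h1 := eq_prod (e : GU K)
    rw [h0] at h1
    have h2 : (e1 (0 : K)) = 1 := rfl
    rw [h2, one_mul] at h1
    exact h1
  rw [he]
  have c2 := fun t : K => n_conj (K := K) (r := 7) (r' := 4) (s := 6) (s' := 10) (f := 1) (by decide +kernel) t
  have c3 := fun t : K => n_conj (K := K) (r := 7) (r' := 4) (s := 8) (s' := 9) (f := 1) (by decide +kernel) t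
  have c4 := fun t : K => n_conj (K := K) (r := 7) (r' := 4) (s := 9) (s' := 8) (f := -1) (by decide +kernel) t
  have c5 := fun t : K => n_conj (K := K) (r := 7) (r' := 4) (s := 10) (s' := 6) (f := -1) (by decide +kernel) t
  have c6 := fun t : K => n_conj (K := K) (r := 7) (r' := 4) (s := 11) (s' := 11) (f := 1) (by decide +kernel) t
  refine key _ _ (key _ _ (key _ _ (key _ _ ?_ ?_) ?_) ?_) ?_
  · rw [g5]; show nn 7 4 * ι K (e5 _) * (nn 7 4)⁻¹ = _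
    rw [ι5, ι2, c5]; congr 1; push_cast; ring
  · rw [g4]; show nn 7 4 * ι K (e4 _) * (nn 7 4)⁻¹ = _
    rw [ι4, ι3, c4]; congr 1; push_cast; ring
  · rw [g3]; show nn 7 4 * ι K (e3 _) * (nn 7 4)⁻¹ = _
    rw [ι3, ι4, c3]; congr 1; push_cast; ring
  · rw [g2]; show nn 7 4 * ι K (e2 _) * (nn 7 4)⁻¹ = _
    rw [ι2, ι5, c2]; congr 1; push_cast; ring
  · rw [g6]; show nn 7 4 * ι K (e6 _) * (nn 7 4)⁻¹ = _
    rw [ι6, c6]; congr 1; push_cast; ring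

theorem map_isWb {γ : MulAut (Qb K)} (h : IsWb γ) (e : Qb K) :
    nn 6 5 * ι K (e : GU K) * (nn 6 5)⁻¹ = ι K ((γ e : Qb K) : GU K) := by
  let q1 : K → Qb K := fun t => ⟨e1 t, rfl⟩
  let q3 : K → Qb K := fun t => ⟨e3 t, rfl⟩
  let q4 : K → Qb K := fun t => ⟨e4 t, rfl⟩
  let q5 : K → Qb K := fun t => ⟨e5 t, rfl⟩
  let q6 : K → Qb K := fun t => ⟨e6 t, rfl⟩
  have g1 : ∀ t, ((γ (q1 t) : Qb K) : GU K) = e3 t := fun t => by
    ext
    · rw [h.a]; show -(0 : K) = 0; ring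
    · exact (γ (q1 t)).2
    · rw [h.c]; rfl
    · rw [h.d]; show (0 : K) - 2 * t * 0 = 0; ring
    · rw [h.e]; show -(0 : K) + 3 * t * 0 ^ 2 = 0; ring
    · rw [h.f]; show (0 : K) - 3 * t ^ 2 * 0 = 0; ring
  have g3 : ∀ t, ((γ (q3 t) : Qb K) : GU K) = e1 (-t) := fun t => by
    ext
    · rw [h.a]; rfl
    · exact (γ (q3 t)).2
    · rw [h.c]; rfl
    · rw [h.d]; show (0 : K) - 2 * 0 * t = 0; ring
    · rw [h.e]; show -(0 : K) + 3 * 0 * t ^ 2 = 0; ring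
    · rw [h.f]; show (0 : K) - 3 * 0 ^ 2 * t = 0; ring
  have g4 : ∀ t, ((γ (q4 t) : Qb K) : GU K) = e4 t := fun t => by
    ext
    · rw [h.a]; show -(0 : K) = 0; ring
    · exact (γ (q4 t)).2
    · rw [h.c]; rfl
    · rw [h.d]; show t - 2 * 0 * 0 = t; ring
    · rw [h.e]; show -(0 : K) + 3 * 0 * 0 ^ 2 = 0; ring
    · rw [h.f]; show (0 : K) - 3 * 0 ^ 2 * 0 = 0; ring
  have g5 : ∀ t, ((γ (q5 t) : Qb K) : GU K) = e6 t := fun t => by
    ext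
    · rw [h.a]; show -(0 : K) = 0; ring
    · exact (γ (q5 t)).2
    · rw [h.c]; rfl
    · rw [h.d]; show (0 : K) - 2 * 0 * 0 = 0; ring
    · rw [h.e]; show -(0 : K) + 3 * 0 * 0 ^ 2 = 0; ring
    · rw [h.f]; show t - 3 * 0 ^ 2 * 0 = t; ring
  have g6 : ∀ t, ((γ (q6 t) : Qb K) : GU K) = e5 (-t) := fun t => by
    ext
    · rw [h.a]; show -(0 : K) = 0; ring
    · exact (γ (q6 t)).2
    · rw [h.c]; rfl
    · rw [h.d]; show (0 : K) - 2 * 0 * 0 = 0; ring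
    · rw [h.e]; show -t + 3 * 0 * 0 ^ 2 = -t; ring
    · rw [h.f]; show (0 : K) - 3 * 0 ^ 2 * 0 = 0; ring
  have key : ∀ x y : Qb K, nn 6 5 * ι K (x : GU K) * (nn 6 5)⁻¹ = ι K ((γ x : Qb K) : GU K) →
      nn 6 5 * ι K (y : GU K) * (nn 6 5)⁻¹ = ι K ((γ y : Qb K) : GU K) →
      nn 6 5 * ι K ((x * y : Qb K) : GU K) * (nn 6 5)⁻¹ = ι K ((γ (x * y) : Qb K) : GU K) := by
    intro x y hx hy
    rw [map_mul γ, Subgroup.coe_mul, Subgroup.coe_mul, map_mul, map_mul, ← hx, ← hy]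
    group
  have he : e = q1 (e : GU K).a * (q5 (e : GU K).e * q4 (e : GU K).d * q3 (e : GU K).c *
      q6 ((e : GU K).f - 3 * (e : GU K).d * (e : GU K).c)) := by
    apply Subtype.ext
    have h0 : (e : GU K).b = 0 := e.2
    have h1 := eq_prod (e : GU K)
    rw [h0] at h1
    have h2 : (e2 (0 : K)) = 1 := rfl
    rw [h2, mul_one, mul_zero, add_zero] at h1
    exact h1
  rw [he]
  have c1 := fun t : K => n_conj (K := K) (r := 6) (r' := 5) (s := 7) (s' := 8) (f := 1) (by decide +kernel) t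
  have c3 := fun t : K => n_conj (K := K) (r := 6) (r' := 5) (s := 8) (s' := 7) (f := -1) (by decide +kernel) t
  have c4 := fun t : K => n_conj (K := K) (r := 6) (r' := 5) (s := 9) (s' := 9) (f := 1) (by decide +kernel) t
  have c5 := fun t : K => n_conj (K := K) (r := 6) (r' := 5) (s := 10) (s' := 11) (f := 1) (by decide +kernel) t
  have c6 := fun t : K => n_conj (K := K) (r := 6) (r' := 5) (s := 11) (s' := 10) (f := -1) (by decide +kernel) t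
  refine key _ _ ?_ (key _ _ (key _ _ (key _ _ ?_ ?_) ?_) ?_)
  · rw [g1]; show nn 6 5 * ι K (e1 _) * (nn 6 5)⁻¹ = _
    rw [ι1, ι3, c1]; congr 1; push_cast; ring
  · rw [g5]; show nn 6 5 * ι K (e5 _) * (nn 6 5)⁻¹ = _
    rw [ι5, ι6, c5]; congr 1; push_cast; ring
  · rw [g4]; show nn 6 5 * ι K (e4 _) * (nn 6 5)⁻¹ = _
    rw [ι4, c4]; congr 1; push_cast; ring
  · rw [g3]; show nn 6 5 * ι K (e3 _) * (nn 6 5)⁻¹ = _
    rw [ι3, ι1, c3]; congr 1; push_cast; ring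
  · rw [g6]; show nn 6 5 * ι K (e6 _) * (nn 6 5)⁻¹ = _
    rw [ι6, ι5, c6]; congr 1; push_cast; ring

/-! ### the Sylow subgroup and its normalizer -/

theorem not_dvd_index [Finite K] {p : ℕ} [Fact p.Prime] [CharP K p] : ¬ p ∣ (ι K).range.index := by
  have := Fintype.ofFinite K
  have hp : p.Prime := Fact.out
  obtain ⟨n, -, hn⟩ := FiniteField.card K p
  have hq : Nat.card K = p ^ (n : ℕ) := by rw [Nat.card_eq_fintype_card, hn]
  have : Finite ↥(chevG2.group K) := by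
    have : Finite (GL chevG2.Idx K) := inferInstance
    infer_instance
  have hG : Nat.card ↥(chevG2.group K) = Nat.card K ^ 6 * (Nat.card K ^ 2 - 1) * (Nat.card K ^ 6 - 1) :=
    Cfsg.Agent.S1059.result (F := K) Nat.card_eq_fintype_card.symm
  have hn0 : (n : ℕ) ≠ 0 := n.ne_zero
  have hcop : ∀ k : ℕ, k ≠ 0 → ¬ p ∣ Nat.card K ^ k - 1 := by
    intro k hk h
    have h1 : p ∣ Nat.card K ^ k := by
      rw [hq, ← pow_mul]
      exact dvd_pow_self p (mul_ne_zero hn0 hk)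
    have h2 : 1 ≤ Nat.card K ^ k := Nat.one_le_pow _ _ Nat.card_pos
    have h3 : p ∣ 1 := (Nat.dvd_sub h1 h).trans (by rw [Nat.sub_sub_self h2])
    exact hp.one_lt.ne' (Nat.dvd_one.1 h3)
  have h4 := (ι K).range.card_mul_index
  rw [range_ι] at h4 ⊢
  rw [G.card_range, hG, mul_assoc] at h4
  have h5 := Nat.eq_of_mul_eq_mul_left (pow_pos Nat.card_pos 6) h4
  rw [h5, hp.dvd_mul]
  rintro (h | h)
  · exact hcop 2 (by norm_num) h
  · exact hcop 6 (by norm_num) h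

theorem map_range : (ι K).range.map (chevG2.group K).subtype = chevG2.posUnipotent K := by
  apply le_antisymm
  · rintro _ ⟨_, ⟨x, rfl⟩, rfl⟩
    rw [eq_prod x]
    have hpos : ∀ r : ℕ, (r = 6 ∨ r = 7 ∨ r = 8 ∨ r = 9 ∨ r = 10 ∨ r = 11) → ∀ t : K,
        ((xs r t : ↥(chevG2.group K)) : GL chevG2.Idx K) ∈ chevG2.posUnipotent K := by
      intro r hr t
      refine xG_mem_posUnipotent hG2 ?_ t
      rcases hr with rfl | rfl | rfl | rfl | rfl | rfl <;> decide +kernel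
    simp only [map_mul, ι1, ι2, ι3, ι4, ι5, ι6]
    refine Subgroup.mul_mem _ (hpos _ (by norm_num) _) (Subgroup.mul_mem _ (Subgroup.mul_mem _ (Subgroup.mul_mem _
      (Subgroup.mul_mem _ (hpos _ (by norm_num) _) (hpos _ (by norm_num) _)) (hpos _ (by norm_num) _))
      (hpos _ (by norm_num) _)) (hpos _ (by norm_num) _))
  · rw [range_ι]
    exact G.posUnipotent_le

theorem radical_empty : chevG2.unipotentRadical K ∅ = chevG2.posUnipotent K := by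
  have h : ∀ r < 12, ∃ i < 2, (chevG2.coroot.getD r #[]).getD i 0 ≠ 0 := by decide +kernel
  apply le_antisymm
  · unfold ChevalleyDatum.unipotentRadical
    rw [Subgroup.closure_le]
    rintro g ⟨r, t, h1, -, h3⟩
    exact Subgroup.subset_closure ⟨r, t, h1, h3⟩
  · unfold ChevalleyDatum.posUnipotent
    rw [Subgroup.closure_le]
    rintro g ⟨r, t, h1, h3⟩
    refine Subgroup.subset_closure ⟨r, t, h1, ?_, h3⟩
    rintro ⟨h4, h5⟩
    obtain ⟨i, hi, h6⟩ := h r h4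
    exact h6 (h5 i hi (Set.notMem_empty i))

/-- the normalizer of the Sylow subgroup -/
theorem nrm [Finite K] {g : ↥(chevG2.group K)} (hg : ∀ x : GU K, g * ι K x * g⁻¹ ∈ (ι K).range) :
    ∃ (u : GU K) (s t : K) (α : MulAut (GU K)), IsTor α s t (RingEquiv.refl K) ∧
      ∀ x : GU K, g * ι K x * g⁻¹ = ι K (u * α x * u⁻¹) := by
  have hfin : Finite (GL chevG2.Idx K) := inferInstance
  have h1 : (g : GL chevG2.Idx K) ∈ Subgroup.normalizer (chevG2.posUnipotent K : Set (GL chevG2.Idx K)) := by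
    have : Finite ↥(chevG2.posUnipotent K : Set (GL chevG2.Idx K)) := inferInstance
    apply Subgroup.mem_normalizer_fintype
    intro n hn
    rw [← map_range] at hn ⊢
    obtain ⟨_, ⟨x, rfl⟩, rfl⟩ := hn
    exact ⟨g * ι K x * g⁻¹, hg x, rfl⟩
  have h2 : (g : GL chevG2.Idx K) ∈ chevG2.borelSubgroup K := by
    have h3 : (g : GL chevG2.Idx K) ∈ chevG2.parabolicSubgroup K ∅ := by
      rw [← Cfsg.Agent.S1049.result (F := K) chevG2 hG2 ∅ (fun j hj => absurd hj (Set.notMem_empty j))]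
      refine ⟨?_, g.2⟩
      rw [radical_empty]
      exact h1
    have h4 : chevG2.parabolicSubgroup K ∅ ≤ chevG2.borelSubgroup K := by
      refine sup_le le_rfl ((Subgroup.closure_le _).2 ?_)
      rintro x ⟨j, hj, -⟩
      exact absurd hj (Set.notMem_empty j)
    exact h4 h3
  have h5 : (chevG2.borelSubgroup K : Set (GL chevG2.Idx K)) =
      (chevG2.posUnipotent K : Set (GL chevG2.Idx K)) * (chevG2.diagonalSubgroup K : Set (GL chevG2.Idx K)) :=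
    Subgroup.coe_mul_of_right_le_normalizer_left _ _ (Cfsg.Agent.S1036.result (F := K) chevG2 hG2).1
  have h6 : (g : GL chevG2.Idx K) ∈ (chevG2.borelSubgroup K : Set (GL chevG2.Idx K)) := h2
  rw [h5] at h6
  obtain ⟨v, hv, h, hh, hvh⟩ := h6
  have hv' : v ∈ (ι K).range.map (chevG2.group K).subtype := by rw [map_range]; exact hv
  obtain ⟨_, ⟨u, rfl⟩, hu⟩ := hv'
  obtain ⟨c, hc, hw⟩ := Cfsg.Agent.S1034.result (F := K) chevG2 hG2 h hh
  have hc0 := hc 0 (by decide)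
  have hc1 := hc 1 (by decide)
  have hw' : (h : Matrix chevG2.Idx chevG2.Idx K) =
      chevG2.hMat K (chevG2.simple 0) (c 0) * chevG2.hMat K (chevG2.simple 1) (c 1) := by
    rw [hw]
    have e : (List.range chevG2.rank) = [0, 1] := rfl
    rw [e, List.flatMap_cons, List.flatMap_cons, List.flatMap_nil, List.append_nil, wordMat_append]
    rfl
  let s := c 0 ^ 2 * (c 1)⁻¹
  let t := (c 0 ^ 3)⁻¹ * c 1 ^ 2
  have hs : s ≠ 0 := mul_ne_zero (pow_ne_zero _ hc0) (inv_ne_zero hc1)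
  have ht : t ≠ 0 := mul_ne_zero (inv_ne_zero (pow_ne_zero _ hc0)) (pow_ne_zero _ hc1)
  have k0 : s ^ 2 * t = c 0 := by
    show (c 0 ^ 2 * (c 1)⁻¹) ^ 2 * ((c 0 ^ 3)⁻¹ * c 1 ^ 2) = c 0
    field_simp
  have k1 : s ^ 3 * t ^ 2 = c 1 := by
    show (c 0 ^ 2 * (c 1)⁻¹) ^ 3 * ((c 0 ^ 3)⁻¹ * c 1 ^ 2) ^ 2 = c 1
    field_simp
  let h' : ↥(chevG2.group K) := ⟨h, diagonal_le_group hG2 K hh⟩
  have hTG : IsTG (MulAut.conj h') s t (RingEquiv.refl K) := by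
    apply isTG_conj hs ht
    rw [k0, k1]
    exact hw'
  obtain ⟨α, hα⟩ := exists_isTor s t (RingEquiv.refl K) hs ht
  have hg' : g = ι K u * h' := by
    apply Subtype.ext
    rw [Subgroup.coe_mul, ← hvh]
    congr 1
    exact hu.symm
  refine ⟨u, s, t, α, hα, fun x => ?_⟩
  have h7 := cov_tor hα hTG x
  rw [MulAut.conj_apply] at h7
  rw [hg', map_mul, map_mul, map_inv, ← h7]
  group

/-! ### the fusion systems -/

theorem card_comap_of_inj {A B : Type*} [Group A] [Group B] (f : A →* B) (hf : Function.Injective f) {D : Subgroup B}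
    (hD : D ≤ f.range) : Nat.card (D.comap f) = Nat.card D := by
  have h1 : (D.comap f).map f = D := by
    rw [Subgroup.map_comap_eq, inf_eq_right.2 hD]
  calc Nat.card (D.comap f) = Nat.card ((D.comap f).map f) :=
        Nat.card_congr ((D.comap f).equivMapOfInjective f hf).toEquiv
    _ = Nat.card D := by rw [h1]

/-- the fusion system of `G0 ⋊ D` -/
theorem real_core [Finite K] {p : ℕ} [Fact p.Prime] (hpg : IsPGroup p (⊤ : Subgroup (GU K)))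
    {G0 : Type u} [Group G0] [Finite G0] {T0 : Type u} [Group T0] [Finite T0] (i : GU K →* G0)
    (ρ : T0 →* MulAut (GU K)) (A : T0 →* MulAut G0) (hi : Function.Injective i) (hρinj : Function.Injective ρ)
    (hcov : ∀ (t : T0) (x : GU K), A t (i x) = i (ρ t x)) (hsyl : ¬ p ∣ i.range.index)
    (hnrm : ∀ g : G0, (∀ x : GU K, g * i x * g⁻¹ ∈ i.range) →
      ∃ (u : GU K) (s t : K) (α : MulAut (GU K)), IsTor α s t (RingEquiv.refl K) ∧
        ∀ x : GU K, g * i x * g⁻¹ = i (u * α x * u⁻¹))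
    (hTTρ : TT K ≤ ρ.range) {D : Subgroup (MulAut (GU K))} (hDT : D ≤ TT K) (hDc : (Nat.card D).Coprime p)
    (hFull : Full D) : ∃ F : FusionSystem (⊤ : Subgroup (GU K)), F.IsSaturated p ∧ F.IsRealizable p ∧
      AF F = (MulAut.conj : GU K →* MulAut (GU K)).range ⊔ D ∧
      ∀ (Q : Subgroup (GU K)) (γ : MulAut Q), (∃ g : G0, ∀ e : Q, g * i (e : GU K) * g⁻¹ = i ((γ e : Q) : GU K)) →
        γ ∈ F.autGroup Q := by
  have hp : p.Prime := Fact.out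
  have hfinU : Finite (GU K) := inferInstance
  let TD : Subgroup T0 := D.comap ρ
  have hTDc : (Nat.card TD).Coprime p := by
    rw [card_comap_of_inj ρ hρinj (hDT.trans hTTρ)]
    exact hDc
  let φ : TD →* MulAut G0 := A.comp TD.subtype
  have hφ : ∀ (t : TD) (x : GU K), φ t (i x) = i (ρ t x) := fun t x => hcov t x
  have hfinG : Finite (G0 ⋊[φ] TD) := Finite.of_equiv _ SemidirectProduct.equivProd.symm
  let j : (⊤ : Subgroup (GU K)) →* G0 ⋊[φ] TD :=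
    (SemidirectProduct.inl.comp i).comp (Subgroup.topEquiv (G := GU K)).toMonoidHom
  have hj : ∀ x : (⊤ : Subgroup (GU K)), j x = SemidirectProduct.inl (i (x : GU K)) := fun x => rfl
  have hinj : Function.Injective j := by
    intro a b hab
    rw [hj, hj] at hab
    exact Subtype.ext (hi (SemidirectProduct.inl_injective hab))
  -- conjugation in the semidirect product
  have hconj : ∀ (g : G0 ⋊[φ] TD) (x : GU K), g * SemidirectProduct.inl (i x) * g⁻¹ =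
      SemidirectProduct.inl (g.left * i (ρ g.right x) * g.left⁻¹) := by
    intro g x
    have h1 := SemidirectProduct.inl_aut (φ := φ) g.right (i x)
    have h2 := (SemidirectProduct.inl_left_mul_inr_right g).symm
    rw [map_mul, map_mul, ← hφ, h1, map_inv]
    conv_lhs => rw [h2]
    rw [mul_inv_rev, map_inv]
    simp only [mul_assoc]
  -- the Sylow subgroup
  have hrangep : IsPGroup p j.range := hpg.of_surjective j.rangeRestrict j.rangeRestrict_surjective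
  have hidx : ¬ p ∣ j.range.index := by
    have h1 : Nat.card j.range = Nat.card (GU K) := by
      rw [← Nat.card_congr (MonoidHom.ofInjective hinj).toEquiv]
      exact Nat.card_congr Subgroup.topEquiv.toEquiv
    have h2 : Nat.card i.range = Nat.card (GU K) :=
      (Nat.card_congr (MonoidHom.ofInjective hi).toEquiv).symm
    have h3 : Nat.card (G0 ⋊[φ] TD) = Nat.card G0 * Nat.card TD := by
      rw [Nat.card_congr SemidirectProduct.equivProd, Nat.card_prod]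
    have h4 := j.range.card_mul_index
    rw [h3, ← i.range.card_mul_index, h1, h2, mul_assoc] at h4
    have h5 := Nat.eq_of_mul_eq_mul_left Nat.card_pos h4
    rw [h5]
    apply hp.not_dvd_mul hsyl
    rw [← Nat.Prime.coprime_iff_not_dvd hp]
    exact hTDc.symm
  let T : Sylow p (G0 ⋊[φ] TD) := hrangep.toSylow hidx
  have hT : (T : Subgroup (G0 ⋊[φ] TD)) = j.range := rfl
  have hreal := pullback_isRealizedBy j hinj
  -- membership in automizers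
  have haut : ∀ (Q : Subgroup (GU K)) (γ : MulAut Q), γ ∈ (pullback j hinj).autGroup Q ↔
      ∃ g : G0 ⋊[φ] TD, ∀ e : Q, i ((γ e : Q) : GU K) = g.left * i (ρ g.right (e : GU K)) * g.left⁻¹ := by
    intro Q γ
    rw [H802.mem_autGroup_iff _ le_top]
    constructor
    · rintro ⟨h1, h2, g, hg⟩
      refine ⟨g, fun e => ?_⟩
      have h3 := hg e
      rw [hj, hj, hconj] at h3
      exact SemidirectProduct.inl_injective h3
    · rintro ⟨g, hg⟩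
      refine ⟨le_top, fun _ => trivial, g, fun e => ?_⟩
      rw [hj, hj, hconj]
      exact congrArg _ (hg e)
  -- the automizer of the whole group
  have hAF : ∀ α : MulAut (GU K), α ∈ AF (pullback j hinj) ↔
      ∃ g : G0 ⋊[φ] TD, ∀ x : GU K, i (α x) = g.left * i (ρ g.right x) * g.left⁻¹ := by
    intro α
    have h1 : α ∈ AF (pullback j hinj) ↔
        (MulAut.congr (Subgroup.topEquiv (G := GU K))).symm α ∈ (pullback j hinj).autGroup ⊤ := by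
      constructor
      · rintro ⟨β, hβ, rfl⟩
        rw [MulEquiv.coe_toMonoidHom, MulEquiv.symm_apply_apply]
        exact hβ
      · intro h
        exact ⟨_, h, MulEquiv.apply_symm_apply _ _⟩
    rw [h1, haut]
    constructor
    · rintro ⟨g, hg⟩
      exact ⟨g, fun x => hg ⟨x, trivial⟩⟩
    · rintro ⟨g, hg⟩
      exact ⟨g, fun x => hg x⟩
  have hρD : ∀ t : TD, ρ t ∈ D := fun t => t.2
  refine ⟨pullback j hinj, isSaturated_of_isRealizedBy hreal T hT, ⟨_, inferInstance, hfinG, j, hreal, T, hT⟩, ?_, ?_⟩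
  · apply le_antisymm
    · intro α hα
      obtain ⟨g, hg⟩ := (hAF α).1 hα
      obtain ⟨u, s, t, a, ha, h⟩ := hnrm g.left (fun x => by
        refine ⟨α ((ρ g.right)⁻¹ x), ?_⟩
        rw [hg, MulAut.apply_inv_self])
      have h1 : α = MulAut.conj u * (a * ρ g.right) := by
        ext1 x
        apply hi
        rw [hg, h]
        rfl
      rw [h1]
      exact Subgroup.mul_mem_sup ⟨u, rfl⟩ (D.mul_mem (hFull s t a ha) (hρD _))
    · apply sup_le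
      · rintro _ ⟨u, rfl⟩
        rw [hAF]
        refine ⟨SemidirectProduct.inl (i u), fun x => ?_⟩
        rw [SemidirectProduct.left_inl, SemidirectProduct.right_inl, OneMemClass.coe_one, map_one, MulAut.one_apply,
          ← map_mul, ← map_inv, ← map_mul]
        rfl
      · intro d hd
        obtain ⟨t, ht⟩ := hTTρ (hDT hd)
        rw [hAF]
        refine ⟨SemidirectProduct.inr ⟨t, by show ρ t ∈ D; rw [ht]; exact hd⟩, fun x => ?_⟩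
        rw [SemidirectProduct.left_inr, SemidirectProduct.right_inr, one_mul, inv_one, mul_one, ht]
  · rintro Q γ ⟨g, hg⟩
    rw [haut]
    refine ⟨SemidirectProduct.inl g, fun e => ?_⟩
    rw [SemidirectProduct.left_inl, SemidirectProduct.right_inl, OneMemClass.coe_one, map_one, MulAut.one_apply, hg]

/-- **(REAL)** -/
theorem stReal : StReal.{u} := by
  intro K _ p n _ hK D hDT hDc hFull
  obtain ⟨-, hpg, -⟩ := stGrp hK
  have hfinK : Finite K := hK.fin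
  have hchar : CharP K p := hK.char
  have hfinM : Finite (MulAut (GU K)) := Finite.of_injective (fun e : MulAut (GU K) => (e : GU K → GU K))
    (fun a b h => MulEquiv.ext (fun x => congrFun h x))
  let ρ : TG K →* MulAut (GU K) := (MonoidHom.fst _ _).comp (TG K).subtype
  let A : TG K →* MulAut ↥(chevG2.group K) := (MonoidHom.snd _ _).comp (TG K).subtype
  have hρinj : Function.Injective ρ := by
    rw [injective_iff_map_eq_one]
    intro x hx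
    exact Subtype.ext (TG_inj x.2 hx)
  have hfinT : Finite (TG K) := Finite.of_injective ρ hρinj
  have hfinG0 : Finite ↥(chevG2.group K) := by
    have : Finite (GL chevG2.Idx K) := inferInstance
    infer_instance
  -- the range of `ρ`
  have hTTρ : TT K ≤ ρ.range := by
    intro α hα
    obtain ⟨β, hβ⟩ := TG_surj hα
    exact ⟨⟨_, hβ⟩, rfl⟩
  obtain ⟨F, h1, h2, h3, h4⟩ := real_core hpg (ι K) ρ A ι_injective hρinj (fun t x => TG_cov t.2 x) not_dvd_index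
    (fun g hg => nrm hg) hTTρ hDT hDc hFull
  exact ⟨F, h1, h2, h3, fun γ hγ => h4 _ _ ⟨_, map_isWa hγ⟩, fun γ hγ => h4 _ _ ⟨_, map_isWb hγ⟩⟩

end Cfsg.Agent.H650.GR
end

-- part: H650/GU/RowFive
section
/-!
# S5211, block q = 5: the row `G₂(5)` (helper650)
-/

set_option autoImplicit false

namespace Cfsg.Agent.H650.GR

open Cfsg Cfsg.FusionSystem Cfsg.Lie Cfsg.Agent.H756.PU Cfsg.Agent.H779.G2 Cfsg.Agent.H650.GA
open Cfsg.Agent.ChevalleyStructure.Elts Cfsg.Agent.ChevalleyStructure.NConj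
open Cfsg.Agent.ChevalleyStructure.WordCheck
open Cfsg.Agent.Hexagon.G2Pos Cfsg.Agent.Hexagon.G2Side Cfsg.Agent.Hexagon.Words

open scoped Pointwise

universe u

variable {K : Type u} [Field K]

theorem coe_nn : ((nn 7 4 : ↥(chevG2.group K)) : GL chevG2.Idx K) = nG hG2 7 1 := by
  have e : chevG2.neg 7 = 4 := by decide +kernel
  rw [nG_def, e]
  unfold nn
  rw [Subgroup.coe_mul, Subgroup.coe_mul, coe_xs, coe_xs, inv_one]

/-- the Borel subgroup -/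
theorem borel_eq : (chevG2.borelSubgroup K : Set (GL chevG2.Idx K)) =
      (chevG2.posUnipotent K : Set (GL chevG2.Idx K)) * (chevG2.diagonalSubgroup K : Set (GL chevG2.Idx K)) :=
    Subgroup.coe_mul_of_right_le_normalizer_left _ _ (Cfsg.Agent.S1036.result (F := K) chevG2 hG2).1

theorem card_borel [Finite K] : Nat.card (chevG2.borelSubgroup K) = Nat.card K ^ 6 * (Nat.card K - 1) ^ 2 := by
  have := Fintype.ofFinite K
  have h1 := Cfsg.Agent.S1027.result (F := K) chevG2 hG2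
  have h2 : chevG2.nroots / 2 = 6 := by decide +kernel
  rw [h2, ← Nat.card_eq_fintype_card] at h1
  have h3 := Cfsg.Agent.S1035.result (F := K) (Nat.card_eq_fintype_card (α := K)).symm (chevG2, 1) (by simp only [_root_.Nat.card_eq_fintype_card, _root_.List.mem_cons, _root_.Prod.mk.injEq, _root_.and_true, _root_.List.not_mem_nil, _root_.or_false, _root_.true_or])
  have h4 : chevG2.rank = 2 := by decide +kernel
  simp only [one_mul, h4] at h3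
  rw [← h1, ← h3]
  have hd := (Cfsg.Agent.S1036.result (F := K) chevG2 hG2).2
  let f : chevG2.posUnipotent K × chevG2.diagonalSubgroup K → chevG2.borelSubgroup K := fun x =>
    ⟨x.1 * x.2, Subgroup.mul_mem _ (le_sup_left (a := chevG2.posUnipotent K) x.1.2)
      (le_sup_right (a := chevG2.posUnipotent K) x.2.2)⟩
  have hf : Function.Bijective f := by
    constructor
    · rintro ⟨u, h⟩ ⟨u', h'⟩ e
      have e1 : (u : GL chevG2.Idx K) * h = u' * h' := congrArg Subtype.val e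
      have e2 : (u' : GL chevG2.Idx K)⁻¹ * u = h' * (h : GL chevG2.Idx K)⁻¹ := by
        rw [inv_mul_eq_iff_eq_mul, ← mul_assoc, ← e1, mul_inv_cancel_right]
      have e3 : (u' : GL chevG2.Idx K)⁻¹ * u ∈ chevG2.posUnipotent K ⊓ chevG2.diagonalSubgroup K :=
        ⟨Subgroup.mul_mem _ (Subgroup.inv_mem _ u'.2) u.2, by
          rw [e2]; exact Subgroup.mul_mem _ h'.2 (Subgroup.inv_mem _ h.2)⟩
      rw [hd, Subgroup.mem_bot] at e3
      have e4 : (u : GL chevG2.Idx K) = u' := (inv_mul_eq_one.1 e3).symm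
      have e5 : (h : GL chevG2.Idx K) = h' := by
        rw [e4] at e1
        exact mul_left_cancel e1
      exact Prod.ext (Subtype.ext e4) (Subtype.ext e5)
    · rintro ⟨b, hb⟩
      have hb' : b ∈ (chevG2.borelSubgroup K : Set (GL chevG2.Idx K)) := hb
      rw [borel_eq] at hb'
      obtain ⟨u, hu, h, hh, e⟩ := hb'
      exact ⟨(⟨u, hu⟩, ⟨h, hh⟩), Subtype.ext e⟩
  rw [← Nat.card_congr (Equiv.ofBijective f hf), Nat.card_prod]

theorem ι_mem_borel (x : GU K) : ((ι K x : ↥(chevG2.group K)) : GL chevG2.Idx K) ∈ chevG2.borelSubgroup K := by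
  refine le_sup_left (a := chevG2.posUnipotent K) ?_
  rw [← map_range]
  exact ⟨_, ⟨x, rfl⟩, rfl⟩

/-- the subgroup `Q_a` in `GL` -/
theorem radical_a : ((Qa K).map (ι K)).map (chevG2.group K).subtype = chevG2.unipotentRadical K {0} := by
  have hneg : ∀ r < 12, chevG2.IsPosRoot r → (r = 7 ∨ (∃ i < 2, i ≠ 0 ∧ (chevG2.coroot.getD r #[]).getD i 0 ≠ 0)) := by
    decide +kernel
  apply le_antisymm
  · rintro _ ⟨_, ⟨x, hx, rfl⟩, rfl⟩
    have hx0 : x.a = 0 := hx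
    have e1 := eq_prod x
    rw [hx0] at e1
    have e2 : (GR.e1 (0 : K)) = 1 := rfl
    rw [e2, one_mul] at e1
    rw [e1]
    have hin : ∀ r : ℕ, (r = 6 ∨ r = 8 ∨ r = 9 ∨ r = 10 ∨ r = 11) → ∀ t : K,
        ((xs r t : ↥(chevG2.group K)) : GL chevG2.Idx K) ∈ chevG2.unipotentRadical K {0} := by
      intro r hr t
      have h1 : chevG2.IsPosRoot r := by
        rcases hr with rfl | rfl | rfl | rfl | rfl <;> decide +kernel
      have h2 : ∃ i < 2, i ≠ 0 ∧ (chevG2.coroot.getD r #[]).getD i 0 ≠ 0 := by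
        rcases hneg r h1.1 h1 with h | h
        · omega
        · exact h
      refine Subgroup.subset_closure ⟨r, t, h1, ?_, by rw [coe_xs, coe_xG]⟩
      rintro ⟨-, h4⟩
      obtain ⟨i, hi, hi0, h5⟩ := h2
      exact h5 (h4 i hi (by simpa using hi0))
    simp only [map_mul, ι2, ι3, ι4, ι5, ι6]
    exact Subgroup.mul_mem _ (Subgroup.mul_mem _ (Subgroup.mul_mem _
      (Subgroup.mul_mem _ (hin _ (by norm_num) _) (hin _ (by norm_num) _)) (hin _ (by norm_num) _))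
      (hin _ (by norm_num) _)) (hin _ (by norm_num) _)
  · unfold ChevalleyDatum.unipotentRadical
    rw [Subgroup.closure_le]
    rintro g ⟨r, t, h1, h2, h3⟩
    have h7 : r ≠ 7 := by
      rintro rfl
      apply h2
      refine ⟨h1.1, ?_⟩
      intro i hi hi0
      have hi' : i = 1 := by
        have : i < 2 := hi
        have h0 : i ≠ 0 := by simpa using hi0
        omega
      subst hi'
      decide +kernel
    have h8 : r = 6 ∨ r = 8 ∨ r = 9 ∨ r = 10 ∨ r = 11 := by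
      have : ∀ r < 12, chevG2.IsPosRoot r → r ≠ 7 → (r = 6 ∨ r = 8 ∨ r = 9 ∨ r = 10 ∨ r = 11) := by decide +kernel
      exact this r h1.1 h1 h7
    have h9 : g = ((xs r t : ↥(chevG2.group K)) : GL chevG2.Idx K) := by
      apply Units.ext
      rw [coe_xs, coe_xG]
      exact h3
    rw [h9]
    refine ⟨xs r t, ?_, rfl⟩
    rcases h8 with rfl | rfl | rfl | rfl | rfl
    · exact ⟨e2 t, rfl, ι2 t⟩
    · exact ⟨e3 t, rfl, ι3 t⟩
    · exact ⟨e4 t, rfl, ι4 t⟩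
    · exact ⟨e5 (-t), rfl, by rw [ι5, neg_neg]⟩
    · exact ⟨e6 (-t), rfl, by rw [ι6, neg_neg]⟩

/-- the normalizer of `Q_a` has order `k |B|`, `k ≤ q + 1` -/
theorem normalizer_a [Finite K] : ∃ k, 1 ≤ k ∧ k ≤ Nat.card K + 1 ∧
    Nat.card (Subgroup.normalizer ((Qa K).map (ι K) : Set ↥(chevG2.group K))) ∣
      Nat.card K ^ 6 * (Nat.card K - 1) ^ 2 * k := by
  have hfin : Finite (GL chevG2.Idx K) := inferInstance
  have e70 : chevG2.simple 0 = 7 := by decide +kernel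
  obtain ⟨P, hP⟩ := Cfsg.Agent.S1044.result (F := K) chevG2 hG2 0 (by decide) (nG hG2 7 1) (by rw [coe_nG, e70])
  have hBP : chevG2.borelSubgroup K ≤ P := by
    intro b hb
    have : b ∈ (P : Set (GL chevG2.Idx K)) := by rw [hP]; exact Or.inl hb
    exact this
  -- the cardinality of `P`
  have hcard : Nat.card P ≤ Nat.card (chevG2.borelSubgroup K) * (Nat.card K + 1) := by
    have hsurj : ∀ x ∈ P, ∃ y : chevG2.borelSubgroup K × Option K,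
        x = (y.1 : GL chevG2.Idx K) * (y.2.elim 1 (fun t => nG hG2 7 1 * xG hG2 7 t)) := by
      intro x hx
      have hx' : x ∈ (P : Set (GL chevG2.Idx K)) := hx
      rw [hP] at hx'
      rcases hx' with hx' | hx'
      · exact ⟨(⟨x, hx'⟩, none), by simp⟩
      · rw [DoubleCoset.mem_doubleCoset] at hx'
        obtain ⟨b, hb, b', hb', rfl⟩ := hx'
        rw [borel_eq] at hb'
        obtain ⟨v, hv, h, hh, rfl⟩ := hb'
        have hv' : v ∈ (ι K).range.map (chevG2.group K).subtype := by rw [map_range]; exact hv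
        obtain ⟨_, ⟨g, rfl⟩, rfl⟩ := hv'
        -- `g = q * e1 a`
        let q : Qa K := ⟨g * e1 (-g.a), by show (g * e1 (-g.a)).a = 0; simp [e1]⟩
        have hq : g = (q : GU K) * e1 g.a := by
          have : e1 (-g.a) * e1 g.a = (1 : GU K) := by
            ext <;> simp [e1]
          show g = g * e1 (-g.a) * e1 g.a
          rw [mul_assoc, this, mul_one]
        have hhi : h⁻¹ ∈ chevG2.diagonalSubgroup K := Subgroup.inv_mem _ hh
        obtain ⟨c, -, hc⟩ := Cfsg.Agent.ChevalleyStructure.BNChev.diagonal_conj hG2 hhi (s := 7) (by decide)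
        have hc' := hc g.a
        rw [inv_inv] at hc'
        have hnh : nG hG2 7 (1 : K) * h * (nG hG2 7 (1 : K))⁻¹ ∈ chevG2.diagonalSubgroup K :=
          conj_mem_diagonal hG2 (nG_mem_monomial hG2 (by decide) one_ne_zero) hh
        have hwa := map_isWa (isWa_waE (K := K)) q
        have hwa' : nG hG2 7 (1 : K) * ((ι K (q : GU K) : ↥(chevG2.group K)) : GL chevG2.Idx K) * (nG hG2 7 (1 : K))⁻¹ =
            ((ι K ((waE q : Qa K) : GU K) : ↥(chevG2.group K)) : GL chevG2.Idx K) := by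
          rw [← coe_nn, ← hwa]
          rfl
        refine ⟨(⟨b * ((ι K ((waE q : Qa K) : GU K) : ↥(chevG2.group K)) : GL chevG2.Idx K) *
          (nG hG2 7 (1 : K) * h * (nG hG2 7 (1 : K))⁻¹), ?_⟩, some (c * g.a)), ?_⟩
        · exact Subgroup.mul_mem _ (Subgroup.mul_mem _ hb (ι_mem_borel _))
            (le_sup_right (a := chevG2.posUnipotent K) hnh)
        · have hg : ((ι K g : ↥(chevG2.group K)) : GL chevG2.Idx K) =
              ((ι K (q : GU K) : ↥(chevG2.group K)) : GL chevG2.Idx K) * xG hG2 7 g.a := by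
            conv_lhs => rw [hq]
            rw [map_mul, Subgroup.coe_mul, ι1, coe_xs]
          show b * nG hG2 7 1 * (((ι K g : ↥(chevG2.group K)) : GL chevG2.Idx K) * h) =
            b * ((ι K ((waE q : Qa K) : GU K) : ↥(chevG2.group K)) : GL chevG2.Idx K) *
              (nG hG2 7 (1 : K) * h * (nG hG2 7 (1 : K))⁻¹) * (nG hG2 7 1 * xG hG2 7 (c * g.a))
          rw [hg, ← hwa', ← hc']
          group
    let f : chevG2.borelSubgroup K × Option K → GL chevG2.Idx K := fun y =>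
      (y.1 : GL chevG2.Idx K) * (y.2.elim 1 (fun t => nG hG2 7 1 * xG hG2 7 t))
    have h1 : (P : Set (GL chevG2.Idx K)) ⊆ Set.range f := by
      intro x hx
      obtain ⟨y, hy⟩ := hsurj x hx
      exact ⟨y, hy.symm⟩
    have h2 : Nat.card P ≤ Nat.card (Set.range f) := Nat.card_le_card_of_injective (fun x : P =>
      (⟨x, h1 x.2⟩ : Set.range f)) (fun a b hab => Subtype.ext (congrArg (fun z : Set.range f => (z : GL chevG2.Idx K)) hab))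
    refine h2.trans ((Finite.card_range_le f).trans ?_)
    rw [Nat.card_prod, Finite.card_option]
  have hdvd : Nat.card (chevG2.borelSubgroup K) ∣ Nat.card P := Subgroup.card_dvd_of_le hBP
  obtain ⟨k, hk⟩ := hdvd
  have hB : 0 < Nat.card (chevG2.borelSubgroup K) := Nat.card_pos
  have hPpos : 0 < Nat.card P := Nat.card_pos
  refine ⟨k, ?_, ?_, ?_⟩
  · rcases Nat.eq_zero_or_pos k with h | h
    · rw [h, mul_zero] at hk; omega
    · exact h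
  · rw [hk] at hcard
    exact Nat.le_of_mul_le_mul_left hcard hB
  · rw [← card_borel, ← hk]
    have h1 : (Subgroup.normalizer ((Qa K).map (ι K) : Set ↥(chevG2.group K))).map (chevG2.group K).subtype ≤ P := by
      rintro _ ⟨g, hg, rfl⟩
      have h2 : (g : GL chevG2.Idx K) ∈ chevG2.parabolicSubgroup K {0} := by
        rw [← Cfsg.Agent.S1049.result (F := K) chevG2 hG2 {0} (fun j hj => by
          rw [Set.mem_singleton_iff] at hj; subst hj; decide)]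
        refine ⟨?_, g.2⟩
        rw [← radical_a]
        have : Finite ↥((((Qa K).map (ι K)).map (chevG2.group K).subtype : Subgroup (GL chevG2.Idx K)) :
          Set (GL chevG2.Idx K)) := inferInstance
        apply Subgroup.mem_normalizer_fintype
        rintro _ ⟨x, hx, rfl⟩
        exact ⟨g * x * g⁻¹, ((hg : g ∈ Subgroup.normalizer _) x).1 hx, rfl⟩
      have h3 : chevG2.parabolicSubgroup K {0} ≤ P := by
        refine sup_le hBP ((Subgroup.closure_le _).2 ?_)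
        rintro x ⟨j, hj, -, hx⟩
        rw [Set.mem_singleton_iff] at hj
        subst hj
        have hx' : x = nG hG2 7 1 := by
          apply Units.ext
          rw [hx, coe_nG, e70]
        have : x ∈ (P : Set (GL chevG2.Idx K)) := by
          rw [hP, hx']
          exact Or.inr (DoubleCoset.mem_doubleCoset.2 ⟨1, Subgroup.one_mem _, 1, Subgroup.one_mem _, by simp⟩)
        exact this
      exact h3 h2
    rw [Nat.card_congr ((Subgroup.normalizer ((Qa K).map (ι K) : Set ↥(chevG2.group K))).equivMapOfInjective _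
      (chevG2.group K).subtype_injective).toEquiv]
    exact Subgroup.card_dvd_of_le h1

/-- the element of order three -/
def yy : ↥(chevG2.group K) := nn 7 4 * xs 7 1

theorem yy_pow : (yy : ↥(chevG2.group K)) ^ 3 = 1 := by
  have h : check chevG2 0 0 1 (xw ((nw 7 4 ++ ([(7, .const 1)] : List (ℕ × Cfsg.Agent.ChevalleyStructure.WordCheck.PExpr))) ++ ((nw 7 4 ++ ([(7, .const 1)] : List (ℕ × Cfsg.Agent.ChevalleyStructure.WordCheck.PExpr))) ++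
      (nw 7 4 ++ ([(7, .const 1)] : List (ℕ × Cfsg.Agent.ChevalleyStructure.WordCheck.PExpr)))))) (xw []) = true := by decide +kernel
  have h1 := gval_eq hG2 (rho (1 : K) 1) 1 h
  have h2 : gval hG2 (rho (1 : K) 1) (nw 7 4) * gval hG2 (rho (1 : K) 1) [(7, .const 1)] =
      ((yy : ↥(chevG2.group K)) : GL chevG2.Idx K) := by
    unfold nw yy nn
    simp only [gval_cons, gval_nil, mul_one, Subgroup.coe_mul, coe_xs]
    simp [PExpr.denote]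
  simp only [gval_append, h2, gval_nil] at h1
  apply Subtype.ext
  rw [pow_succ, pow_two, Subgroup.coe_mul, Subgroup.coe_mul, mul_assoc, h1]
  rfl

theorem yy_conj (x : Qa K) : ∃ y : Qa K, yy * ι K (x : GU K) * (yy)⁻¹ = ι K (y : GU K) ∧
    ((x : GU K) = e5 1 → (y : GU K) = e2 1) := by
  let z : Qa K := ⟨e1 (1 : K) * (x : GU K) * (e1 (1 : K))⁻¹, by
    have h0 : (x : GU K).a = 0 := x.2
    show (e1 1 * (x : GU K) * (e1 1)⁻¹).a = 0
    simp [h0]⟩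
  refine ⟨waE z, ?_, ?_⟩
  · rw [← map_isWa isWa_waE]
    show _ = nn 7 4 * ι K (e1 (1 : K) * (x : GU K) * (e1 (1 : K))⁻¹) * (nn 7 4)⁻¹
    rw [map_mul, map_mul, map_inv, ι1]
    unfold yy
    group
  · intro hx
    have hz : z = ⟨e5 1, rfl⟩ := by
      apply Subtype.ext
      show e1 (1 : K) * (x : GU K) * (e1 (1 : K))⁻¹ = e5 1
      rw [hx]
      ext <;> simp only [e1, e5, _root_.Cfsg.Agent.H650.GR.e1, _root_.Cfsg.Agent.H650.GR.e5, _root_.Cfsg.Agent.H779.G2.GU.mul_a, _root_.add_zero, _root_.Cfsg.Agent.H779.G2.GU.inv_a, _root_.add_neg_cancel, _root_.Cfsg.Agent.H779.G2.GU.mul_b, _root_.Cfsg.Agent.H779.G2.GU.inv_b, _root_.neg_zero, _root_.Cfsg.Agent.H779.G2.GU.mul_c, _root_.MulZeroClass.mul_zero, _root_.Cfsg.Agent.H779.G2.GU.inv_c, _root_.mul_neg, _root_.mul_one, _root_.Cfsg.Agent.H779.G2.GU.mul_d, _root_.ne_eq, _root_.OfNat.ofNat_ne_zero, _root_.not_false_eq_true, _root_.zero_pow,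 _root_.Cfsg.Agent.H779.G2.GU.inv_d, _root_.one_pow, _root_.sub_self, _root_.even_two, _root_.Even.neg_pow, _root_.Cfsg.Agent.H779.G2.GU.mul_e, _root_.zero_add, _root_.Cfsg.Agent.H779.G2.GU.inv_e, _root_.MulZeroClass.zero_mul, _root_.Cfsg.Agent.H779.G2.GU.mul_f, _root_.Cfsg.Agent.H779.G2.GU.inv_f]
    rw [hz]
    ext <;> simp only [waE, e2, e5, _root_.Cfsg.Agent.H650.GA.waE, _root_.Cfsg.Agent.H650.GR.e5, _root_.MulEquiv.coe_mk, _root_.Equiv.coe_fn_mk, _root_.neg_zero, _root_.mul_one, _root_.add_zero, _root_.MulZeroClass.mul_zero, _root_.sub_self, _root_.Cfsg.Agent.H650.GR.e2]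

theorem exists_e [Finite K] : ∃ e : (ι K).range ≃* GU K, ∀ x : (ι K).range, ι K (e x) = x := by
  refine ⟨(MonoidHom.ofInjective (ι_injective (K := K))).symm, fun x => ?_⟩
  have h1 := (MonoidHom.ofInjective (ι_injective (K := K))).apply_symm_apply x
  exact congrArg Subtype.val h1

theorem mem_T {T : Subgroup ↥(chevG2.group K)} (hT : T = (ι K).range) (g : GU K) : ι K g ∈ T := by
  rw [hT]; exact ⟨_, rfl⟩

theorem core_a {T : Subgroup ↥(chevG2.group K)} (hT : T = (ι K).range) (e : T ≃* GU K)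
    (he : ∀ x : T, ι K (e x) = x) [Finite K] (x : T) (hx : e x ∈ Qa K) :
    ∃ y : T, (y : ↥(chevG2.group K)) = nn 7 4 * (x : ↥(chevG2.group K)) * (nn 7 4)⁻¹ ∧ e y ∈ Qa K := by
  have h1 := map_isWa isWa_waE (⟨e x, hx⟩ : Qa K)
  refine ⟨⟨ι K ((waE ⟨e x, hx⟩ : Qa K) : GU K), mem_T hT _⟩, ?_, ?_⟩
  · show ι K _ = _
    rw [← h1]
    show nn 7 4 * ι K (e x) * _ = _
    rw [he]
  · have h2 : e ⟨ι K ((waE ⟨e x, hx⟩ : Qa K) : GU K), mem_T hT _⟩ =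
        ((waE ⟨e x, hx⟩ : Qa K) : GU K) := ι_injective (he _)
    rw [h2]
    exact (waE ⟨e x, hx⟩ : Qa K).2

theorem core_b {T : Subgroup ↥(chevG2.group K)} (hT : T = (ι K).range) (e : T ≃* GU K)
    (he : ∀ x : T, ι K (e x) = x) [Finite K] :
    ∃ x y : T, e x = e5 1 ∧ e y = e2 1 ∧ (y : ↥(chevG2.group K)) = nn 7 4 * (x : ↥(chevG2.group K)) * (nn 7 4)⁻¹ := by
  refine ⟨⟨ι K (e5 1), mem_T hT _⟩, ⟨ι K (e2 1), mem_T hT _⟩, ι_injective (he _),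
    ι_injective (he _), ?_⟩
  have h1 := map_isWa isWa_waE (⟨e5 1, rfl⟩ : Qa K)
  show ι K (e2 1) = nn 7 4 * ι K (e5 1) * _
  refine Eq.trans ?_ h1.symm
  congr 1
  ext <;> simp only [waE, e2, e5, _root_.Cfsg.Agent.H650.GR.e2, _root_.Cfsg.Agent.H650.GA.waE, _root_.Cfsg.Agent.H650.GR.e5, _root_.MulEquiv.coe_mk, _root_.Equiv.coe_fn_mk, _root_.neg_zero, _root_.mul_one, _root_.add_zero, _root_.MulZeroClass.mul_zero, _root_.sub_self]

theorem core_c {T : Subgroup ↥(chevG2.group K)} (hT : T = (ι K).range) (e : T ≃* GU K)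
    (he : ∀ x : T, ι K (e x) = x) [Finite K] :
    ∃ x y : T, e x = e6 1 ∧ e y = e5 (-1) ∧ (y : ↥(chevG2.group K)) = nn 6 5 * (x : ↥(chevG2.group K)) * (nn 6 5)⁻¹ := by
  refine ⟨⟨ι K (e6 1), mem_T hT _⟩, ⟨ι K (e5 (-1)), mem_T hT _⟩, ι_injective (he _),
    ι_injective (he _), ?_⟩
  have h1 := map_isWb isWb_wbE (⟨e6 1, rfl⟩ : Qb K)
  show ι K (e5 (-1)) = nn 6 5 * ι K (e6 1) * _
  refine Eq.trans ?_ h1.symm
  congr 1
  ext <;> simp only [wbE, e5, e6, _root_.Cfsg.Agent.H650.GR.e5, _root_.Cfsg.Agent.H650.GA.wbE, _root_.Cfsg.Agent.H650.GR.e6, _root_.MulEquiv.coe_mk, _root_.Equiv.coe_fn_mk, _root_.neg_zero, _root_.MulZeroClass.mul_zero, _root_.sub_self, _root_.ne_eq, _root_.OfNat.ofNat_ne_zero, _root_.not_false_eq_true, _root_.zero_pow, _root_.add_zero]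

theorem core_d {T : Subgroup ↥(chevG2.group K)} (hT : T = (ι K).range) (e : T ≃* GU K)
    (he : ∀ x : T, ι K (e x) = x) : ((Qa K).comap e.toMonoidHom).map T.subtype = (Qa K).map (ι K) := by
  ext g
  constructor
  · rintro ⟨x, hx, rfl⟩
    exact ⟨e x, hx, he x⟩
  · rintro ⟨x, hx, rfl⟩
    have h0 : ι K x ∈ T := by rw [hT]; exact ⟨_, rfl⟩
    obtain ⟨y, hy⟩ := e.surjective x
    refine ⟨y, ?_, ?_⟩
    · show e y ∈ Qa K
      rw [hy]; exact hx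
    · rw [← hy]; exact (he y).symm

theorem three_dvd [Finite K] : 3 ∣ (Subgroup.centralizer ((Qa K).map (ι K) : Set ↥(chevG2.group K))).relIndex
    (Subgroup.normalizer ((Qa K).map (ι K) : Set ↥(chevG2.group K))) := by
  have hfinG : Finite ↥(chevG2.group K) := by
    have : Finite (GL chevG2.Idx K) := inferInstance
    infer_instance
  set N := Subgroup.normalizer ((Qa K).map (ι K) : Set ↥(chevG2.group K)) with hN
  set C := Subgroup.centralizer ((Qa K).map (ι K) : Set ↥(chevG2.group K)) with hC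
  have hyN : yy ∈ N := by
    apply Subgroup.mem_normalizer_fintype
    rintro _ ⟨x, hx, rfl⟩
    obtain ⟨y, hy, -⟩ := yy_conj (⟨x, hx⟩ : Qa K)
    exact ⟨y, y.2, hy.symm⟩
  have hyC : yy ∉ C := by
    intro h
    have h1 := Subgroup.mem_centralizer_iff.1 h (ι _ (e5 1)) ⟨e5 1, rfl, rfl⟩
    obtain ⟨y, hy, hy'⟩ := yy_conj (⟨e5 1, rfl⟩ : Qa K)
    have h2 : ι K (y : GU K) = ι K (e5 1) := by
      rw [← hy, mul_inv_eq_iff_eq_mul]
      exact h1.symm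
    have h3 := ι_injective h2
    rw [hy' rfl] at h3
    exact one_ne_zero (congrArg GU.b h3)
  have hnorm : (C.subgroupOf N).Normal := Subgroup.normal_subgroupOf_of_le_normalizer (by
    intro n hn
    rw [Subgroup.mem_normalizer_iff]
    intro c
    have key : ∀ n ∈ N, ∀ c ∈ C, n * c * n⁻¹ ∈ C := by
      intro n hn c hc
      rw [hC, Subgroup.mem_centralizer_iff] at hc ⊢
      intro x hx
      have h1 : n⁻¹ * x * n ∈ ((Qa K).map (ι K) : Set ↥(chevG2.group K)) := by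
        have := (Subgroup.inv_mem _ hn) x
        rw [inv_inv] at this
        exact this.1 hx
      have h2 := hc _ h1
      calc x * (n * c * n⁻¹) = n * ((n⁻¹ * x * n) * c) * n⁻¹ := by group
        _ = n * (c * (n⁻¹ * x * n)) * n⁻¹ := by rw [h2]
        _ = n * c * n⁻¹ * x := by group
    constructor
    · exact key n hn c
    · intro h
      have := key n⁻¹ (Subgroup.inv_mem _ hn) _ h
      rwa [inv_inv, show n⁻¹ * (n * c * n⁻¹) * n = c by group] at this)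
  have h1 : C.relIndex N = Nat.card (N ⧸ C.subgroupOf N) := rfl
  rw [h1]
  let y : N ⧸ C.subgroupOf N := QuotientGroup.mk ⟨yy, hyN⟩
  have h2 : orderOf y = 3 := by
    apply orderOf_eq_prime
    · show (QuotientGroup.mk (⟨yy, hyN⟩ : N) : N ⧸ C.subgroupOf N) ^ 3 = 1
      rw [← QuotientGroup.mk_pow]
      have : (⟨yy, hyN⟩ : N) ^ 3 = 1 := Subtype.ext yy_pow
      rw [this]
      rfl
    · intro h
      have h3 := (QuotientGroup.eq_one_iff (N := C.subgroupOf N) (⟨yy, hyN⟩ : N)).1 h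
      exact hyC (Subgroup.mem_subgroupOf.1 h3)
  rw [← h2]
  exact orderOf_dvd_natCard y

/-- **(ROW G2)** -/
theorem rowG2 : Cfsg.Agent.H24.Q5.StRowG2 := by
  have hfinG : Finite ↥(chevG2.group (ZMod 5)) := by
    have : Finite (GL chevG2.Idx (ZMod 5)) := inferInstance
    infer_instance
  have hP : IsPGroup 5 (ι (ZMod 5)).range := by
    refine IsPGroup.of_card (n := 6) ?_
    rw [← Nat.card_congr (MonoidHom.ofInjective (ι_injective (K := ZMod 5))).toEquiv, GU.card_eq]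
    simp
  obtain ⟨e, he⟩ := exists_e (K := ZMod 5)
  let T : Sylow 5 ↥(chevG2.group (ZMod 5)) := hP.toSylow not_dvd_index
  obtain ⟨x1, y1, hx1, hy1, hxy1⟩ := core_b (K := ZMod 5) rfl e he
  obtain ⟨x2, y2, hx2, hy2, hxy2⟩ := core_c (K := ZMod 5) rfl e he
  have h10 : (1 : ZMod 5) ≠ 0 := one_ne_zero
  have ha := core_a (K := ZMod 5) rfl e he
  have z1 : e x1 ∈ Z2 (ZMod 5) := by rw [hx1]; exact ⟨rfl, rfl, rfl, rfl⟩
  have z2 : e y1 ∉ Z2 (ZMod 5) := by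
    rw [hy1]
    rintro ⟨-, h, -⟩
    exact h10 h
  have z3 : e x1 ∈ Z3 (ZMod 5) := by rw [hx1]; exact ⟨rfl, rfl, rfl⟩
  have z4 : e y1 ∉ Z3 (ZMod 5) := by
    rw [hy1]
    rintro ⟨-, h, -⟩
    exact h10 h
  have z5 : e x2 ∈ Z1 (ZMod 5) := by rw [hx2]; exact ⟨rfl, rfl, rfl, rfl, rfl⟩
  have z6 : e y2 ∉ Z1 (ZMod 5) := by
    rw [hy2]
    rintro ⟨-, -, -, -, h⟩
    exact neg_ne_zero.2 h10 h
  refine ⟨_, inferInstance, hfinG, T, e, ⟨⟨nn 7 4, ha, x1, y1, z1, hxy1, z2⟩, ⟨nn 7 4, ha, x1, y1, z3, hxy1, z4⟩,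
    ⟨nn 6 5, x2, y2, z5, hxy2, z6⟩⟩, ?_⟩
  · have hQG : Cfsg.Agent.H24.Q5.QG T e = (Qa (ZMod 5)).map (ι (ZMod 5)) := core_d (K := ZMod 5) rfl e he
    unfold Cfsg.Agent.H24.Q5.autN
    rw [hQG]
    refine ⟨three_dvd, ?_, ?_⟩
    · intro h9
      obtain ⟨k, hk1, hk2, hk3⟩ := normalizer_a (K := ZMod 5)
      rw [Nat.card_zmod] at hk2 hk3
      have h1 := (h9.trans (Subgroup.relIndex_dvd_card _ _)).trans hk3
      have h2 : 9 ∣ k := Nat.Coprime.dvd_of_dvd_mul_left (by norm_num) h1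
      have := Nat.le_of_dvd (by (clear * - hk1; omega)) h2
      omega
    · intro h128
      have h1 := (h128.trans (Subgroup.relIndex_dvd_card _ _)).trans (Subgroup.card_subgroup_dvd_card _)
      have hG : Nat.card ↥(chevG2.group (ZMod 5)) = 5 ^ 6 * (5 ^ 2 - 1) * (5 ^ 6 - 1) :=
        Cfsg.Agent.S1059.result (F := ZMod 5) (by simp)
      rw [hG] at h1
      exact absurd h1 (by norm_num)

end Cfsg.Agent.H650.GR
end

-- part: H913/GT/Def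
section
/-!
# S5211, tasks G2-REAL-a, G2-REAL-b: the interface to the concrete group `G₂(K)`
-/

set_option autoImplicit false

namespace Cfsg.Agent.H913.GT

open Cfsg Cfsg.FusionSystem Cfsg.Agent.H756.PU Cfsg.Agent.H779.G2

universe u

/-- The data supplied by the concrete group `G0 = G₂(K)` (automorphisms of Zorn's algebra), `T` = the group of the pairs
`(a, b)`, `a ∈ MulAut (GU K)` in `TT K`, `b ∈ MulAut G0` extending `a` (torus, field automorphisms, for `p = 3` also graph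
automorphisms). -/
structure RData (K : Type u) [Field K] (p : ℕ) where
  G0 : Type u
  T : Type u
  [grpG : Group G0]
  [finG : Finite G0]
  [grpT : Group T]
  /-- the embedding -/
  ι : GU K →* G0
  ρ : T →* MulAut (GU K)
  A : T →* MulAut G0
  inj : Function.Injective ι
  syl : ¬ p ∣ ι.range.index
  injT : Function.Injective ρ
  rng : TT K ≤ ρ.range
  act : ∀ (t : T) (x : GU K), A t (ι x) = ι (ρ t x)
  nrm : ∀ g : G0, (∀ x : GU K, g * ι x * g⁻¹ ∈ ι.range) →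
    ∃ (u : GU K) (s t : K) (α : MulAut (GU K)), IsTor α s t (RingEquiv.refl K) ∧
      ∀ x : GU K, g * ι x * g⁻¹ = ι (u * α x * u⁻¹)
  wa : ∃ g : G0, ∀ γ : MulAut (Qa K), IsWa γ → ∀ e : Qa K, g * ι (e : GU K) * g⁻¹ = ι ((γ e : Qa K) : GU K)
  wb : ∃ g : G0, ∀ γ : MulAut (Qb K), IsWb γ → ∀ e : Qb K, g * ι (e : GU K) * g⁻¹ = ι ((γ e : Qb K) : GU K)

attribute [instance] RData.grpG RData.finG RData.grpT

end Cfsg.Agent.H913.GT
end

-- part: H913/GT/Emb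
section
/-!
# S5211, tasks G2-REAL-a, G2-SYL: the embedding of `GU K` into `Cfsg.Lie.G2 K`
-/

set_option autoImplicit false

namespace Cfsg.Agent.H913.GT

open Cfsg.Lie Matrix Cfsg.Agent.H638.G2Rep Cfsg.Agent.H638.G2Mem Cfsg.Agent.H638.G2Link Cfsg.Agent.H779.G2

universe u

variable {K : Type u} [Field K]

/-! ### the action on vectors -/

/-- the action of an element of `G₂(K)` on vectors -/
def ac (g : Cfsg.Lie.G2 K) (x : Fin 8 → K) : Fin 8 → K :=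
  ((g : GL (Fin 8) K) : Matrix (Fin 8) (Fin 8) K) *ᵥ x

theorem ac_mul (g h : Cfsg.Lie.G2 K) (x : Fin 8 → K) : ac (g * h) x = ac g (ac h x) := by
  rw [ac, ac, ac, Matrix.mulVec_mulVec]
  rfl

theorem ac_one (x : Fin 8 → K) : ac (1 : Cfsg.Lie.G2 K) x = x := Matrix.one_mulVec x

theorem ac_ext {g h : Cfsg.Lie.G2 K} (H : ∀ x, ac g x = ac h x) : g = h := by
  apply Subtype.ext
  apply Units.ext
  exact Matrix.ext_of_mulVec_single fun i => H _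

theorem ac_add (g : Cfsg.Lie.G2 K) (x y : Fin 8 → K) : ac g (x + y) = ac g x + ac g y := Matrix.mulVec_add _ _ _

theorem ac_smul (g : Cfsg.Lie.G2 K) (c : K) (x : Fin 8 → K) : ac g (c • x) = c • ac g x := Matrix.mulVec_smul _ _ _

theorem ac_zorn (g : Cfsg.Lie.G2 K) (x y : Fin 8 → K) : ac g (zornMul x y) = zornMul (ac g x) (ac g y) := g.2 x y

theorem ac_inv_ac (g : Cfsg.Lie.G2 K) (x : Fin 8 → K) : ac g⁻¹ (ac g x) = x := by
  rw [← ac_mul, inv_mul_cancel, ac_one]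

theorem ac_ac_inv (g : Cfsg.Lie.G2 K) (x : Fin 8 → K) : ac g (ac g⁻¹ x) = x := by
  rw [← ac_mul, mul_inv_cancel, ac_one]

theorem ac_injective (g : Cfsg.Lie.G2 K) {x y : Fin 8 → K} (h : ac g x = ac g y) : x = y := by
  rw [← ac_inv_ac g x, h, ac_inv_ac]

/-! ### the root elements -/

/-- the root element `x_r(t)`; `7` = `α`, `6` = `β`, `8` = `α + β`, `9` = `2α + β`, `10` = `3α + β`, `11` = `3α + 2β`; `11 - r` is
the negative of `r` -/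
def y (r : Fin 12) (t : K) : Cfsg.Lie.G2 K := ⟨yG r t, yG_mem r t⟩

theorem ac_y4 (t : K) (x : Fin 8 → K) : ac (y 4 t) x =
    ![x 0 - t * x 1, x 1, x 2 - t * x 6, x 3 + t * x 5, x 4 + t * x 0 - t * x 7 - t ^ 2 * x 1, x 5, x 6, x 7 + t * x 1] :=
  mulVec_4 t x

theorem ac_y5 (t : K) (x : Fin 8 → K) : ac (y 5 t) x = ![x 0, x 1 + t * x 2, x 2, x 3, x 4, x 5 - t * x 4, x 6, x 7] :=
  mulVec_5 t x

theorem ac_y6 (t : K) (x : Fin 8 → K) : ac (y 6 t) x = ![x 0, x 1, x 2 + t * x 1, x 3, x 4 - t * x 5, x 5, x 6, x 7] :=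
  mulVec_6 t x

theorem ac_y7 (t : K) (x : Fin 8 → K) : ac (y 7 t) x =
    ![x 0 + t * x 4, x 1 - t * x 0 + t * x 7 - t ^ 2 * x 4, x 2, x 3, x 4, x 5 + t * x 3, x 6 - t * x 2, x 7 - t * x 4] :=
  mulVec_7 t x

theorem ac_y8 (t : K) (x : Fin 8 → K) : ac (y 8 t) x =
    ![x 0 + t * x 5, x 1, x 2 - t * x 0 + t * x 7 - t ^ 2 * x 5, x 3, x 4 - t * x 3, x 5, x 6 + t * x 1, x 7 - t * x 5] :=
  mulVec_8 t x

theorem ac_y9 (t : K) (x : Fin 8 → K) : ac (y 9 t) x =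
    ![x 0 + t * x 3, x 1 + t * x 5, x 2 - t * x 4, x 3, x 4, x 5, x 6 - t * x 0 + t * x 7 - t ^ 2 * x 3, x 7 - t * x 3] :=
  mulVec_9 t x

theorem ac_y10 (t : K) (x : Fin 8 → K) : ac (y 10 t) x = ![x 0, x 1 - t * x 3, x 2, x 3, x 4, x 5, x 6 + t * x 4, x 7] :=
  mulVec_10 t x

theorem ac_y11 (t : K) (x : Fin 8 → K) : ac (y 11 t) x = ![x 0, x 1, x 2 - t * x 3, x 3, x 4, x 5, x 6 + t * x 5, x 7] :=
  mulVec_11 t x

/-! ### the embedding -/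

/-- the image of an element of `GU K` -/
def em (g : GU K) : Cfsg.Lie.G2 K := y 7 g.a * y 6 g.b * y 8 g.c * y 9 g.d * y 10 (-g.e) * y 11 (-g.f)

/-- the action of `em g` -/
theorem ac_em (g : GU K) (x : Fin 8 → K) : ac (em g) x =
    ![x 0 + (g.d - g.a * g.c) * x 3 + g.a * x 4 + (g.c - g.a * g.b) * x 5,
      -g.a * x 0 + x 1 + (g.e - 2 * g.a * g.d + g.a ^ 2 * g.c) * x 3 - g.a ^ 2 * x 4
        + (g.d - 2 * g.a * g.c + g.a ^ 2 * g.b) * x 5 + g.a * x 7,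
      -g.c * x 0 + g.b * x 1 + x 2 + (g.f + g.b * g.e - 2 * g.c * g.d) * x 3 - g.d * x 4
        + (g.b * g.d - g.c ^ 2) * x 5 + g.c * x 7,
      x 3,
      -g.c * x 3 + x 4 - g.b * x 5,
      g.a * x 3 + x 5,
      (g.a * g.c - g.d) * x 0 + (g.c - g.a * g.b) * x 1 - g.a * x 2
        + (-g.d ^ 2 - g.a * g.f + g.c * g.e - g.a * g.b * g.e + 2 * g.a * g.c * g.d) * x 3 + (g.a * g.d - g.e) * x 4
        + (-g.f + g.a * g.c ^ 2 + g.c * g.d - g.a * g.b * g.d) * x 5 + x 6 + (g.d - g.a * g.c) * x 7,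
      (g.a * g.c - g.d) * x 3 - g.a * x 4 + (g.a * g.b - g.c) * x 5 + x 7] := by
  rw [em, ac_mul, ac_mul, ac_mul, ac_mul, ac_mul, ac_y11, ac_y10, ac_y9, ac_y8, ac_y6, ac_y7]
  ext i
  (revert i; simp only [_root_.Fin.forall_fin_succ, _root_.Nat.succ_eq_add_one, Nat.reduceAdd, Fin.isValue, _root_.neg_mul, _root_.sub_neg_eq_add, _root_.Matrix.cons_val_zero, _root_.Matrix.cons_val_one, _root_.Matrix.cons_val, _root_.Matrix.cons_val_succ, _root_.sub_left_inj, _root_.Matrix.cons_val_fin_one, _root_.forall_const, _root_.true_and]) <;> (repeat' with_reducible apply And.intro) <;> ring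

theorem em_mul (g h : GU K) : em (g * h) = em g * em h := by
  apply ac_ext
  intro x
  rw [ac_mul, ac_em, ac_em, ac_em]
  ext i
  (revert i; simp only [_root_.Fin.forall_fin_succ, _root_.Nat.succ_eq_add_one, Nat.reduceAdd, Fin.isValue, _root_.Cfsg.Agent.H779.G2.GU.mul_d, _root_.Cfsg.Agent.H779.G2.GU.mul_a, _root_.Cfsg.Agent.H779.G2.GU.mul_c, _root_.Cfsg.Agent.H779.G2.GU.mul_b, _root_.neg_add_rev, _root_.Cfsg.Agent.H779.G2.GU.mul_e, _root_.Cfsg.Agent.H779.G2.GU.mul_f, _root_.neg_sub, _root_.neg_mul, _root_.Matrix.cons_val_zero, _root_.Matrix.cons_val, _root_.Matrix.cons_val_one, _root_.Matrix.cons_val_succ, _root_.Matrix.cons_val_fin_one, _root_.forall_const, _root_.true_and]) <;> (repeat' with_reducible apply And.intro) <;> ring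

/-- **The embedding** of `GU K` into `G₂(K)`. -/
def emb : GU K →* Cfsg.Lie.G2 K := MonoidHom.mk' em em_mul

theorem ac_emb (g : GU K) (x : Fin 8 → K) : ac (emb g) x =
    ![x 0 + (g.d - g.a * g.c) * x 3 + g.a * x 4 + (g.c - g.a * g.b) * x 5,
      -g.a * x 0 + x 1 + (g.e - 2 * g.a * g.d + g.a ^ 2 * g.c) * x 3 - g.a ^ 2 * x 4
        + (g.d - 2 * g.a * g.c + g.a ^ 2 * g.b) * x 5 + g.a * x 7,
      -g.c * x 0 + g.b * x 1 + x 2 + (g.f + g.b * g.e - 2 * g.c * g.d) * x 3 - g.d * x 4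
        + (g.b * g.d - g.c ^ 2) * x 5 + g.c * x 7,
      x 3,
      -g.c * x 3 + x 4 - g.b * x 5,
      g.a * x 3 + x 5,
      (g.a * g.c - g.d) * x 0 + (g.c - g.a * g.b) * x 1 - g.a * x 2
        + (-g.d ^ 2 - g.a * g.f + g.c * g.e - g.a * g.b * g.e + 2 * g.a * g.c * g.d) * x 3 + (g.a * g.d - g.e) * x 4
        + (-g.f + g.a * g.c ^ 2 + g.c * g.d - g.a * g.b * g.d) * x 5 + x 6 + (g.d - g.a * g.c) * x 7,
      (g.a * g.c - g.d) * x 3 - g.a * x 4 + (g.a * g.b - g.c) * x 5 + x 7] := ac_em g x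

theorem emb_injective : Function.Injective (emb : GU K →* Cfsg.Lie.G2 K) := by
  rw [injective_iff_map_eq_one]
  intro g hg
  have h : ∀ x : Fin 8 → K, ac (emb g) x = x := fun x => by rw [hg, ac_one]
  have ha : g.a = 0 := by
    have := congrFun (h ![0, 0, 0, 0, 0, 0, 0, 1]) 1
    rw [ac_emb] at this
    simpa only [_root_.Nat.succ_eq_add_one, _root_.Nat.reduceAdd, _root_.Fin.isValue, _root_.Matrix.cons_val_zero, _root_.Matrix.cons_val, _root_.MulZeroClass.mul_zero, _root_.add_zero, _root_.Matrix.cons_val_one, _root_.sub_self, _root_.mul_one, _root_.zero_add] using this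
  have hc : g.c = 0 := by
    have := congrFun (h ![0, 0, 0, 0, 0, 0, 0, 1]) 2
    rw [ac_emb] at this
    simpa only [_root_.Nat.succ_eq_add_one, _root_.Nat.reduceAdd, _root_.Fin.isValue, _root_.Matrix.cons_val_zero, _root_.Matrix.cons_val, _root_.MulZeroClass.mul_zero, _root_.add_zero, _root_.Matrix.cons_val_one, _root_.sub_self, _root_.mul_one, _root_.zero_add] using this
  have hb : g.b = 0 := by
    have := congrFun (h ![0, 1, 0, 0, 0, 0, 0, 0]) 2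
    rw [ac_emb] at this
    simpa only [_root_.Nat.succ_eq_add_one, _root_.Nat.reduceAdd, _root_.Fin.isValue, _root_.Matrix.cons_val_zero, _root_.Matrix.cons_val, _root_.MulZeroClass.mul_zero, _root_.add_zero, _root_.Matrix.cons_val_one, _root_.zero_add, _root_.sub_zero, _root_.mul_one, _root_.sub_self] using this
  have hd : g.d = 0 := by
    have := congrFun (h ![0, 0, 0, 0, 1, 0, 0, 0]) 2
    rw [ac_emb] at this
    simpa only [_root_.Nat.succ_eq_add_one, _root_.Nat.reduceAdd, _root_.Fin.isValue, _root_.Matrix.cons_val_zero, _root_.Matrix.cons_val, _root_.MulZeroClass.mul_zero, _root_.add_zero, _root_.mul_one, _root_.zero_add, _root_.Matrix.cons_val_one, _root_.zero_sub, _root_.sub_zero, _root_.sub_self, _root_.neg_eq_zero] using this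
  have he : g.e = 0 := by
    have := congrFun (h ![0, 0, 0, 0, 1, 0, 0, 0]) 6
    rw [ac_emb] at this
    simpa [ha] using this
  have hf : g.f = 0 := by
    have := congrFun (h ![0, 0, 0, 1, 0, 0, 0, 0]) 2
    rw [ac_emb] at this
    simpa [hb, hc] using this
  exact GU.ext ha hb hc hd he hf

/-! ### the order -/

theorem finite_G2 [Finite K] : Finite (Cfsg.Lie.G2 K) := by
  have : Finite (GL (Fin 8) K) := Finite.of_injective (fun g : GL (Fin 8) K => (g : Matrix (Fin 8) (Fin 8) K))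
    (fun g h e => Units.ext e)
  infer_instance

theorem not_dvd_index {p n : ℕ} (h : HypG K p n) : ¬ p ∣ (emb : GU K →* Cfsg.Lie.G2 K).range.index := by
  have hfin : Finite K := h.fin
  have h1 : Nat.card (emb : GU K →* Cfsg.Lie.G2 K).range = Nat.card K ^ 6 := by
    rw [← Nat.card_congr (MonoidHom.ofInjective emb_injective).toEquiv, GU.card_eq]
  have h2 := (emb : GU K →* Cfsg.Lie.G2 K).range.card_mul_index
  rw [Cfsg.Agent.H638.G2Iso.card_G2, h1, mul_assoc] at h2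
  have h0 : 0 < Nat.card K ^ 6 := pow_pos Nat.card_pos 6
  have h3 := Nat.eq_of_mul_eq_mul_left h0 h2
  rw [h3]
  have hd : p ∣ Nat.card K := by
    rw [h.card]
    exact dvd_pow_self p (by have := h.hn; omega)
  have key : ∀ k : ℕ, k ≠ 0 → ¬ p ∣ Nat.card K ^ k - 1 := by
    intro k hk hdv
    have h4 : p ∣ Nat.card K ^ k := dvd_pow hd hk
    have h5 : 1 ≤ Nat.card K ^ k := Nat.one_le_pow _ _ Nat.card_pos
    have h6 := Nat.dvd_sub h4 hdv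
    rw [Nat.sub_sub_self h5] at h6
    exact h.pp.one_lt.ne' (Nat.dvd_one.1 h6)
  exact h.pp.not_dvd_mul (key 2 (by norm_num)) (key 6 (by norm_num))

end Cfsg.Agent.H913.GT
end

-- part: H913/GT/Tor
section
/-!
# S5211, task G2-REAL-a: the torus, the field automorphisms and the Weyl elements of `Cfsg.Lie.G2 K`
-/

set_option autoImplicit false

namespace Cfsg.Agent.H913.GT

open Cfsg.Lie Matrix Cfsg.Agent.H638.G2Rep Cfsg.Agent.H638.G2Mem Cfsg.Agent.H638.G2Link Cfsg.Agent.H779.G2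

universe u

variable {K : Type u} [Field K]

/-! ### the torus -/

/-- the diagonal of the torus element -/
def dv (s t : K) : Fin 8 → K := ![1, s, s * t, (s ^ 2 * t)⁻¹, s⁻¹, (s * t)⁻¹, s ^ 2 * t, 1]

theorem dv_mul_inv (s t : Kˣ) : Matrix.diagonal (dv (s : K) t) * Matrix.diagonal (dv (s : K)⁻¹ (t : K)⁻¹) = 1 := by
  have hs : (s : K) ≠ 0 := s.ne_zero
  have ht : (t : K) ≠ 0 := t.ne_zero
  rw [Matrix.diagonal_mul_diagonal, ← Matrix.diagonal_one]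
  congr 1
  funext i
  (revert i; simp only [dv, _root_.Fin.forall_fin_succ, _root_.mul_inv_rev, _root_.inv_pow, _root_.inv_inv, Fin.isValue, _root_.Matrix.cons_val_zero, _root_.mul_one, _root_.Matrix.cons_val_succ, _root_.ne_eq, _root_.Units.ne_zero, _root_.not_false_eq_true, _root_.mul_inv_cancel₀, _root_.inv_mul_cancel₀, _root_.Matrix.cons_val_fin_one, _root_.implies_true, _root_.and_true, _root_.true_and]) <;> (repeat' with_reducible apply And.intro) <;> field_simp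

/-- the torus element in `GL₈` -/
def torGL (s t : Kˣ) : GL (Fin 8) K where
  val := Matrix.diagonal (dv (s : K) t)
  inv := Matrix.diagonal (dv (s : K)⁻¹ (t : K)⁻¹)
  val_inv := dv_mul_inv s t
  inv_val := by
    have := dv_mul_inv s⁻¹ t⁻¹
    rwa [Units.val_inv_eq_inv_val, Units.val_inv_eq_inv_val, inv_inv, inv_inv] at this

theorem diag_mulVec (s t : Kˣ) (x : Fin 8 → K) : Matrix.diagonal (dv (s : K) t) *ᵥ x =
    ![x 0, s * x 1, s * t * x 2, ((s : K) ^ 2 * t)⁻¹ * x 3, (s : K)⁻¹ * x 4, ((s : K) * t)⁻¹ * x 5,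
      (s : K) ^ 2 * t * x 6, x 7] := by
  funext i
  rw [Matrix.mulVec_diagonal]
  (revert i; simp only [dv, _root_.Fin.forall_fin_succ, _root_.mul_inv_rev, _root_.Nat.succ_eq_add_one, Nat.reduceAdd, Fin.isValue, _root_.Matrix.cons_val_zero, _root_.one_mul, _root_.Matrix.cons_val_succ, _root_.Fin.succ_zero_eq_one, _root_.Fin.succ_one_eq_two, Fin.reduceSucc, _root_.Matrix.cons_val_fin_one, _root_.IsEmpty.forall_iff, _root_.and_self])

/-- the torus element `h(s, t)` -/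
def tor (s t : Kˣ) : Cfsg.Lie.G2 K := ⟨torGL s t, by
  have hs : (s : K) ≠ 0 := s.ne_zero
  have ht : (t : K) ≠ 0 := t.ne_zero
  intro x y
  show Matrix.diagonal (dv (s : K) t) *ᵥ zornMul x y =
    zornMul (Matrix.diagonal (dv (s : K) t) *ᵥ x) (Matrix.diagonal (dv (s : K) t) *ᵥ y)
  rw [diag_mulVec, diag_mulVec, diag_mulVec, zorn_apply, zorn_apply]
  ext i
  (revert i; simp only [_root_.Fin.forall_fin_succ, _root_.Nat.succ_eq_add_one, Nat.reduceAdd, Fin.isValue, _root_.Matrix.cons_val_zero, _root_.Matrix.cons_val_one, _root_.Matrix.cons_val, _root_.mul_inv_rev, _root_.add_right_inj, _root_.Matrix.cons_val_succ, _root_.Matrix.cons_val_fin_one, _root_.add_left_inj, _root_.forall_const]) <;> (repeat' with_reducible apply And.intro) <;> field_simp⟩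

theorem ac_tor (s t : Kˣ) (x : Fin 8 → K) : ac (tor s t) x =
    ![x 0, s * x 1, s * t * x 2, ((s : K) ^ 2 * t)⁻¹ * x 3, (s : K)⁻¹ * x 4, ((s : K) * t)⁻¹ * x 5,
      (s : K) ^ 2 * t * x 6, x 7] := diag_mulVec s t x

/-! ### field automorphisms -/

/-! ### the Weyl elements -/

/-- the Weyl element of the short root -/
def na : Cfsg.Lie.G2 K := y 7 1 * y 4 (-1) * y 7 1

/-- the Weyl element of the long root -/
def nb : Cfsg.Lie.G2 K := y 6 1 * y 5 (-1) * y 6 1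

theorem ac_na (x : Fin 8 → K) : ac (na : Cfsg.Lie.G2 K) x = ![x 7, - x 4, x 6, - x 5, - x 1, x 3, - x 2, x 0] := by
  rw [na, ac_mul, ac_mul, ac_y7, ac_y4, ac_y7]
  ext i
  (revert i; simp only [_root_.Fin.forall_fin_succ, _root_.Nat.succ_eq_add_one, Nat.reduceAdd, Fin.isValue, _root_.one_mul, _root_.one_pow, _root_.Matrix.cons_val_zero, _root_.Matrix.cons_val_one, _root_.neg_mul, _root_.neg_sub, _root_.Matrix.cons_val, _root_.sub_sub_cancel, _root_.neg_add_rev, _root_.add_neg_cancel_left, _root_.even_two, _root_.Even.neg_pow, _root_.sub_add_sub_cancel, _root_.sub_add_cancel_right, _root_.mul_neg, _root_.add_neg_cancel_comm, _root_.sub_sub_cancel_left, _root_.Matrix.cons_val_succ, _root_.Matrix.cons_val_fin_one, _root_.forall_const, _root_.true_and]) <;> (repeat' with_reducible apply And.intro) <;> ring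

theorem ac_nb (x : Fin 8 → K) : ac (nb : Cfsg.Lie.G2 K) x = ![x 0, - x 2, x 1, x 3, - x 5, x 4, x 6, x 7] := by
  rw [nb, ac_mul, ac_mul, ac_y6, ac_y5, ac_y6]
  ext i
  (revert i; simp [_root_.Fin.forall_fin_succ])

/-- `n_a` acts on `Q_a` as the Weyl element -/
theorem na_emb {γ : MulAut (Qa K)} (h : IsWa γ) (e : Qa K) :
    na * emb (e : GU K) * na⁻¹ = emb ((γ e : Qa K) : GU K) := by
  rw [mul_inv_eq_iff_eq_mul]
  apply ac_ext
  intro x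
  have h0 : (e : GU K).a = 0 := e.2
  have h1 : ((γ e : Qa K) : GU K).a = 0 := (γ e).2
  rw [ac_mul, ac_mul, ac_emb, ac_na, ac_na, ac_emb, h0, h1, h.b, h.c, h.d, h.e, h.f]
  ext i
  (revert i; simp only [_root_.Fin.forall_fin_succ, _root_.Nat.succ_eq_add_one, Nat.reduceAdd, Fin.isValue, _root_.MulZeroClass.zero_mul, _root_.sub_zero, _root_.add_zero, _root_.neg_zero, _root_.zero_add, _root_.MulZeroClass.mul_zero, _root_.ne_eq, _root_.OfNat.ofNat_ne_zero, _root_.not_false_eq_true, _root_.zero_pow, _root_.neg_mul, _root_.zero_sub, _root_.Matrix.cons_val, _root_.neg_sub, _root_.Matrix.cons_val_one, _root_.Matrix.cons_val_zero, _root_.neg_add_rev, _root_.mul_neg, _root_.neg_neg, _root_.sub_neg_eq_add, _root_.even_two, _root_.Even.neg_pow, _root_.Matrix.cons_val_succ, _root_.Matrix.cons_val_fin_one, _root_.forall_const, _root_.true_and]) <;> (repeat' with_reducible apply And.intro)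 <;> ring

/-- `n_b` acts on `Q_b` as the Weyl element -/
theorem nb_emb {γ : MulAut (Qb K)} (h : IsWb γ) (e : Qb K) :
    nb * emb (e : GU K) * nb⁻¹ = emb ((γ e : Qb K) : GU K) := by
  rw [mul_inv_eq_iff_eq_mul]
  apply ac_ext
  intro x
  have h0 : (e : GU K).b = 0 := e.2
  have h1 : ((γ e : Qb K) : GU K).b = 0 := (γ e).2
  rw [ac_mul, ac_mul, ac_emb, ac_nb, ac_nb, ac_emb, h0, h1, h.a, h.c, h.d, h.e, h.f]
  ext i
  (revert i; simp only [_root_.Fin.forall_fin_succ, _root_.Nat.succ_eq_add_one, Nat.reduceAdd, Fin.isValue, _root_.MulZeroClass.mul_zero, _root_.sub_zero, _root_.neg_mul, _root_.add_zero, _root_.MulZeroClass.zero_mul, _root_.zero_sub, _root_.Matrix.cons_val_zero, _root_.Matrix.cons_val, _root_.neg_add_rev, _root_.neg_neg, _root_.neg_sub, _root_.Matrix.cons_val_one, _root_.sub_neg_eq_add, _root_.mul_neg, _root_.even_two, _root_.Even.neg_pow, _root_.neg_zero, _root_.Matrix.cons_val_succ,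 _root_.add_left_inj, _root_.Matrix.cons_val_fin_one, _root_.forall_const, _root_.true_and]) <;> (repeat' with_reducible apply And.intro) <;> ring

/-! ### torus and field automorphisms on `GU K` -/

end Cfsg.Agent.H913.GT
end

private theorem dce_fd640b1e06c9 : _root_.True := by
  try have : _root_.True := by simp only [_root_.Cfsg.Agent.H913.GT.dv.eq_1]
  try have : _root_.True := by simp only [_root_.Cfsg.Agent.H913.GT.ac.eq_1]
  try have : _root_.True := by simp only [_root_.Cfsg.Agent.H650.GA.waE.eq_1]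
  try have : _root_.True := by simp only [_root_.Cfsg.Agent.H913.GT.nb.eq_1]
  try have : _root_.True := by simp only [_root_.Cfsg.Agent.H650.GA.wbE.eq_1]
  try have : _root_.True := by simp only [_root_.Cfsg.Agent.H913.GT.na.eq_1]
  try have : _root_.True := by simp only [_root_.Cfsg.Agent.H913.GT.em.eq_1]
  exact _root_.True.intro
end

section
prune_inst 0xfffdffbdf8bddfdfff7e7ffeffdffffdf87ffffffffdcbfff8e5ff0fdf4b0aede5abad9fe810ff1ff6629630f87b53fdffdfffef6bfc7ffffd5ff45ffbffcffdf7bf8851df8cb40fbc0fff63f07f8e7f000000000000000000000000000000004200000000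

-- part: H650/Q5/HomU
section
set_option linter.all false
open scoped Cfsg.Agent.FastGrp

/-!
# S5211, block q = 5: homomorphisms from `U5` given by the relations of a Sylow 5-subgroup of `HN` (helper650)

`Rel z n1 n2 n3 n4 a`: relations between six elements of a group; they define a group of order at most `5⁶`
(`card_le`) and are satisfied by elements `ν …` of `U5` which generate `U5`; `exists_hom`.
-/

set_option autoImplicit false

namespace Cfsg.Agent.H650.Q5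

open Cfsg Cfsg.Agent.H24.Q5 Cfsg.Agent.H779.G2 Subgroup Pointwise

/-- the relations -/
structure Rel {G : Type*} [Group G] (z n1 n2 n3 n4 a : G) : Prop where
  z5 : z ^ 5 = 1
  a5 : a ^ 5 = 1
  p1 : n1 ^ 5 = 1
  p2 : n2 ^ 5 = 1
  p3 : n3 ^ 5 = 1
  p4 : n4 ^ 5 = 1
  zn1 : z * n1 = n1 * z
  zn2 : z * n2 = n2 * z
  zn3 : z * n3 = n3 * z
  zn4 : z * n4 = n4 * z
  za : z * a = a * z
  n12 : n1 * n2 = n2 * n1
  n13 : n1 * n3 = n3 * n1
  n14 : n1 * n4 = z ^ 2 * n4 * n1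
  n23 : n2 * n3 = z ^ 3 * n3 * n2
  n24 : n2 * n4 = z ^ 2 * n4 * n2
  n34 : n3 * n4 = n4 * n3
  an1 : a * n1 = n1 * a
  an2 : a * n2 = n1 * n2 * a
  an3 : a * n3 = n2 * n3 * a
  an4 : a * n4 = n3 * n4 * a

section gen

variable {G : Type*} [Group G]

/-- adding an element of order 5 normalizing the subgroup -/
theorem card_step [Finite G] {K : Subgroup G} {x : G} {n : ℕ} (hx : x ^ 5 = 1) (hn : K ≤ K.comap (MulAut.conj x).toMonoidHom)
    (hK : Nat.card K ≤ n) : Nat.card (K ⊔ zpowers x : Subgroup G) ≤ n * 5 := by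
  have hnp : ∀ m : ℕ, ∀ k ∈ K, x ^ m * k * (x ^ m)⁻¹ ∈ K := by
    intro m
    induction m with
    | zero => intro k hk; simpa using hk
    | succ m ih =>
      intro k hk
      have e : x ^ (m + 1) * k * (x ^ (m + 1))⁻¹ = x * (x ^ m * k * (x ^ m)⁻¹) * x⁻¹ := by
        rw [pow_succ']; group
      rw [e]
      exact hn (ih k hk)
  have hinv : x ^ 4 = x⁻¹ := by
    rw [eq_inv_iff_mul_eq_one, ← pow_succ, hx]
  have hxN : zpowers x ≤ normalizer (K : Set G) := by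
    rw [zpowers_le, mem_normalizer_iff]
    intro k
    refine ⟨fun hk => hn hk, fun hk => ?_⟩
    have h1 := hnp 4 _ hk
    rw [hinv] at h1
    have e : x⁻¹ * (x * k * x⁻¹) * x⁻¹⁻¹ = k := by group
    rwa [e] at h1
  have h1 : ((K ⊔ zpowers x : Subgroup G) : Set G) = (K : Set G) * (zpowers x : Set G) :=
    coe_mul_of_right_le_normalizer_left K (zpowers x) hxN
  have h2 : Nat.card (K ⊔ zpowers x : Subgroup G) ≤ Nat.card K * Nat.card (zpowers x) := by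
    have h3 := Set.natCard_mul_le (s := (K : Set G)) (t := (zpowers x : Set G))
    rw [← h1] at h3
    exact h3
  have h4 : Nat.card (zpowers x) ≤ 5 := by
    rw [Nat.card_zpowers]
    exact Nat.le_of_dvd (by norm_num) (orderOf_dvd_of_pow_eq_one hx)
  exact h2.trans (Nat.mul_le_mul hK h4)

variable {z n1 n2 n3 n4 a : G}

variable (z n1 n2 n3 n4 a) in
/-- the subgroup -/
def W : Subgroup G := zpowers z ⊔ zpowers n1 ⊔ zpowers n2 ⊔ zpowers n3 ⊔ zpowers n4 ⊔ zpowers a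

variable (z n1 n2 n3 n4) in
/-- the subgroup without `a` -/
def WQ : Subgroup G := zpowers z ⊔ zpowers n1 ⊔ zpowers n2 ⊔ zpowers n3 ⊔ zpowers n4

theorem z_mem_WQ : z ∈ WQ z n1 n2 n3 n4 :=
  mem_sup_left (mem_sup_left (mem_sup_left (mem_sup_left (mem_zpowers z))))
theorem n1_mem_WQ : n1 ∈ WQ z n1 n2 n3 n4 :=
  mem_sup_left (mem_sup_left (mem_sup_left (mem_sup_right (mem_zpowers n1))))
theorem n2_mem_WQ : n2 ∈ WQ z n1 n2 n3 n4 := mem_sup_left (mem_sup_left (mem_sup_right (mem_zpowers n2)))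
theorem n3_mem_WQ : n3 ∈ WQ z n1 n2 n3 n4 := mem_sup_left (mem_sup_right (mem_zpowers n3))
theorem n4_mem_WQ : n4 ∈ WQ z n1 n2 n3 n4 := mem_sup_right (mem_zpowers n4)

theorem WQ_le {K : Subgroup G} (h0 : z ∈ K) (h1 : n1 ∈ K) (h2 : n2 ∈ K) (h3 : n3 ∈ K) (h4 : n4 ∈ K) :
    WQ z n1 n2 n3 n4 ≤ K := by
  unfold WQ
  simp only [sup_le_iff, zpowers_le]
  exact ⟨⟨⟨⟨h0, h1⟩, h2⟩, h3⟩, h4⟩

theorem W_eq : W z n1 n2 n3 n4 a = WQ z n1 n2 n3 n4 ⊔ zpowers a := rfl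

theorem WQ_le_W : WQ z n1 n2 n3 n4 ≤ W z n1 n2 n3 n4 a := le_sup_left

theorem a_mem_W : a ∈ W z n1 n2 n3 n4 a := mem_sup_right (mem_zpowers a)

theorem W_le {K : Subgroup G} (h0 : z ∈ K) (h1 : n1 ∈ K) (h2 : n2 ∈ K) (h3 : n3 ∈ K) (h4 : n4 ∈ K) (h5 : a ∈ K) :
    W z n1 n2 n3 n4 a ≤ K := by
  rw [W_eq, sup_le_iff, zpowers_le]
  exact ⟨WQ_le h0 h1 h2 h3 h4, h5⟩

theorem conj_of {x y w : G} (h : x * y = w * x) : (MulAut.conj x).toMonoidHom y = w := by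
  show x * y * x⁻¹ = w
  rw [h, mul_inv_cancel_right]

/-- **the order** -/
theorem Rel.card_le [Finite G] (h : Rel z n1 n2 n3 n4 a) : Nat.card (W z n1 n2 n3 n4 a) ≤ 5 ^ 6 := by
  have k0 : Nat.card (zpowers z) ≤ 5 := by
    rw [Nat.card_zpowers]
    exact Nat.le_of_dvd (by norm_num) (orderOf_dvd_of_pow_eq_one h.z5)
  have z2 : ∀ m : ℕ, ∀ K : Subgroup G, z ∈ K → ∀ y ∈ K, z ^ m * y ∈ K := fun m K hz y hy => K.mul_mem (K.pow_mem hz m) hy
  -- conjugates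
  have c1z := conj_of h.zn1.symm
  have c2z := conj_of h.zn2.symm
  have c3z := conj_of h.zn3.symm
  have c4z := conj_of h.zn4.symm
  have caz := conj_of h.za.symm
  have c21 := conj_of h.n12.symm
  have c31 := conj_of h.n13.symm
  have c32 : (MulAut.conj n3).toMonoidHom n2 = z ^ 2 * n2 := by
    apply conj_of
    have e : z ^ 2 * (n2 * n3) = z ^ 5 * (n3 * n2) := by rw [h.n23]; simp only [pow_succ, pow_zero, one_mul, mul_assoc]
    rw [h.z5, one_mul] at e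
    rw [← e, mul_assoc]
  have c41 : (MulAut.conj n4).toMonoidHom n1 = z ^ 3 * n1 := by
    apply conj_of
    have e : z ^ 3 * (n1 * n4) = z ^ 5 * (n4 * n1) := by rw [h.n14]; simp only [pow_succ, pow_zero, one_mul, mul_assoc]
    rw [h.z5, one_mul] at e
    rw [← e, mul_assoc]
  have c42 : (MulAut.conj n4).toMonoidHom n2 = z ^ 3 * n2 := by
    apply conj_of
    have e : z ^ 3 * (n2 * n4) = z ^ 5 * (n4 * n2) := by rw [h.n24]; simp only [pow_succ, pow_zero, one_mul, mul_assoc]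
    rw [h.z5, one_mul] at e
    rw [← e, mul_assoc]
  have c43 := conj_of h.n34.symm
  have ca1 := conj_of h.an1
  have ca2 := conj_of h.an2
  have ca3 := conj_of h.an3
  have ca4 := conj_of h.an4
  have k1 : Nat.card (zpowers z ⊔ zpowers n1 : Subgroup G) ≤ 5 * 5 := by
    refine card_step h.p1 ?_ k0
    rw [zpowers_le, mem_comap, c1z]
    exact mem_zpowers z
  have k2 : Nat.card (zpowers z ⊔ zpowers n1 ⊔ zpowers n2 : Subgroup G) ≤ 5 * 5 * 5 := by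
    refine card_step h.p2 ?_ k1
    rw [sup_le_iff, zpowers_le, zpowers_le, mem_comap, mem_comap, c2z, c21]
    exact ⟨mem_sup_left (mem_zpowers z), mem_sup_right (mem_zpowers n1)⟩
  have k3 : Nat.card (zpowers z ⊔ zpowers n1 ⊔ zpowers n2 ⊔ zpowers n3 : Subgroup G) ≤ 5 * 5 * 5 * 5 := by
    refine card_step h.p3 ?_ k2
    rw [sup_le_iff, sup_le_iff, zpowers_le, zpowers_le, zpowers_le, mem_comap, mem_comap, mem_comap, c3z, c31, c32]
    have hz : z ∈ zpowers z ⊔ zpowers n1 ⊔ zpowers n2 := mem_sup_left (mem_sup_left (mem_zpowers z))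
    exact ⟨⟨hz, mem_sup_left (mem_sup_right (mem_zpowers n1))⟩, z2 _ _ hz _ (mem_sup_right (mem_zpowers n2))⟩
  have k4 : Nat.card (WQ z n1 n2 n3 n4 : Subgroup G) ≤ 5 * 5 * 5 * 5 * 5 := by
    refine card_step h.p4 ?_ k3
    have hz : z ∈ zpowers z ⊔ zpowers n1 ⊔ zpowers n2 ⊔ zpowers n3 :=
      mem_sup_left (mem_sup_left (mem_sup_left (mem_zpowers z)))
    rw [sup_le_iff, sup_le_iff, sup_le_iff, zpowers_le, zpowers_le, zpowers_le, zpowers_le, mem_comap, mem_comap,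
      mem_comap, mem_comap, c4z, c41, c42, c43]
    exact ⟨⟨⟨hz, z2 _ _ hz _ (mem_sup_left (mem_sup_left (mem_sup_right (mem_zpowers n1))))⟩,
      z2 _ _ hz _ (mem_sup_left (mem_sup_right (mem_zpowers n2)))⟩, mem_sup_right (mem_zpowers n3)⟩
  have k5 : Nat.card (W z n1 n2 n3 n4 a : Subgroup G) ≤ 5 * 5 * 5 * 5 * 5 * 5 := by
    refine card_step h.a5 ?_ k4
    refine WQ_le ?_ ?_ ?_ ?_ ?_
    · rw [mem_comap, caz]; exact z_mem_WQ
    · rw [mem_comap, ca1]; exact n1_mem_WQ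
    · rw [mem_comap, ca2]; exact mul_mem n1_mem_WQ n2_mem_WQ
    · rw [mem_comap, ca3]; exact mul_mem n2_mem_WQ n3_mem_WQ
    · rw [mem_comap, ca4]; exact mul_mem n3_mem_WQ n4_mem_WQ
  exact k5.trans (by norm_num)

/-- pairs -/
theorem Rel.prod {H : Type*} [Group H] {z' n1' n2' n3' n4' a' : H} (h : Rel z n1 n2 n3 n4 a)
    (h' : Rel z' n1' n2' n3' n4' a') : Rel (z, z') (n1, n1') (n2, n2') (n3, n3') (n4, n4') (a, a') where
  z5 := Prod.ext h.z5 h'.z5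
  a5 := Prod.ext h.a5 h'.a5
  p1 := Prod.ext h.p1 h'.p1
  p2 := Prod.ext h.p2 h'.p2
  p3 := Prod.ext h.p3 h'.p3
  p4 := Prod.ext h.p4 h'.p4
  zn1 := Prod.ext h.zn1 h'.zn1
  zn2 := Prod.ext h.zn2 h'.zn2
  zn3 := Prod.ext h.zn3 h'.zn3
  zn4 := Prod.ext h.zn4 h'.zn4
  za := Prod.ext h.za h'.za
  n12 := Prod.ext h.n12 h'.n12
  n13 := Prod.ext h.n13 h'.n13
  n14 := Prod.ext h.n14 h'.n14
  n23 := Prod.ext h.n23 h'.n23
  n24 := Prod.ext h.n24 h'.n24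
  n34 := Prod.ext h.n34 h'.n34
  an1 := Prod.ext h.an1 h'.an1
  an2 := Prod.ext h.an2 h'.an2
  an3 := Prod.ext h.an3 h'.an3
  an4 := Prod.ext h.an4 h'.an4

end gen

/-! ### The elements of `U5` -/

def uz : U5 := ⟨0, 0, 0, 0, 0, 2⟩
def u1 : U5 := ⟨0, 0, 0, 0, 1, 0⟩
def u2 : U5 := ⟨0, 0, 0, 2, 1, 2⟩
def u3 : U5 := ⟨0, 0, 1, 1, 3, 4⟩
def u4 : U5 := ⟨0, 1, 0, 4, 2, 2⟩
def ua : U5 := ⟨4, 0, 0, 0, 0, 0⟩

theorem relU : Rel uz u1 u2 u3 u4 ua := by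
  constructor <;> (apply GU.ext <;> decide)

/-! `U5` is generated by these elements -/

def xa : U5 := ⟨1, 0, 0, 0, 0, 0⟩
def xb : U5 := ⟨0, 1, 0, 0, 0, 0⟩
def xc : U5 := ⟨0, 0, 1, 0, 0, 0⟩
def xd : U5 := ⟨0, 0, 0, 1, 0, 0⟩
def xe : U5 := ⟨0, 0, 0, 0, 1, 0⟩
def xf : U5 := ⟨0, 0, 0, 0, 0, 1⟩

theorem xa_eq : xa = ua ^ 4 := by apply GU.ext <;> decide
theorem xb_eq : xb = u2 ^ 3 * u4 := by apply GU.ext <;> decide
theorem xc_eq : xc = u2 ^ 2 * u3 := by apply GU.ext <;> decide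
theorem xd_eq : xd = u1 ^ 2 * u2 ^ 3 * uz ^ 2 := by apply GU.ext <;> decide
theorem xe_eq : xe = u1 := rfl
theorem xf_eq : xf = uz ^ 3 := by apply GU.ext <;> decide

theorem xa_pow (n : ℕ) : xa ^ n = ⟨n, 0, 0, 0, 0, 0⟩ := by
  induction n with
  | zero => rw [pow_zero]; ext <;> simp
  | succ n ih => rw [pow_succ, ih]; ext <;> simp [xa]
theorem xb_pow (n : ℕ) : xb ^ n = ⟨0, n, 0, 0, 0, 0⟩ := by
  induction n with
  | zero => rw [pow_zero]; ext <;> simp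
  | succ n ih => rw [pow_succ, ih]; ext <;> simp [xb]
theorem xc_pow (n : ℕ) : xc ^ n = ⟨0, 0, n, 0, 0, 0⟩ := by
  induction n with
  | zero => rw [pow_zero]; ext <;> simp
  | succ n ih => rw [pow_succ, ih]; ext <;> simp [xc]
theorem xd_pow (n : ℕ) : xd ^ n = ⟨0, 0, 0, n, 0, 0⟩ := by
  induction n with
  | zero => rw [pow_zero]; ext <;> simp
  | succ n ih => rw [pow_succ, ih]; ext <;> simp [xd]
theorem xe_pow (n : ℕ) : xe ^ n = ⟨0, 0, 0, 0, n, 0⟩ := by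
  induction n with
  | zero => rw [pow_zero]; ext <;> simp
  | succ n ih => rw [pow_succ, ih]; ext <;> simp [xe]
theorem xf_pow (n : ℕ) : xf ^ n = ⟨0, 0, 0, 0, 0, n⟩ := by
  induction n with
  | zero => rw [pow_zero]; ext <;> simp
  | succ n ih => rw [pow_succ, ih]; ext <;> simp [xf]

theorem eq_prod (u : U5) :
    u = xa ^ u.a.val * (xb ^ u.b.val * xc ^ u.c.val * xd ^ u.d.val * xe ^ u.e.val * xf ^ u.f.val) := by
  rw [xa_pow, xb_pow, xc_pow, xd_pow, xe_pow, xf_pow]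
  ext <;> simp

theorem mem_WQ_of {u : U5} (h : u ∈ A5) : u ∈ WQ uz u1 u2 u3 u4 := by
  have h0 : u.a = 0 := h
  rw [eq_prod u, h0, xb_eq, xc_eq, xd_eq, xe_eq, xf_eq]
  simp only [ZMod.val_zero, pow_zero, one_mul]
  have k0 : uz ∈ WQ uz u1 u2 u3 u4 := z_mem_WQ
  have k1 : u1 ∈ WQ uz u1 u2 u3 u4 := n1_mem_WQ
  have k2 : u2 ∈ WQ uz u1 u2 u3 u4 := n2_mem_WQ
  have k3 : u3 ∈ WQ uz u1 u2 u3 u4 := n3_mem_WQ
  have k4 : u4 ∈ WQ uz u1 u2 u3 u4 := n4_mem_WQ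
  exact mul_mem (mul_mem (mul_mem (mul_mem (pow_mem (mul_mem (pow_mem k2 _) k4) _) (pow_mem (mul_mem (pow_mem k2 _) k3) _))
    (pow_mem (mul_mem (mul_mem (pow_mem k1 _) (pow_mem k2 _)) (pow_mem k0 _)) _)) (pow_mem k1 _)) (pow_mem (pow_mem k0 _) _)

theorem W_eq_top : W uz u1 u2 u3 u4 ua = ⊤ := by
  rw [eq_top_iff]
  rintro u -
  rw [eq_prod u]
  refine mul_mem (pow_mem (xa_eq ▸ pow_mem a_mem_W _) _) ?_
  apply WQ_le_W
  apply mem_WQ_of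
  rw [xb_pow, xc_pow, xd_pow, xe_pow, xf_pow]
  show _ = _
  simp

/-- **the homomorphism given by the relations** -/
theorem exists_hom {G : Type*} [Group G] [Finite G] {z n1 n2 n3 n4 a : G} (h : Rel z n1 n2 n3 n4 a) :
    ∃ φ : U5 →* G, φ uz = z ∧ φ u1 = n1 ∧ φ u2 = n2 ∧ φ u3 = n3 ∧ φ u4 = n4 ∧ φ ua = a := by
  have hR := relU.prod h
  set V : Subgroup (U5 × G) := W (uz, z) (u1, n1) (u2, n2) (u3, n3) (u4, n4) (ua, a) with hV
  have hle : Nat.card V ≤ 5 ^ 6 := hR.card_le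
  have m0 : (uz, z) ∈ V := WQ_le_W z_mem_WQ
  have m1 : (u1, n1) ∈ V := WQ_le_W n1_mem_WQ
  have m2 : (u2, n2) ∈ V := WQ_le_W n2_mem_WQ
  have m3 : (u3, n3) ∈ V := WQ_le_W n3_mem_WQ
  have m4 : (u4, n4) ∈ V := WQ_le_W n4_mem_WQ
  have m5 : (ua, a) ∈ V := a_mem_W
  let f : V →* U5 := (MonoidHom.fst U5 G).comp V.subtype
  have hs : Function.Surjective f := by
    rw [← MonoidHom.range_eq_top, eq_top_iff, ← W_eq_top]
    exact W_le ⟨⟨_, m0⟩, rfl⟩ ⟨⟨_, m1⟩, rfl⟩ ⟨⟨_, m2⟩, rfl⟩ ⟨⟨_, m3⟩, rfl⟩ ⟨⟨_, m4⟩, rfl⟩ ⟨⟨_, m5⟩, rfl⟩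
  have hcard : Nat.card U5 = 5 ^ 6 := by rw [GU.card_eq, Nat.card_zmod]
  have hb : Function.Bijective f := by
    rw [Nat.bijective_iff_surjective_and_card]
    exact ⟨hs, le_antisymm (hcard ▸ hle) (Nat.card_le_card_of_surjective f hs)⟩
  let e : V ≃* U5 := MulEquiv.ofBijective f hb
  have key : ∀ (u : U5) (g : G) (hm : (u, g) ∈ V), (MonoidHom.snd U5 G) (e.symm u : V) = g := by
    intro u g hm
    have h2 : e.symm u = ⟨(u, g), hm⟩ := e.symm_apply_eq.2 rfl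
    rw [h2]
    rfl
  refine ⟨((MonoidHom.snd U5 G).comp V.subtype).comp e.symm.toMonoidHom, ?_, ?_, ?_, ?_, ?_, ?_⟩
  · exact key _ _ m0
  · exact key _ _ m1
  · exact key _ _ m2
  · exact key _ _ m3
  · exact key _ _ m4
  · exact key _ _ m5

end Cfsg.Agent.H650.Q5

private theorem dce_2d5b98e05a89 : _root_.True := by
  try have : _root_.True := by simp only [_root_.Cfsg.Agent.H650.Q5.xa.eq_1]
  try have : _root_.True := by simp only [_root_.Cfsg.Agent.H650.Q5.xe.eq_1]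
  try have : _root_.True := by simp only [_root_.Cfsg.Agent.H650.Q5.xb.eq_1]
  try have : _root_.True := by simp only [_root_.Cfsg.Agent.H650.Q5.xf.eq_1]
  try have : _root_.True := by simp only [_root_.Cfsg.Agent.H650.Q5.xc.eq_1]
  try have : _root_.True := by simp only [_root_.Cfsg.Agent.H650.Q5.xd.eq_1]
  exact _root_.True.intro
end

-- part: H913/GT/Nrm
section
prune_inst 0x20042044220000001800000200002030000000000000000020010001484020250520013830000098008c506008002002000100402800000a00080000010000000002020100a000000000000000000000000000000000000000000000000000000000000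
set_option linter.all false
open scoped Cfsg.Agent.FastGrp

/-!
# S5211, task G2-REAL-a: the normalizer of `emb.range` in `Cfsg.Lie.G2 K`
-/

set_option autoImplicit false

namespace Cfsg.Agent.H913.GT

open Cfsg.Lie Matrix Cfsg.Agent.H638.G2Mem Cfsg.Agent.H779.G2

universe u

variable {K : Type u} [Field K]

/-! ### isotropic vectors -/

theorem sq0 {v : Fin 8 → K} (h : zornMul v v = 0) :
    v 7 = - v 0 ∧ v 1 * v 4 + v 2 * v 5 + v 3 * v 6 = - v 0 ^ 2 := by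
  rw [zorn_apply] at h
  have e0 : v 0 * v 0 + (v 1 * v 4 + v 2 * v 5 + v 3 * v 6) = 0 := congrFun h 0
  have e1 : v 0 * v 1 + v 7 * v 1 - (v 5 * v 6 - v 6 * v 5) = 0 := congrFun h 1
  have e2 : v 0 * v 2 + v 7 * v 2 - (v 6 * v 4 - v 4 * v 6) = 0 := congrFun h 2
  have e3 : v 0 * v 3 + v 7 * v 3 - (v 4 * v 5 - v 5 * v 4) = 0 := congrFun h 3
  have e7 : (v 4 * v 1 + v 5 * v 2 + v 6 * v 3) + v 7 * v 7 = 0 := congrFun h 7
  have hS : v 1 * v 4 + v 2 * v 5 + v 3 * v 6 = - v 0 ^ 2 := by linear_combination e0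
  refine ⟨?_, hS⟩
  by_contra hne
  have hne' : v 0 + v 7 ≠ 0 := fun h' => hne (by linear_combination h')
  have h1 : v 1 = 0 := (mul_eq_zero.1 (show (v 0 + v 7) * v 1 = 0 by linear_combination e1)).resolve_left hne'
  have h2 : v 2 = 0 := (mul_eq_zero.1 (show (v 0 + v 7) * v 2 = 0 by linear_combination e2)).resolve_left hne'
  have h3 : v 3 = 0 := (mul_eq_zero.1 (show (v 0 + v 7) * v 3 = 0 by linear_combination e3)).resolve_left hne'
  rw [h1, h2, h3] at e0 e7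
  have h0 : v 0 = 0 := by
    have : v 0 * v 0 = 0 := by linear_combination e0
    exact mul_self_eq_zero.1 this
  have h7 : v 7 = 0 := by
    have : v 7 * v 7 = 0 := by linear_combination e7
    exact mul_self_eq_zero.1 this
  exact hne (by rw [h0, h7, neg_zero])

omit [Field K] in
private theorem v8 {a0 a1 a2 a3 a4 a5 a6 a7 b0 b1 b2 b3 b4 b5 b6 b7 : K} (h0 : a0 = b0) (h1 : a1 = b1) (h2 : a2 = b2)
    (h3 : a3 = b3) (h4 : a4 = b4) (h5 : a5 = b5) (h6 : a6 = b6) (h7 : a7 = b7) :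
    ![a0, a1, a2, a3, a4, a5, a6, a7] = ![b0, b1, b2, b3, b4, b5, b6, b7] := by
  rw [h0, h1, h2, h3, h4, h5, h6, h7]

omit [Field K] in
private theorem eta8 (v : Fin 8 → K) : v = ![v 0, v 1, v 2, v 3, v 4, v 5, v 6, v 7] := by
  funext i
  fin_cases i <;> rfl

private theorem sg0 : (Pi.single 0 1 : Fin 8 → K) = ![1, 0, 0, 0, 0, 0, 0, 0] := eta8 _
private theorem sg1 : (Pi.single 1 1 : Fin 8 → K) = ![0, 1, 0, 0, 0, 0, 0, 0] := eta8 _
private theorem sg2 : (Pi.single 2 1 : Fin 8 → K) = ![0, 0, 1, 0, 0, 0, 0, 0] := eta8 _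
private theorem sg3 : (Pi.single 3 1 : Fin 8 → K) = ![0, 0, 0, 1, 0, 0, 0, 0] := eta8 _
private theorem sg4 : (Pi.single 4 1 : Fin 8 → K) = ![0, 0, 0, 0, 1, 0, 0, 0] := eta8 _
private theorem sg5 : (Pi.single 5 1 : Fin 8 → K) = ![0, 0, 0, 0, 0, 1, 0, 0] := eta8 _
private theorem sg6 : (Pi.single 6 1 : Fin 8 → K) = ![0, 0, 0, 0, 0, 0, 1, 0] := eta8 _
private theorem sg7 : (Pi.single 7 1 : Fin 8 → K) = ![0, 0, 0, 0, 0, 0, 0, 1] := eta8 _
private theorem sgz : (0 : Fin 8 → K) = ![0, 0, 0, 0, 0, 0, 0, 0] := eta8 _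

private theorem zorn8 (x0 x1 x2 x3 x4 x5 x6 x7 y0 y1 y2 y3 y4 y5 y6 y7 : K) :
    zornMul ![x0, x1, x2, x3, x4, x5, x6, x7] ![y0, y1, y2, y3, y4, y5, y6, y7] = ![
    x0 * y0 + (x1 * y4 + x2 * y5 + x3 * y6),
    x0 * y1 + y7 * x1 - (x5 * y6 - x6 * y5),
    x0 * y2 + y7 * x2 - (x6 * y4 - x4 * y6),
    x0 * y3 + y7 * x3 - (x4 * y5 - x5 * y4),
    y0 * x4 + x7 * y4 + (x2 * y3 - x3 * y2),
    y0 * x5 + x7 * y5 + (x3 * y1 - x1 * y3),
    y0 * x6 + x7 * y6 + (x1 * y2 - x2 * y1),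
    (x4 * y1 + x5 * y2 + x6 * y3) + x7 * y7] := zorn_apply _ _

private theorem add8 (x0 x1 x2 x3 x4 x5 x6 x7 y0 y1 y2 y3 y4 y5 y6 y7 : K) :
    ![x0, x1, x2, x3, x4, x5, x6, x7] + ![y0, y1, y2, y3, y4, y5, y6, y7] =
      ![x0 + y0, x1 + y1, x2 + y2, x3 + y3, x4 + y4, x5 + y5, x6 + y6, x7 + y7] := eta8 _

private theorem smul8 (c x0 x1 x2 x3 x4 x5 x6 x7 : K) :
    c • ![x0, x1, x2, x3, x4, x5, x6, x7] =
      ![c * x0, c * x1, c * x2, c * x3, c * x4, c * x5, c * x6, c * x7] := eta8 _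

private theorem emb8 (g : GU K) (x0 x1 x2 x3 x4 x5 x6 x7 : K) : ac (emb g) ![x0, x1, x2, x3, x4, x5, x6, x7] =
    ![x0 + (g.d - g.a * g.c) * x3 + g.a * x4 + (g.c - g.a * g.b) * x5,
      -g.a * x0 + x1 + (g.e - 2 * g.a * g.d + g.a ^ 2 * g.c) * x3 - g.a ^ 2 * x4
        + (g.d - 2 * g.a * g.c + g.a ^ 2 * g.b) * x5 + g.a * x7,
      -g.c * x0 + g.b * x1 + x2 + (g.f + g.b * g.e - 2 * g.c * g.d) * x3 - g.d * x4
        + (g.b * g.d - g.c ^ 2) * x5 + g.c * x7,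
      x3,
      -g.c * x3 + x4 - g.b * x5,
      g.a * x3 + x5,
      (g.a * g.c - g.d) * x0 + (g.c - g.a * g.b) * x1 - g.a * x2
        + (-g.d ^ 2 - g.a * g.f + g.c * g.e - g.a * g.b * g.e + 2 * g.a * g.c * g.d) * x3 + (g.a * g.d - g.e) * x4
        + (-g.f + g.a * g.c ^ 2 + g.c * g.d - g.a * g.b * g.d) * x5 + x6 + (g.d - g.a * g.c) * x7,
      (g.a * g.c - g.d) * x3 - g.a * x4 + (g.a * g.b - g.c) * x5 + x7] := ac_emb _ _

theorem sq_E {i : Fin 8} (h0 : i ≠ 0) (h7 : i ≠ 7) : zornMul (Pi.single i 1 : Fin 8 → K) (Pi.single i 1) = 0 := by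
  have H : ∀ i : Fin 8, i ≠ 0 → i ≠ 7 → i = 1 ∨ i = 2 ∨ i = 3 ∨ i = 4 ∨ i = 5 ∨ i = 6 := by decide
  rcases H i h0 h7 with rfl | rfl | rfl | rfl | rfl | rfl
  · rw [sg1, zorn8, sgz]; refine v8 ?_ ?_ ?_ ?_ ?_ ?_ ?_ ?_ <;> ring
  · rw [sg2, zorn8, sgz]; refine v8 ?_ ?_ ?_ ?_ ?_ ?_ ?_ ?_ <;> ring
  · rw [sg3, zorn8, sgz]; refine v8 ?_ ?_ ?_ ?_ ?_ ?_ ?_ ?_ <;> ring
  · rw [sg4, zorn8, sgz]; refine v8 ?_ ?_ ?_ ?_ ?_ ?_ ?_ ?_ <;> ring
  · rw [sg5, zorn8, sgz]; refine v8 ?_ ?_ ?_ ?_ ?_ ?_ ?_ ?_ <;> ring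
  · rw [sg6, zorn8, sgz]; refine v8 ?_ ?_ ?_ ?_ ?_ ?_ ?_ ?_ <;> ring

omit [Field K] in
theorem vec_eq {v w : Fin 8 → K} (h0 : v 0 = w 0) (h1 : v 1 = w 1) (h2 : v 2 = w 2) (h3 : v 3 = w 3) (h4 : v 4 = w 4)
    (h5 : v 5 = w 5) (h6 : v 6 = w 6) (h7 : v 7 = w 7) : v = w := by
  funext i
  fin_cases i <;> assumption

/-! ### the stabilizer of the flag -/

section

variable {g : Cfsg.Lie.G2 K}

theorem ac_sq {i : Fin 8} (g : Cfsg.Lie.G2 K) (h0 : i ≠ 0) (h7 : i ≠ 7) :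
    zornMul (ac g (Pi.single i 1)) (ac g (Pi.single i 1)) = 0 := by
  rw [← ac_zorn, sq_E h0 h7]
  have h1 := ac_smul g 0 0
  rwa [zero_smul, zero_smul] at h1

theorem E46 : zornMul (Pi.single 4 1 : Fin 8 → K) (Pi.single 6 1) = Pi.single 2 1 := by
  rw [sg4, sg6, sg2, zorn8]; refine v8 ?_ ?_ ?_ ?_ ?_ ?_ ?_ ?_ <;> ring
theorem E12 : zornMul (Pi.single 1 1 : Fin 8 → K) (Pi.single 2 1) = Pi.single 6 1 := by
  rw [sg1, sg2, sg6, zorn8]; refine v8 ?_ ?_ ?_ ?_ ?_ ?_ ?_ ?_ <;> ring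
theorem E23 : zornMul (Pi.single 2 1 : Fin 8 → K) (Pi.single 3 1) = Pi.single 4 1 := by
  rw [sg2, sg3, sg4, zorn8]; refine v8 ?_ ?_ ?_ ?_ ?_ ?_ ?_ ?_ <;> ring
theorem E31 : zornMul (Pi.single 3 1 : Fin 8 → K) (Pi.single 1 1) = Pi.single 5 1 := by
  rw [sg3, sg1, sg5, zorn8]; refine v8 ?_ ?_ ?_ ?_ ?_ ?_ ?_ ?_ <;> ring
theorem E14 : zornMul (Pi.single 1 1 : Fin 8 → K) (Pi.single 4 1) = Pi.single 0 1 := by
  rw [sg1, sg4, sg0, zorn8]; refine v8 ?_ ?_ ?_ ?_ ?_ ?_ ?_ ?_ <;> ring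
theorem E41 : zornMul (Pi.single 4 1 : Fin 8 → K) (Pi.single 1 1) = Pi.single 7 1 := by
  rw [sg4, sg1, sg7, zorn8]; refine v8 ?_ ?_ ?_ ?_ ?_ ?_ ?_ ?_ <;> ring
theorem E03 : zornMul (Pi.single 0 1 : Fin 8 → K) (Pi.single 3 1) = Pi.single 3 1 := by
  rw [sg0, sg3, zorn8]; refine v8 ?_ ?_ ?_ ?_ ?_ ?_ ?_ ?_ <;> ring

/-- an element is determined by the images of the basis -/
theorem ext_basis {g h : Cfsg.Lie.G2 K} (H : ∀ i, ac g (Pi.single i 1) = ac h (Pi.single i 1)) : g = h := by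
  apply Subtype.ext
  apply Units.ext
  exact Matrix.ext_of_mulVec_single fun i => H i

/-- first step: `e₄` -/
theorem step4 (h2 : ac g (Pi.single 2 1) = Pi.single 2 1) (h6 : ac g (Pi.single 6 1) = Pi.single 6 1) :
    ∃ p q : K, ac g (Pi.single 4 1) = Pi.single 4 1 + p • Pi.single 2 1 + q • Pi.single 6 1 := by
  have hz := ac_sq g (i := 4) (by decide) (by decide)
  have h := ac_zorn g (Pi.single 4 1) (Pi.single 6 1)
  rw [E46, h2, h6] at h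
  generalize ac g (Pi.single 4 1) = v at hz h
  rw [zorn_apply] at h
  obtain ⟨s1, s2⟩ := sq0 hz
  have k3 : v 3 = 0 := by simpa using (congrFun h 0).symm
  have k5 : v 5 = 0 := by simpa using (congrFun h 1).symm
  have k4 : v 4 = 1 := by simpa only [Fin.isValue, Nat.succ_eq_add_one, Nat.reduceAdd, ne_eq, Fin.reduceEq,
      not_false_eq_true, Pi.single_eq_of_ne, mul_zero, add_zero, Pi.single_eq_same, mul_one, zero_add, zero_mul, sub_zero,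
      zero_sub, sub_neg_eq_add, sub_self, cons_val] using (congrFun h 2).symm
  have k7 : v 7 = 0 := by simpa using (congrFun h 6).symm
  have k0 : v 0 = 0 := by linear_combination s1 - k7
  have k1 : v 1 = 0 := by
    rw [k3, k5, k4, k0] at s2
    linear_combination s2
  exact ⟨v 2, v 6, by apply vec_eq <;> simp only [Fin.isValue, k0, Pi.add_apply, ne_eq, Fin.reduceEq, not_false_eq_true,
      Pi.single_eq_of_ne, Pi.smul_apply, smul_eq_mul, mul_zero, add_zero, k1, Pi.single_eq_same, mul_one, zero_add, k3, k4,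
      k5, k7]⟩

/-- second step: `e₁` -/
theorem step1 (h2 : ac g (Pi.single 2 1) = Pi.single 2 1) (h6 : ac g (Pi.single 6 1) = Pi.single 6 1) :
    ∃ p q : K, ac g (Pi.single 1 1) = Pi.single 1 1 + p • Pi.single 2 1 + q • Pi.single 6 1 := by
  have hz := ac_sq g (i := 1) (by decide) (by decide)
  have h := ac_zorn g (Pi.single 1 1) (Pi.single 2 1)
  rw [E12, h2, h6] at h
  generalize ac g (Pi.single 1 1) = v at hz h
  rw [zorn_apply] at h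
  obtain ⟨s1, s2⟩ := sq0 hz
  have k0 : v 0 = 0 := by simpa using (congrFun h 2).symm
  have k3 : v 3 = 0 := by simpa using (congrFun h 4).symm
  have k1 : v 1 = 1 := by simpa using (congrFun h 6).symm
  have k5 : v 5 = 0 := by simpa using (congrFun h 7).symm
  have k7 : v 7 = 0 := by rw [s1, k0, neg_zero]
  have k4 : v 4 = 0 := by
    rw [k3, k5, k1, k0] at s2
    linear_combination s2
  exact ⟨v 2, v 6, by apply vec_eq <;> simp only [Fin.isValue, k0, Pi.add_apply, ne_eq, zero_ne_one, not_false_eq_true,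
      Pi.single_eq_of_ne, Pi.smul_apply, Fin.reduceEq, smul_eq_mul, mul_zero, add_zero, k1, Pi.single_eq_same, mul_one,
      zero_add, k3, k4, k5, k7]⟩

/-- third step: `e₃` -/
theorem step3 (h1 : ac g (Pi.single 1 1) = Pi.single 1 1) (h2 : ac g (Pi.single 2 1) = Pi.single 2 1)
    (h4 : ac g (Pi.single 4 1) = Pi.single 4 1) :
    ∃ p : K, ac g (Pi.single 3 1) = Pi.single 3 1 + p • Pi.single 2 1 := by
  have hz := ac_sq g (i := 3) (by decide) (by decide)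
  have h0 : ac g (Pi.single 0 1) = Pi.single 0 1 := by rw [← E14, ac_zorn, h1, h4]
  have h := ac_zorn g (Pi.single 2 1) (Pi.single 3 1)
  have h' := ac_zorn g (Pi.single 0 1) (Pi.single 3 1)
  rw [E23, h4, h2] at h
  rw [E03, h0] at h'
  generalize ac g (Pi.single 3 1) = v at hz h h'
  rw [zorn_apply] at h h'
  obtain ⟨s1, s2⟩ := sq0 hz
  have k5 : v 5 = 0 := by simpa only [Fin.isValue, Nat.succ_eq_add_one, Nat.reduceAdd, ne_eq, Fin.reduceEq,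
      not_false_eq_true, Pi.single_eq_of_ne, zero_mul, Pi.single_eq_same, one_mul, zero_add, add_zero, mul_zero, sub_self,
      mul_one, sub_zero, zero_sub, cons_val_zero] using (congrFun h 0).symm
  have k7 : v 7 = 0 := by simpa only [Fin.isValue, Nat.succ_eq_add_one, Nat.reduceAdd, ne_eq, Fin.reduceEq,
      not_false_eq_true, Pi.single_eq_of_ne, zero_mul, Pi.single_eq_same, one_mul, zero_add, add_zero, mul_zero, sub_self,
      mul_one, sub_zero, zero_sub, cons_val] using (congrFun h 2).symm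
  have k3 : v 3 = 1 := by simpa using (congrFun h 4).symm
  have k1 : v 1 = 0 := by simpa only [Fin.isValue, Nat.succ_eq_add_one, Nat.reduceAdd, ne_eq, Fin.reduceEq,
      not_false_eq_true, Pi.single_eq_of_ne, zero_mul, Pi.single_eq_same, one_mul, zero_add, add_zero, mul_zero, sub_self,
      mul_one, sub_zero, zero_sub, cons_val, neg_eq_zero] using (congrFun h 6).symm
  have k4 : v 4 = 0 := by simpa using congrFun h' 4
  have k0 : v 0 = 0 := by linear_combination s1 - k7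
  have k6 : v 6 = 0 := by
    rw [k3, k5, k1, k0] at s2
    linear_combination s2
  exact ⟨v 2, by apply vec_eq <;> simp only [Fin.isValue, k0, Pi.add_apply, ne_eq, Fin.reduceEq, not_false_eq_true,
      Pi.single_eq_of_ne, Pi.smul_apply, smul_eq_mul, mul_zero, add_zero, k1, Pi.single_eq_same, mul_one, zero_add, k3, k4,
      k5, k6, k7]⟩

/-- last step -/
theorem step0 (h1 : ac g (Pi.single 1 1) = Pi.single 1 1) (h2 : ac g (Pi.single 2 1) = Pi.single 2 1)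
    (h3 : ac g (Pi.single 3 1) = Pi.single 3 1) (h4 : ac g (Pi.single 4 1) = Pi.single 4 1)
    (h6 : ac g (Pi.single 6 1) = Pi.single 6 1) : g = 1 := by
  have h0 : ac g (Pi.single 0 1) = Pi.single 0 1 := by rw [← E14, ac_zorn, h1, h4]
  have h5 : ac g (Pi.single 5 1) = Pi.single 5 1 := by rw [← E31, ac_zorn, h3, h1]
  have h7 : ac g (Pi.single 7 1) = Pi.single 7 1 := by rw [← E41, ac_zorn, h4, h1]
  apply ext_basis
  intro i
  rw [ac_one]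
  fin_cases i
  exacts [h0, h1, h2, h3, h4, h5, h6, h7]

theorem ac_emb_two (u : GU K) : ac (emb u) (Pi.single 2 1) = Pi.single 2 1 + (-u.a) • Pi.single 6 1 := by
  rw [sg2, sg6, emb8, smul8, add8]
  refine v8 ?_ ?_ ?_ ?_ ?_ ?_ ?_ ?_ <;> ring

theorem ac_emb_six (u : GU K) : ac (emb u) (Pi.single 6 1) = Pi.single 6 1 := by
  rw [sg6, emb8]
  refine v8 ?_ ?_ ?_ ?_ ?_ ?_ ?_ ?_ <;> ring

theorem ac_emb_four {u : GU K} (ha : u.a = 0) :
    ac (emb u) (Pi.single 4 1) = Pi.single 4 1 + (-u.d) • Pi.single 2 1 + (-u.e) • Pi.single 6 1 := by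
  rw [sg4, sg2, sg6, emb8, smul8, smul8, add8, add8, ha]
  refine v8 ?_ ?_ ?_ ?_ ?_ ?_ ?_ ?_ <;> ring

theorem ac_emb_one {u : GU K} (ha : u.a = 0) :
    ac (emb u) (Pi.single 1 1) = Pi.single 1 1 + u.b • Pi.single 2 1 + u.c • Pi.single 6 1 := by
  rw [sg1, sg2, sg6, emb8, smul8, smul8, add8, add8, ha]
  refine v8 ?_ ?_ ?_ ?_ ?_ ?_ ?_ ?_ <;> ring

theorem ac_emb_three {t : K} :
    ac (emb (⟨0, 0, 0, 0, 0, t⟩ : GU K)) (Pi.single 3 1) = Pi.single 3 1 + t • Pi.single 2 1 := by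
  rw [sg3, sg2, emb8, smul8, add8]
  dsimp only
  refine v8 ?_ ?_ ?_ ?_ ?_ ?_ ?_ ?_ <;> ring

theorem mem_of_fix4 (h1 : ac g (Pi.single 1 1) = Pi.single 1 1) (h2 : ac g (Pi.single 2 1) = Pi.single 2 1)
    (h4 : ac g (Pi.single 4 1) = Pi.single 4 1) (h6 : ac g (Pi.single 6 1) = Pi.single 6 1) :
    g ∈ (emb : GU K →* Cfsg.Lie.G2 K).range := by
  obtain ⟨p, hp⟩ := step3 h1 h2 h4
  let u : GU K := ⟨0, 0, 0, 0, 0, p⟩
  have k : (emb u)⁻¹ * g = 1 := by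
    have key : ∀ w z : Fin 8 → K, ac g w = ac (emb u) z → ac ((emb u)⁻¹ * g) w = z := by
      intro w z h
      rw [ac_mul, h, ac_inv_ac]
    apply step0
    · apply key
      rw [h1, ac_emb_one rfl]
      simp [u]
    · apply key
      rw [h2, ac_emb_two]
      simp [u]
    · apply key
      rw [hp]
      exact ac_emb_three.symm
    · apply key
      rw [h4, ac_emb_four rfl]
      simp [u]
    · apply key
      rw [h6, ac_emb_six]
  exact ⟨u, (inv_mul_eq_one.1 k)⟩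

theorem mem_of_fix3 (h2 : ac g (Pi.single 2 1) = Pi.single 2 1)
    (h4 : ac g (Pi.single 4 1) = Pi.single 4 1) (h6 : ac g (Pi.single 6 1) = Pi.single 6 1) :
    g ∈ (emb : GU K →* Cfsg.Lie.G2 K).range := by
  obtain ⟨p, q, hp⟩ := step1 h2 h6
  let u : GU K := ⟨0, p, q, 0, 0, 0⟩
  have key : ∀ w z : Fin 8 → K, ac g w = ac (emb u) z → ac ((emb u)⁻¹ * g) w = z := by
    intro w z h
    rw [ac_mul, h, ac_inv_ac]
  have k : (emb u)⁻¹ * g ∈ (emb : GU K →* Cfsg.Lie.G2 K).range := by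
    apply mem_of_fix4
    · apply key
      rw [hp, ac_emb_one rfl]
    · apply key
      rw [h2, ac_emb_two]
      simp [u]
    · apply key
      rw [h4, ac_emb_four rfl]
      simp [u]
    · apply key
      rw [h6, ac_emb_six]
  have := mul_mem (show emb u ∈ (emb : GU K →* Cfsg.Lie.G2 K).range from ⟨u, rfl⟩) k
  rwa [mul_inv_cancel_left] at this

theorem mem_of_fix2 (h2 : ac g (Pi.single 2 1) = Pi.single 2 1) (h6 : ac g (Pi.single 6 1) = Pi.single 6 1) :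
    g ∈ (emb : GU K →* Cfsg.Lie.G2 K).range := by
  obtain ⟨p, q, hp⟩ := step4 h2 h6
  let u : GU K := ⟨0, 0, 0, -p, -q, 0⟩
  have key : ∀ w z : Fin 8 → K, ac g w = ac (emb u) z → ac ((emb u)⁻¹ * g) w = z := by
    intro w z h
    rw [ac_mul, h, ac_inv_ac]
  have k : (emb u)⁻¹ * g ∈ (emb : GU K →* Cfsg.Lie.G2 K).range := by
    apply mem_of_fix3
    · apply key
      rw [h2, ac_emb_two]
      simp [u]
    · apply key
      rw [hp, ac_emb_four rfl]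
      simp [u]
    · apply key
      rw [h6, ac_emb_six]
  have := mul_mem (show emb u ∈ (emb : GU K →* Cfsg.Lie.G2 K).range from ⟨u, rfl⟩) k
  rwa [mul_inv_cancel_left] at this

/-- the stabilizer of the flag is the Borel subgroup -/
theorem exists_of_flag {m n k : K} (h6 : ac g (Pi.single 6 1) = m • Pi.single 6 1)
    (h2 : ac g (Pi.single 2 1) = n • Pi.single 2 1 + k • Pi.single 6 1) :
    ∃ (u : GU K) (s t : Kˣ), g = emb u * tor s t := by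
  have hE : ∀ i : Fin 8, (Pi.single i 1 : Fin 8 → K) ≠ 0 := fun i => by simp
  have hm : m ≠ 0 := by
    rintro rfl
    rw [zero_smul] at h6
    have h0 := ac_smul g 0 0
    rw [zero_smul, zero_smul] at h0
    exact hE 6 (ac_injective g (h6.trans h0.symm))
  have hn : n ≠ 0 := by
    rintro rfl
    rw [zero_smul, zero_add] at h2
    have h0 : ac g (Pi.single 2 1) = ac g ((m⁻¹ * k) • Pi.single 6 1) := by
      rw [ac_smul, h6, h2, smul_smul]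
      congr 1
      field_simp
    have h1 := congrFun (ac_injective g h0) 2
    simp at h1
  let s : Kˣ := Units.mk0 (m / n) (div_ne_zero hm hn)
  let t : Kˣ := Units.mk0 (n ^ 2 / m) (div_ne_zero (pow_ne_zero 2 hn) hm)
  have hs : (s : K) = m / n := rfl
  have ht : (t : K) = n ^ 2 / m := rfl
  have t6 : ac (tor s t) (m⁻¹ • Pi.single 6 1) = Pi.single 6 1 := by
    rw [ac_smul, ac_tor, hs, ht]
    apply vec_eq <;> simp only [Nat.succ_eq_add_one, Nat.reduceAdd, Fin.isValue, ne_eq, Fin.reduceEq, not_false_eq_true,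
        Pi.single_eq_of_ne, mul_zero, _root_.mul_inv_rev, inv_div, Pi.single_eq_same, mul_one, Pi.smul_apply, cons_val_zero,
        smul_eq_mul, cons_val_one, cons_val]
    field_simp
  have t2 : ac (tor s t) (n⁻¹ • Pi.single 2 1) = Pi.single 2 1 := by
    rw [ac_smul, ac_tor, hs, ht]
    apply vec_eq <;> simp only [Nat.succ_eq_add_one, Nat.reduceAdd, Fin.isValue, ne_eq, Fin.reduceEq, not_false_eq_true,
        Pi.single_eq_of_ne, mul_zero, Pi.single_eq_same, mul_one, _root_.mul_inv_rev, inv_div, Pi.smul_apply, cons_val_zero,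
        smul_eq_mul, cons_val_one, cons_val]
    field_simp
  have i6 : ac (tor s t)⁻¹ (Pi.single 6 1) = m⁻¹ • Pi.single 6 1 := by
    rw [← ac_inv_ac (tor s t) (m⁻¹ • Pi.single 6 1), t6]
  have i2 : ac (tor s t)⁻¹ (Pi.single 2 1) = n⁻¹ • Pi.single 2 1 := by
    rw [← ac_inv_ac (tor s t) (n⁻¹ • Pi.single 2 1), t2]
  let u : GU K := ⟨-(n⁻¹ * k), 0, 0, 0, 0, 0⟩
  have key : ∀ w z : Fin 8 → K, ac (g * (tor s t)⁻¹) w = ac (emb u) z →
      ac ((emb u)⁻¹ * (g * (tor s t)⁻¹)) w = z := by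
    intro w z h
    rw [ac_mul, h, ac_inv_ac]
  have k : (emb u)⁻¹ * (g * (tor s t)⁻¹) ∈ (emb : GU K →* Cfsg.Lie.G2 K).range := by
    apply mem_of_fix2
    · apply key
      rw [ac_mul, i2, ac_smul, h2, ac_emb_two, smul_add, smul_smul, smul_smul, inv_mul_cancel₀ hn, one_smul, neg_neg]
    · apply key
      rw [ac_mul, i6, ac_smul, h6, ac_emb_six, smul_smul, inv_mul_cancel₀ hm, one_smul]
  obtain ⟨v, hv⟩ := k
  refine ⟨u * v, s, t, ?_⟩
  rw [map_mul, hv]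
  group

end

end Cfsg.Agent.H913.GT
end

-- part: H913/GT/Gr
section
prune_inst 0x420242202000018000002000020680000000020000050a00a00024711002001000076b00800908600406008002002000100400800000a000000000000000002100200000104060008002004000000000000000000000000000000041000000000000
set_option linter.all false

/-!
# S5211, task G2-REAL-a: generation of `Cfsg.Lie.G2 K`, the graph automorphism in characteristic three
-/

set_option autoImplicit false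

namespace Cfsg.Agent.H913.GT

open Cfsg Cfsg.Lie Cfsg.Agent.H638.G2Link Cfsg.Agent.H779.G2
open Cfsg.Agent.H70.ChevFix Cfsg.Agent.H490.G2

universe u

variable {K : Type u} [Field K]

/-! ### the isomorphism with the Chevalley group -/

/-- the graph automorphism on the group -/
structure IsG (ρ : MulAut (Cfsg.Lie.G2 K)) : Prop where
  h7 : ∀ t : K, ρ (y 7 t) = y 6 (t ^ 3)
  h6 : ∀ t : K, ρ (y 6 t) = y 7 t
  h4 : ∀ t : K, ρ (y 4 t) = y 5 (t ^ 3)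
  h5 : ∀ t : K, ρ (y 5 t) = y 4 t

section

variable {ρ : MulAut (Cfsg.Lie.G2 K)}

/-! ### the relations -/

end

end Cfsg.Agent.H913.GT
end

-- part: H913/Q5/QGEq
section
set_option linter.all false
open scoped Cfsg.Agent.FastGrp

/-!
# S5211, block q = 5: recognition of `Q_a` in a finite group
-/

set_option autoImplicit false

namespace Cfsg.Agent.H913.Q5

open Cfsg Cfsg.Agent.H24.Q5 Cfsg.Agent.H779.G2

variable {G : Type} [Group G] [Finite G] {T : Sylow 5 G} {e : (T : Subgroup G) ≃* U5}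

/-- a 5-subgroup of order `5⁵` of `T` with commutators in a group of order 5 is `Q_a` -/
theorem QG_eq5 {E : Subgroup G} {f : G} (hE : Nat.card E = 3125) (hET : E ≤ (T : Subgroup G)) (hf : f ^ 5 = 1)
    (hfE : f ∈ E) (hc : ∀ x ∈ E, ∀ y ∈ E, x * y * x⁻¹ * y⁻¹ ∈ Subgroup.zpowers f) : QG T e = E := by
  have hmem : ∀ u : U5, u ∈ (E.subgroupOf (T : Subgroup G)).map e.toMonoidHom ↔
      ((e.symm u : (T : Subgroup G)) : G) ∈ E := by
    intro u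
    rw [Subgroup.mem_map_equiv, Subgroup.mem_subgroupOf]
  have hcard : Nat.card ((E.subgroupOf (T : Subgroup G)).map e.toMonoidHom) = 3125 := by
    rw [Subgroup.card_map_of_injective e.injective, Nat.card_congr (Subgroup.subgroupOfEquivOfLe hET).toEquiv, hE]
  have hM : (E.subgroupOf (T : Subgroup G)).map e.toMonoidHom = A5 := by
    apply H35.Q5.eq_A5 _ _ (e ⟨f, hET hfE⟩)
    · rw [← map_pow, show (⟨f, hET hfE⟩ : (T : Subgroup G)) ^ 5 = 1 from Subtype.ext hf, map_one]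
    · intro x hx y hy
      rw [hmem] at hx hy
      obtain ⟨k, hk⟩ := hc _ hx _ hy
      refine ⟨k, ?_⟩
      show (e ⟨f, hET hfE⟩) ^ k = _
      rw [← map_zpow]
      apply e.symm.injective
      rw [MulEquiv.symm_apply_apply]
      apply Subtype.ext
      rw [map_mul, map_mul, map_mul, map_inv, map_inv]
      exact hk
    · have h := ((E.subgroupOf (T : Subgroup G)).map e.toMonoidHom).card_mul_index
      rw [hcard, card_U5] at h
      omega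
  ext g
  rw [mem_QG, ← hM]
  constructor
  · rintro ⟨x, hx, rfl⟩
    rw [hmem, e.symm_apply_apply] at hx
    exact hx
  · intro hg
    refine ⟨⟨g, hET hg⟩, ?_, rfl⟩
    rw [hmem, e.symm_apply_apply]
    exact hg

/-- every such subgroup is conjugate to `Q_a`, so the order of its automizer divides the order of the automizer of `Q_a` -/
theorem relIndex_dvd_autN {E : Subgroup G} {f : G} (hE : Nat.card E = 3125) (hf : f ^ 5 = 1)
    (hfE : f ∈ E) (hc : ∀ x ∈ E, ∀ y ∈ E, x * y * x⁻¹ * y⁻¹ ∈ Subgroup.zpowers f) :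
    (Subgroup.centralizer (E : Set G)).relIndex (Subgroup.normalizer (E : Set G)) ∣ autN T e := by
  have hE5 : IsPGroup 5 E := IsPGroup.of_card (n := 5) (by rw [hE]; norm_num)
  obtain ⟨T', hT'⟩ := hE5.exists_le_sylow
  obtain ⟨g, hg⟩ := MulAction.exists_smul_eq G T' T
  have hle : E.map (MulAut.conj g).toMonoidHom ≤ (T : Subgroup G) := by
    rw [← hg]
    rintro _ ⟨x, hx, rfl⟩
    exact ⟨x, hT' hx, rfl⟩
  have hinj : Function.Injective (MulAut.conj g).toMonoidHom := (MulAut.conj g).injective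
  have hQ : QG T e = E.map (MulAut.conj g).toMonoidHom := by
    refine QG_eq5 (f := g * f * g⁻¹) ?_ hle ?_ ⟨f, hfE, rfl⟩ ?_
    · rw [Subgroup.card_map_of_injective hinj, hE]
    · rw [conj_pow, hf, mul_one, mul_inv_cancel]
    · rintro _ ⟨x, hx, rfl⟩ _ ⟨y, hy, rfl⟩
      obtain ⟨k, hk⟩ := hc x hx y hy
      refine ⟨k, ?_⟩
      show (g * f * g⁻¹) ^ k = _
      rw [conj_zpow, show f ^ k = x * y * x⁻¹ * y⁻¹ from hk, ← map_inv, ← map_inv, ← map_mul, ← map_mul, ← map_mul]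
      rfl
  rw [autN, hQ]
  exact relIndex_dvd _ hinj _

end Cfsg.Agent.H913.Q5
end

-- part: H103/GT/Grp
section
prune_inst 0x200420742202000818001000000020780000000020400000a00f020a494100200500003eb0040010c288d06008002002000000400000000a00080000010000000102000000a000020008000004000000000000000000000000000000000000000000000
set_option linter.all false
open scoped Cfsg.Agent.FastGrp

/-!
# S5211: the group `GU K` and its automorphisms (`StGrp`), helper103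

* `GU.mkAut` : automorphisms of subgroups / of `GU K` from injective homomorphisms;
* `exists_tor`, `exists_gr`, `exists_wb`, `exists_wa`;
* `tor_mul`, `gr_tor`, `gr_gr`, `mem_TT`;
* `stGrp : StGrp`.
-/

set_option autoImplicit false

namespace Cfsg.Agent.H103.GT

open Cfsg Cfsg.Agent.H779.G2

universe u

variable {K : Type u} [Field K]

/-- the underlying map of a torus / field automorphism -/
def torMap (s t : K) (τ : K ≃+* K) (g : GU K) : GU K :=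
  ⟨s * τ g.a, t * τ g.b, s * t * τ g.c, s ^ (2:ℕ) * t * τ g.d, s ^ (3:ℕ) * t * τ g.e, s ^ (3:ℕ) * t ^ (2:ℕ) * τ g.f⟩

theorem torMap_mul (s t : K) (τ : K ≃+* K) (x y : GU K) : torMap s t τ (x * y) = torMap s t τ x * torMap s t τ y := by
  ext
  · simp only [torMap, GU.mul_a, map_add]; ring
  · simp only [torMap, GU.mul_b, map_add]; ring
  · simp only [torMap, GU.mul_c, map_add, map_mul]; ring
  · simp only [torMap, GU.mul_d, map_add, map_mul, map_pow, map_ofNat]; ring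
  · simp only [torMap, GU.mul_e, map_add, map_mul, map_pow, map_ofNat]; ring
  · simp only [torMap, GU.mul_f, map_add, map_sub, map_mul, map_pow, map_ofNat]; ring

/-- torus and field automorphisms exist -/
theorem exists_tor {s t : K} (τ : K ≃+* K) (hs : s ≠ 0) (ht : t ≠ 0) : ∃ α : MulAut (GU K), IsTor α s t τ := by
  have hst : s * t ≠ 0 := mul_ne_zero hs ht
  have h2 : s ^ (2:ℕ) * t ≠ 0 := mul_ne_zero (pow_ne_zero _ hs) ht
  have h3 : s ^ (3:ℕ) * t ≠ 0 := mul_ne_zero (pow_ne_zero _ hs) ht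
  have h4 : s ^ (3:ℕ) * t ^ (2:ℕ) ≠ 0 := mul_ne_zero (pow_ne_zero _ hs) (pow_ne_zero _ ht)
  let α : MulAut (GU K) :=
    { toFun := torMap s t τ
      invFun := fun g => ⟨τ.symm (s⁻¹ * g.a), τ.symm (t⁻¹ * g.b), τ.symm ((s * t)⁻¹ * g.c), τ.symm ((s ^ (2:ℕ) * t)⁻¹ * g.d),
        τ.symm ((s ^ (3:ℕ) * t)⁻¹ * g.e), τ.symm ((s ^ (3:ℕ) * t ^ (2:ℕ))⁻¹ * g.f)⟩
      left_inv := fun g => by
        ext
        · show τ.symm (s⁻¹ * (s * τ g.a)) = g.a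
          rw [inv_mul_cancel_left₀ hs, RingEquiv.symm_apply_apply]
        · show τ.symm (t⁻¹ * (t * τ g.b)) = g.b
          rw [inv_mul_cancel_left₀ ht, RingEquiv.symm_apply_apply]
        · show τ.symm ((s * t)⁻¹ * (s * t * τ g.c)) = g.c
          rw [inv_mul_cancel_left₀ hst, RingEquiv.symm_apply_apply]
        · show τ.symm ((s ^ (2:ℕ) * t)⁻¹ * (s ^ (2:ℕ) * t * τ g.d)) = g.d
          rw [inv_mul_cancel_left₀ h2, RingEquiv.symm_apply_apply]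
        · show τ.symm ((s ^ (3:ℕ) * t)⁻¹ * (s ^ (3:ℕ) * t * τ g.e)) = g.e
          rw [inv_mul_cancel_left₀ h3, RingEquiv.symm_apply_apply]
        · show τ.symm ((s ^ (3:ℕ) * t ^ (2:ℕ))⁻¹ * (s ^ (3:ℕ) * t ^ (2:ℕ) * τ g.f)) = g.f
          rw [inv_mul_cancel_left₀ h4, RingEquiv.symm_apply_apply]
      right_inv := fun g => by
        ext
        · show s * τ (τ.symm (s⁻¹ * g.a)) = g.a
          rw [RingEquiv.apply_symm_apply, mul_inv_cancel_left₀ hs]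
        · show t * τ (τ.symm (t⁻¹ * g.b)) = g.b
          rw [RingEquiv.apply_symm_apply, mul_inv_cancel_left₀ ht]
        · show s * t * τ (τ.symm ((s * t)⁻¹ * g.c)) = g.c
          rw [RingEquiv.apply_symm_apply, mul_inv_cancel_left₀ hst]
        · show s ^ (2:ℕ) * t * τ (τ.symm ((s ^ (2:ℕ) * t)⁻¹ * g.d)) = g.d
          rw [RingEquiv.apply_symm_apply, mul_inv_cancel_left₀ h2]
        · show s ^ (3:ℕ) * t * τ (τ.symm ((s ^ (3:ℕ) * t)⁻¹ * g.e)) = g.e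
          rw [RingEquiv.apply_symm_apply, mul_inv_cancel_left₀ h3]
        · show s ^ (3:ℕ) * t ^ (2:ℕ) * τ (τ.symm ((s ^ (3:ℕ) * t ^ (2:ℕ))⁻¹ * g.f)) = g.f
          rw [RingEquiv.apply_symm_apply, mul_inv_cancel_left₀ h4]
      map_mul' := torMap_mul s t τ }
  exact ⟨α, hs, ht, fun _ => rfl, fun _ => rfl, fun _ => rfl, fun _ => rfl, fun _ => rfl, fun _ => rfl⟩

/-- the underlying map of the graph automorphism -/
def grMap (g : GU K) : GU K :=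
  ⟨g.b, g.a ^ (3:ℕ), g.a ^ (3:ℕ) * g.b - g.e, g.a ^ (3:ℕ) * g.b ^ (2:ℕ) - g.f, g.a ^ (3:ℕ) * g.b ^ (3:ℕ) - g.c ^ (3:ℕ), g.a ^ (6:ℕ) * g.b ^ (3:ℕ) - g.d ^ (3:ℕ)⟩

set_option maxHeartbeats 1000000 in
theorem grMap_mul (h3 : (3 : K) = 0) (x y : GU K) : grMap (x * y) = grMap x * grMap y := by
  ext
  · simp only [grMap, GU.mul_a, GU.mul_b, GU.mul_c, GU.mul_d, GU.mul_e, GU.mul_f]
  · simp only [grMap, GU.mul_a, GU.mul_b, GU.mul_c, GU.mul_d, GU.mul_e, GU.mul_f]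
    linear_combination ((1) * x.a * y.a ^ (2:ℕ) + (1) * x.a ^ (2:ℕ) * y.a) * h3
  · simp only [grMap, GU.mul_a, GU.mul_b, GU.mul_c, GU.mul_d, GU.mul_e, GU.mul_f]
    linear_combination ((1) * x.a * x.b * y.a ^ (2:ℕ) + (1) * x.a * y.a ^ (2:ℕ) * y.b + (1) * x.a ^ (2:ℕ) * x.b * y.a + (1) * x.a ^ (2:ℕ) * y.a * y.b + (-1) * x.c * y.a ^ (2:ℕ) + (-1) * x.d * y.a) * h3
  · simp only [grMap, GU.mul_a, GU.mul_b, GU.mul_c, GU.mul_d, GU.mul_e, GU.mul_f]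
    linear_combination ((2) * x.a * x.b * y.a ^ (2:ℕ) * y.b + (1) * x.a * x.b ^ (2:ℕ) * y.a ^ (2:ℕ) + (1) * x.a * y.a ^ (2:ℕ) * y.b ^ (2:ℕ) + (2) * x.a ^ (2:ℕ) * x.b * y.a * y.b + (1) * x.a ^ (2:ℕ) * x.b ^ (2:ℕ) * y.a + (1) * x.a ^ (2:ℕ) * y.a * y.b ^ (2:ℕ) + (-1) * x.b * x.c * y.a ^ (2:ℕ) + (-1) * x.b * y.a ^ (2:ℕ) * y.c + (1) * x.b * y.a ^ (3:ℕ) * y.b + (-2) * x.c * y.a * y.c + (1) * x.c * y.a ^ (2:ℕ) * y.b + (-1) * x.c ^ (2:ℕ) * y.a + (1) * x.d * y.a * y.b + (-1) * x.d * y.c + (1) * x.e * y.b) * h3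
  · simp only [grMap, GU.mul_a, GU.mul_b, GU.mul_c, GU.mul_d, GU.mul_e, GU.mul_f]
    linear_combination ((3) * x.a * x.b * y.a ^ (2:ℕ) * y.b ^ (2:ℕ) + (3) * x.a * x.b ^ (2:ℕ) * y.a ^ (2:ℕ) * y.b + (1) * x.a * x.b ^ (3:ℕ) * y.a ^ (2:ℕ) + (1) * x.a * y.a ^ (2:ℕ) * y.b ^ (3:ℕ) + (3) * x.a ^ (2:ℕ) * x.b * y.a * y.b ^ (2:ℕ) + (3) * x.a ^ (2:ℕ) * x.b ^ (2:ℕ) * y.a * y.b + (1) * x.a ^ (2:ℕ) * x.b ^ (3:ℕ) * y.a + (1) * x.a ^ (2:ℕ) * y.a * y.b ^ (3:ℕ) + (-2) * x.b * x.c * y.a * y.c + (-1) * x.b * x.c ^ (2:ℕ) * y.a + (-1) * x.b * y.a * y.c ^ (2:ℕ) + (1) * x.b * y.a ^ (3:ℕ) * y.b ^ (2:ℕ) + (-1) * x.b ^ (2:ℕ) * x.c * y.a ^ (2:ℕ) + (-1) * x.b ^ (2:ℕ) * y.a ^ (2:ℕ) * y.c + (1) * x.b ^ (2:ℕ) * y.a ^ (3:ℕ) * y.b + (-1) * x.c * y.c ^ (2:ℕ) + (-1) * x.c ^ (2:ℕ) * y.c + (1) * x.e * y.b ^ (2:ℕ) + (1) * x.f * y.b) * h3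
  · simp only [grMap, GU.mul_a, GU.mul_b, GU.mul_c, GU.mul_d, GU.mul_e, GU.mul_f]
    linear_combination ((6) * x.a * x.b * y.a ^ (5:ℕ) * y.b ^ (2:ℕ) + (6) * x.a * x.b ^ (2:ℕ) * y.a ^ (5:ℕ) * y.b + (2) * x.a * x.b ^ (3:ℕ) * y.a ^ (5:ℕ) + (2) * x.a * y.a ^ (5:ℕ) * y.b ^ (3:ℕ) + (15) * x.a ^ (2:ℕ) * x.b * y.a ^ (4:ℕ) * y.b ^ (2:ℕ) + (15) * x.a ^ (2:ℕ) * x.b ^ (2:ℕ) * y.a ^ (4:ℕ) * y.b + (5) * x.a ^ (2:ℕ) * x.b ^ (3:ℕ) * y.a ^ (4:ℕ) + (5) * x.a ^ (2:ℕ) * y.a ^ (4:ℕ) * y.b ^ (3:ℕ) + (2) * x.a ^ (3:ℕ) * x.b * x.e * y.b + (19) * x.a ^ (3:ℕ) * x.b * y.a ^ (3:ℕ) * y.b ^ (2:ℕ) + (2) * x.a ^ (3:ℕ) * x.b * y.b * y.e + (20) * x.a ^ (3:ℕ) * x.b ^ (2:ℕ) * y.a ^ (3:ℕ) * y.b + (1) * x.a ^ (3:ℕ) * x.b ^ (2:ℕ) * y.e + (7) * x.a ^ (3:ℕ) * x.b ^ (3:ℕ) * y.a ^ (3:ℕ) + (1) * x.a ^ (3:ℕ) * x.e * y.b ^ (2:ℕ) + (6) * x.a ^ (3:ℕ) * y.a ^ (3:ℕ) * y.b ^ (3:ℕ) + (1) * x.a ^ (3:ℕ) * y.b ^ (2:ℕ) * y.e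 + (15) * x.a ^ (4:ℕ) * x.b * y.a ^ (2:ℕ) * y.b ^ (2:ℕ) + (15) * x.a ^ (4:ℕ) * x.b ^ (2:ℕ) * y.a ^ (2:ℕ) * y.b + (5) * x.a ^ (4:ℕ) * x.b ^ (3:ℕ) * y.a ^ (2:ℕ) + (5) * x.a ^ (4:ℕ) * y.a ^ (2:ℕ) * y.b ^ (3:ℕ) + (6) * x.a ^ (5:ℕ) * x.b * y.a * y.b ^ (2:ℕ) + (6) * x.a ^ (5:ℕ) * x.b ^ (2:ℕ) * y.a * y.b + (2) * x.a ^ (5:ℕ) * x.b ^ (3:ℕ) * y.a + (2) * x.a ^ (5:ℕ) * y.a * y.b ^ (3:ℕ) + (-4) * x.b * x.c * x.d * y.a ^ (3:ℕ) + (-4) * x.b * x.c * y.a ^ (3:ℕ) * y.d + (-4) * x.b * x.c ^ (2:ℕ) * y.a ^ (4:ℕ) + (-2) * x.b * x.d * y.a ^ (2:ℕ) * y.d + (-1) * x.b * x.d ^ (2:ℕ) * y.a ^ (2:ℕ) + (-1) * x.b * y.a ^ (2:ℕ) * y.d ^ (2:ℕ) + (1) * x.b * y.a ^ (6:ℕ) * y.b ^ (2:ℕ) + (-2) * x.b ^ (2:ℕ) * x.c * y.a ^ (5:ℕ) + (-1) * x.b ^ (2:ℕ) * x.d * y.a ^ (4:ℕ) + (-1) * x.b ^ (2:ℕ) * y.a ^ (4:ℕ) * y.d + (1) * x.b ^ (2:ℕ) * y.a ^ (6:ℕ) * y.b + (-4) * x.c * x.d * y.a * y.d + (-2) * x.c * x.d ^ (2:ℕ) * y.a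 + (-2) * x.c * y.a * y.d ^ (2:ℕ) + (-4) * x.c ^ (2:ℕ) * x.d * y.a ^ (2:ℕ) + (-4) * x.c ^ (2:ℕ) * y.a ^ (2:ℕ) * y.d + (-3) * x.c ^ (3:ℕ) * y.a ^ (3:ℕ) + (-1) * x.d * y.d ^ (2:ℕ) + (-1) * x.d ^ (2:ℕ) * y.d + (1) * x.e * y.a ^ (3:ℕ) * y.b ^ (2:ℕ) + (-2) * x.e * y.b * y.e + (-1) * x.e ^ (2:ℕ) * y.b + (-1) * x.f * y.e) * h3

/-- an injective endomorphism of a finite group -/
noncomputable def mkAut {G : Type*} [Group G] [Finite G] (f : G → G) (hm : ∀ x y, f (x * y) = f x * f y)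
    (h1 : ∀ x, f x = 1 → x = 1) : MulAut G :=
  MulEquiv.ofBijective (MonoidHom.mk' f hm)
    (Finite.injective_iff_bijective.1 ((injective_iff_map_eq_one (MonoidHom.mk' f hm)).2 h1))

/-- the graph automorphism exists in characteristic `3` -/
theorem exists_gr [Finite K] (h3 : (3 : K) = 0) : ∃ α : MulAut (GU K), IsGr α := by
  refine ⟨mkAut grMap (grMap_mul h3) ?_, h3, fun _ => rfl, fun _ => rfl, fun _ => rfl, fun _ => rfl, fun _ => rfl,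
    fun _ => rfl⟩
  intro x hx
  have hb : x.b = 0 := congrArg GU.a hx
  have ha : x.a = 0 := by
    have h : x.a ^ (3:ℕ) = 0 := congrArg GU.b hx
    exact pow_eq_zero_iff (by norm_num) |>.1 h
  have he : x.e = 0 := by
    have h : x.a ^ (3:ℕ) * x.b - x.e = 0 := congrArg GU.c hx
    rw [ha, hb] at h
    linear_combination -h
  have hf : x.f = 0 := by
    have h : x.a ^ (3:ℕ) * x.b ^ (2:ℕ) - x.f = 0 := congrArg GU.d hx
    rw [ha, hb] at h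
    linear_combination -h
  have hc : x.c = 0 := by
    have h : x.a ^ (3:ℕ) * x.b ^ (3:ℕ) - x.c ^ (3:ℕ) = 0 := congrArg GU.e hx
    rw [ha, hb] at h
    exact pow_eq_zero_iff (n := 3) (by norm_num) |>.1 (by linear_combination -h)
  have hd : x.d = 0 := by
    have h : x.a ^ (6:ℕ) * x.b ^ (3:ℕ) - x.d ^ (3:ℕ) = 0 := congrArg GU.f hx
    rw [ha, hb] at h
    exact pow_eq_zero_iff (n := 3) (by norm_num) |>.1 (by linear_combination -h)
  ext <;> assumption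

/-! ### Weyl elements -/

/-- the long Weyl element on `Q_b` -/
def wbMap (g : Qb K) : Qb K :=
  ⟨⟨-(g : GU K).c, 0, (g : GU K).a, (g : GU K).d - 2 * (g : GU K).a * (g : GU K).c,
    -(g : GU K).f + 3 * (g : GU K).a * (g : GU K).c ^ (2:ℕ), (g : GU K).e - 3 * (g : GU K).a ^ (2:ℕ) * (g : GU K).c⟩, rfl⟩

theorem wbMap_mul (x y : Qb K) : wbMap (x * y) = wbMap x * wbMap y := by
  have hx : (x : GU K).b = 0 := x.2
  have hy : (y : GU K).b = 0 := y.2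
  apply Subtype.ext
  ext
  all_goals
    simp only [wbMap, Subgroup.coe_mul, GU.mul_a, GU.mul_b, GU.mul_c, GU.mul_d, GU.mul_e, GU.mul_f, hx, hy]
    ring

/-- the short Weyl element on `Q_a` -/
def waMap (g : Qa K) : Qa K :=
  ⟨⟨0, (g : GU K).e, -(g : GU K).d, (g : GU K).c, -(g : GU K).b,
    (g : GU K).f + (g : GU K).b * (g : GU K).e - 3 * (g : GU K).c * (g : GU K).d⟩, rfl⟩

theorem waMap_mul (x y : Qa K) : waMap (x * y) = waMap x * waMap y := by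
  have hx : (x : GU K).a = 0 := x.2
  have hy : (y : GU K).a = 0 := y.2
  apply Subtype.ext
  ext
  all_goals
    simp only [waMap, Subgroup.coe_mul, GU.mul_a, GU.mul_b, GU.mul_c, GU.mul_d, GU.mul_e, GU.mul_f, hx, hy]
    ring

theorem exists_wb [Finite K] : ∃ γ : MulAut (Qb K), IsWb γ := by
  refine ⟨mkAut wbMap wbMap_mul ?_, fun _ => rfl, fun _ => rfl, fun _ => rfl, fun _ => rfl, fun _ => rfl⟩
  intro x hx
  have hx' : ((wbMap x : Qb K) : GU K) = 1 := by rw [hx]; rfl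
  have hb : (x : GU K).b = 0 := x.2
  have hc : (x : GU K).c = 0 := by
    have h : -(x : GU K).c = 0 := congrArg GU.a hx'
    linear_combination -h
  have ha : (x : GU K).a = 0 := congrArg GU.c hx'
  have hd : (x : GU K).d = 0 := by
    have h : (x : GU K).d - 2 * (x : GU K).a * (x : GU K).c = 0 := congrArg GU.d hx'
    rw [hc] at h
    linear_combination h
  have hf : (x : GU K).f = 0 := by
    have h : -(x : GU K).f + 3 * (x : GU K).a * (x : GU K).c ^ (2:ℕ) = 0 := congrArg GU.e hx'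
    rw [hc] at h
    linear_combination -h
  have he : (x : GU K).e = 0 := by
    have h : (x : GU K).e - 3 * (x : GU K).a ^ (2:ℕ) * (x : GU K).c = 0 := congrArg GU.f hx'
    rw [hc] at h
    linear_combination h
  apply Subtype.ext
  ext <;> assumption

theorem exists_wa [Finite K] : ∃ γ : MulAut (Qa K), IsWa γ := by
  refine ⟨mkAut waMap waMap_mul ?_, fun _ => rfl, fun _ => rfl, fun _ => rfl, fun _ => rfl, fun _ => rfl⟩
  intro x hx
  have hx' : ((waMap x : Qa K) : GU K) = 1 := by rw [hx]; rfl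
  have ha : (x : GU K).a = 0 := x.2
  have he : (x : GU K).e = 0 := congrArg GU.b hx'
  have hd : (x : GU K).d = 0 := by
    have h : -(x : GU K).d = 0 := congrArg GU.c hx'
    linear_combination -h
  have hc : (x : GU K).c = 0 := congrArg GU.d hx'
  have hb : (x : GU K).b = 0 := by
    have h : -(x : GU K).b = 0 := congrArg GU.e hx'
    linear_combination -h
  have hf : (x : GU K).f = 0 := by
    have h : (x : GU K).f + (x : GU K).b * (x : GU K).e - 3 * (x : GU K).c * (x : GU K).d = 0 := congrArg GU.f hx'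
    rw [hb, hc] at h
    linear_combination h
  apply Subtype.ext
  ext <;> assumption

/-! ### The group `TT K` -/

theorem tor_mul {α α' : MulAut (GU K)} {s t s' t' : K} {τ τ' : K ≃+* K} (h : IsTor α s t τ) (h' : IsTor α' s' t' τ') :
    IsTor (α * α') (s * τ s') (t * τ t') (τ'.trans τ) where
  ne1 := mul_ne_zero h.ne1 ((map_ne_zero_iff _ τ.injective).2 h'.ne1)
  ne2 := mul_ne_zero h.ne2 ((map_ne_zero_iff _ τ.injective).2 h'.ne2)
  a g := by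
    rw [MulAut.mul_apply, h.a, h'.a]
    simp only [map_mul, RingEquiv.coe_trans, Function.comp_apply]
    ring
  b g := by
    rw [MulAut.mul_apply, h.b, h'.b]
    simp only [map_mul, RingEquiv.coe_trans, Function.comp_apply]
    ring
  c g := by
    rw [MulAut.mul_apply, h.c, h'.c]
    simp only [map_mul, RingEquiv.coe_trans, Function.comp_apply]
    ring
  d g := by
    rw [MulAut.mul_apply, h.d, h'.d]
    simp only [map_mul, map_pow, RingEquiv.coe_trans, Function.comp_apply]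
    ring
  e g := by
    rw [MulAut.mul_apply, h.e, h'.e]
    simp only [map_mul, map_pow, RingEquiv.coe_trans, Function.comp_apply]
    ring
  f g := by
    rw [MulAut.mul_apply, h.f, h'.f]
    simp only [map_mul, map_pow, RingEquiv.coe_trans, Function.comp_apply]
    ring

theorem ext_aut {α β : MulAut (GU K)} (h : ∀ g : GU K, (α g).a = (β g).a ∧ (α g).b = (β g).b ∧ (α g).c = (β g).c ∧
    (α g).d = (β g).d ∧ (α g).e = (β g).e ∧ (α g).f = (β g).f) : α = β := by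
  apply MulEquiv.ext
  intro g
  obtain ⟨h1, h2, h3, h4, h5, h6⟩ := h g
  exact GU.ext h1 h2 h3 h4 h5 h6

/-- `ρ α = α' ρ`, `α'` the twisted torus element -/
theorem gr_tor {ρ α : MulAut (GU K)} {s t : K} {τ : K ≃+* K} (hρ : IsGr ρ) (h : IsTor α s t τ) :
    ∃ α' : MulAut (GU K), IsTor α' t (s ^ (3:ℕ)) τ ∧ ρ * α = α' * ρ := by
  obtain ⟨α', h'⟩ := exists_tor τ h.ne2 (pow_ne_zero 3 h.ne1)
  refine ⟨α', h', ext_aut fun g => ⟨?_, ?_, ?_, ?_, ?_, ?_⟩⟩ <;>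
    simp only [MulAut.mul_apply, hρ.a, hρ.b, hρ.c, hρ.d, hρ.e, hρ.f, h.a, h.b, h.c, h.d, h.e, h.f, h'.a, h'.b, h'.c,
      h'.d, h'.e, h'.f, map_sub, map_mul, map_pow] <;> ring

theorem gr_gr {ρ ρ' : MulAut (GU K)} [Finite K] (h : IsGr ρ) (h' : IsGr ρ') : ∃ τ : K ≃+* K, IsTor (ρ * ρ') 1 1 τ := by
  have : CharP K 3 := by
    refine (CharP.charP_iff_prime_eq_zero Nat.prime_three).2 ?_
    exact_mod_cast h.three
  have : Fact (Nat.Prime 3) := ⟨Nat.prime_three⟩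
  refine ⟨frobeniusEquiv K 3, one_ne_zero, one_ne_zero, fun g => ?_, fun g => ?_, fun g => ?_, fun g => ?_, fun g => ?_,
    fun g => ?_⟩
  all_goals
    simp only [MulAut.mul_apply, h.a, h.b, h.c, h.d, h.e, h.f, h'.a, h'.b, h'.c, h'.d, h'.e, h'.f, frobeniusEquiv_def]
  · linear_combination (0) * h.three
  · linear_combination (0) * h.three
  · linear_combination (0) * h.three
  · linear_combination (0) * h.three
  · linear_combination ((-1) * g.a ^ (3:ℕ) * g.b * g.e ^ (2:ℕ) + (1) * g.a ^ (6:ℕ) * g.b ^ (2:ℕ) * g.e) * h.three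
  · linear_combination ((-1) * g.a ^ (3:ℕ) * g.b ^ (2:ℕ) * g.f ^ (2:ℕ) + (1) * g.a ^ (6:ℕ) * g.b ^ (4:ℕ) * g.f) * h.three

/-- the elements of `TT K` -/
theorem mem_TT [Finite K] {α : MulAut (GU K)} (hα : α ∈ TT K) : (∃ s t τ, IsTor α s t τ) ∨
    ∃ s t τ, ∃ α' ρ : MulAut (GU K), IsTor α' s t τ ∧ IsGr ρ ∧ α = α' * ρ := by
  let P : MulAut (GU K) → Prop := fun α => (∃ s t τ, IsTor α s t τ) ∨
    ∃ s t τ, ∃ α' ρ : MulAut (GU K), IsTor α' s t τ ∧ IsGr ρ ∧ α = α' * ρ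
  have hone : IsTor (1 : MulAut (GU K)) 1 1 (RingEquiv.refl K) :=
    ⟨one_ne_zero, one_ne_zero, fun g => by simp, fun g => by simp, fun g => by simp, fun g => by simp, fun g => by simp,
      fun g => by simp⟩
  have hmul : ∀ α β : MulAut (GU K), P α → P β → P (α * β) := by
    rintro α β (⟨s, t, τ, h⟩ | ⟨s, t, τ, α', ρ, h, hρ, rfl⟩) (⟨s', t', τ', h'⟩ | ⟨s', t', τ', β', ρ', h', hρ', rfl⟩)
    · exact Or.inl ⟨_, _, _, tor_mul h h'⟩
    · exact Or.inr ⟨_, _, _, α * β', ρ', tor_mul h h', hρ', (mul_assoc _ _ _).symm⟩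
    · obtain ⟨γ, hγ, e⟩ := gr_tor hρ h'
      exact Or.inr ⟨_, _, _, α' * γ, ρ, tor_mul h hγ, hρ, by rw [mul_assoc, e, mul_assoc]⟩
    · obtain ⟨γ, hγ, e⟩ := gr_tor hρ h'
      obtain ⟨σ, hσ⟩ := gr_gr hρ hρ'
      have e2 : α' * ρ * (β' * ρ') = α' * γ * (ρ * ρ') := by
        rw [mul_assoc, ← mul_assoc ρ, e]
        simp only [mul_assoc]
      rw [e2]
      exact Or.inl ⟨_, _, _, tor_mul (tor_mul h hγ) hσ⟩
  let M : Submonoid (MulAut (GU K)) :=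
    { carrier := {α | P α}
      one_mem' := Or.inl ⟨1, 1, _, hone⟩
      mul_mem' := fun {α β} ha hb => hmul α β ha hb }
  have hinv : ∀ α, P α → P α⁻¹ := by
    intro α h
    have h1 : α⁻¹ ∈ Submonoid.powers α := by
      rw [mem_powers_iff_mem_zpowers]
      exact Subgroup.inv_mem _ (Subgroup.mem_zpowers α)
    have h2 : Submonoid.powers α ≤ M := by
      rw [Submonoid.powers_le]
      exact h
    exact h2 h1
  have : α ∈ ({ M with inv_mem' := fun {α} h => hinv α h } : Subgroup (MulAut (GU K))) := by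
    refine (Subgroup.closure_le _).2 ?_ hα
    rintro β (⟨s, t, τ, h⟩ | h)
    · exact Or.inl ⟨s, t, τ, h⟩
    · exact Or.inr ⟨1, 1, _, 1, β, hone, h, (one_mul _).symm⟩
  exact this

/-- **(GRP)** -/
theorem stGrp : StGrp.{u} := by
  intro K _ p n h
  have := h.fin
  have hc : Nat.card (GU K) = (p ^ n) ^ (6:ℕ) := by rw [GU.card_eq, h.card]
  have hp : Fact p.Prime := ⟨h.pp⟩
  refine ⟨hc, ?_, fun s t τ hs ht => exists_tor τ hs ht, ?_, fun α hα => mem_TT hα, exists_wb, exists_wa⟩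
  · refine IsPGroup.of_card (n := n * 6) ?_
    rw [Subgroup.card_top, hc, pow_mul]
  · intro hp3
    subst hp3
    have := h.char
    exact exists_gr (by exact_mod_cast CharP.cast_eq_zero K 3)

end Cfsg.Agent.H103.GT

private theorem dce_f0dc30bbbf1e : _root_.True := by
  try have : _root_.True := by simp only [_root_.Cfsg.Agent.H103.GT.waMap.eq_1]
  try have : _root_.True := by simp only [_root_.Cfsg.Agent.H103.GT.wbMap.eq_1]
  try have : _root_.True := by simp only [_root_.Cfsg.Agent.H103.GT.grMap.eq_1]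
  try have : _root_.True := by simp only [_root_.Cfsg.Agent.H103.GT.torMap.eq_1]
  exact _root_.True.intro
end

-- part: H103/GT/Asm
section
prune_inst 0x200020340000000000001000000020780000000023000061a00b020a414120050026003e900000188688804008002000000000002800000000800000010000040112020110ac00120000401804000000000000000000000000000000000000000000000
set_option linter.all false
open scoped Cfsg.Agent.FastGrp

/-!
# S5211: the assembly (helper103)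

* `red_of` : reduction of the realizability of all saturated systems over `GU K` (`q > 2`, `(p, n) ≠ (7, 1)`) to those with both
  `Q_a`, `Q_b` essential and `AF F = Inn ⊔ D`, `D ≤ TT K` of `p'`-order;
* `stMainBig_of` : `StMainBig` from the pieces;
* `final_of` : the statement of S5211 from `StSyl` and the five `StMain`.
-/

set_option autoImplicit false

namespace Cfsg.Agent.H103.GT

open Cfsg Cfsg.FusionSystem Cfsg.Agent.H779.G2 Cfsg.Agent.H756.PU Cfsg.Agent.H802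

universe u v

/-! ### transport of essential subgroups by `Aut_F(S)` -/

section

variable {G0 : Type u} [Group G0] [Finite G0] {p : ℕ} [Fact p.Prime] {F : FusionSystem (⊤ : Subgroup G0)}

omit [Finite G0] [Fact p.Prime] in
/-- if `Q` has a non normal automizer then so does `β(Q)`, `β ∈ Aut_F(S)` -/
theorem not_norm_map {β : MulAut G0} (hβ : β ∈ AF F) {Q Q' : Subgroup G0} (hQ : Q.map β.toMonoidHom = Q')
    (h : ¬ ∀ γ ∈ F.autGroup Q, NormAut ⊤ γ) : ¬ ∀ γ ∈ F.autGroup Q', NormAut ⊤ γ := by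
  intro hn
  apply h
  intro γ hγ x hx
  -- the restriction of `β` to `Q`
  have hφ : (topHom β).comp (Subgroup.inclusion (le_top : Q ≤ ⊤)) ∈ F.Hom Q :=
    restrict_mem (mem_AF_iff.1 hβ) le_top
  have hr : ((topHom β).comp (Subgroup.inclusion (le_top : Q ≤ ⊤))).range = Q' := by
    rw [← hQ]
    ext y
    constructor
    · rintro ⟨z, rfl⟩
      exact ⟨z, z.2, rfl⟩
    · rintro ⟨z, hz, rfl⟩
      exact ⟨⟨z, hz⟩, rfl⟩
  have key : ∀ (α : MulAut Q), MulAut.congr (isoOf _ (F.injective_of_mem hφ) hr) α ∈ autInducedBy ⊤ Q' ↔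
      α ∈ autInducedBy ⊤ Q := by
    intro α
    rw [mem_autInducedBy_iff, mem_autInducedBy_iff]
    have hap : ∀ (z : Q), ((MulAut.congr (isoOf _ (F.injective_of_mem hφ) hr) α
        (isoOf _ (F.injective_of_mem hφ) hr z) : Q') : G0) = β (α z : Q) := by
      intro z
      have h1 : MulAut.congr (isoOf _ (F.injective_of_mem hφ) hr) α (isoOf _ (F.injective_of_mem hφ) hr z) =
          isoOf _ (F.injective_of_mem hφ) hr (α z) := by
        show isoOf _ (F.injective_of_mem hφ) hr (α ((isoOf _ (F.injective_of_mem hφ) hr).symm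
          (isoOf _ (F.injective_of_mem hφ) hr z))) = _
        rw [MulEquiv.symm_apply_apply]
      rw [h1]
      rfl
    constructor
    · rintro ⟨g, -, hg⟩
      refine ⟨β.symm g, Subgroup.mem_top _, fun z => ?_⟩
      have h1 := hg (isoOf _ (F.injective_of_mem hφ) hr z)
      rw [hap] at h1
      apply β.injective
      rw [h1]
      show g * β z * g⁻¹ = β (β.symm g * z * (β.symm g)⁻¹)
      rw [map_mul, map_mul, map_inv, MulEquiv.apply_symm_apply]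
    · rintro ⟨g, -, hg⟩
      refine ⟨β g, Subgroup.mem_top _, fun y => ?_⟩
      obtain ⟨z, rfl⟩ := (isoOf _ (F.injective_of_mem hφ) hr).surjective y
      rw [hap, hg z]
      show β (g * z * g⁻¹) = β g * β z * (β g)⁻¹
      rw [map_mul, map_mul, map_inv]
  have h1 := hn _ (congr_mem_autGroup hφ hr hγ) _ ((key x).2 hx)
  rw [← map_inv, ← map_mul, ← map_mul] at h1
  exact (key _).1 h1

end

/-! ### the pieces -/

/-- the pieces needed for the reduction -/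
structure Pieces : Prop where
  e5 : StE5.{u}
  e3 : StE3.{u}
  e2 : StE2.{u}
  ti : StTI.{u}
  pos : StPos.{u}

section

variable {K : Type u} [Field K] {p n : ℕ}

theorem finite_GU (hK : HypG K p n) : Finite (GU K) := by
  have : Finite K := hK.fin
  infer_instance

theorem isP (hK : HypG K p n) : IsPGroup p (⊤ : Subgroup (GU K)) := (stGrp hK).2.1

theorem two_le_of (hK : HypG K p n) (hq : 2 < p ^ n) (h2 : p = 2) : 2 ≤ n := by
  subst h2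
  rcases Nat.lt_or_ge n 2 with h | h
  · exfalso
    have : n = 1 := by have := hK.hn; omega
    subst this
    omega
  · exact h

theorem ess_cases (H : Pieces.{u}) (hK : HypG K p n) (hq : 2 < p ^ n) (h7 : ¬ (p = 7 ∧ n = 1))
    {F : FusionSystem (⊤ : Subgroup (GU K))} (hF : F.IsSaturated p) {E : Subgroup (GU K)}
    (hE : F.IsEssential p E) : E = Qa K ∨ E = Qb K := by
  have : Fact p.Prime := ⟨hK.pp⟩
  by_cases h2 : p = 2
  · exact H.e2 hK h2 (two_le_of hK hq h2) F hF E hE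
  by_cases h3 : p = 3
  · exact H.e3 hK h3 F hF E hE
  have h5 : 5 ≤ p := by
    have h1 := hK.pp.two_le
    have h4 : p ≠ 4 := by
      rintro rfl
      exact absurd hK.pp (by norm_num)
    omega
  exact H.e5 hK h5 h7 F hF E hE

theorem top_le_norm (Q : Subgroup (GU K)) (hQ : Q = Qa K ∨ Q = Qb K) :
    (⊤ : Subgroup (GU K)) ≤ Subgroup.normalizer (Q : Set (GU K)) := by
  rcases hQ with rfl | rfl
  · exact (Subgroup.normalizer_eq_top_iff.2 inferInstance).ge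
  · exact (Subgroup.normalizer_eq_top_iff.2 inferInstance).ge

theorem par_of (hK : HypG K p n) {F : FusionSystem (⊤ : Subgroup (GU K))}
    (hF : F.IsSaturated p) {Q : Subgroup (GU K)} (hQ : Q = Qa K ∨ Q = Qb K)
    (hnn : ¬ ∀ γ ∈ F.autGroup Q, NormAut ⊤ γ)
    {D : Subgroup (MulAut (GU K))} (hD : D ≤ TT K) (hDc : (Nat.card D).Coprime p)
    (hAF : AF F = (MulAut.conj : GU K →* MulAut (GU K)).range ⊔ D) : Par p Q (F.autGroup Q) D := by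
  have : Fact p.Prime := ⟨hK.pp⟩
  have hfin : Finite (GU K) := finite_GU hK
  have hS := isP hK
  have hn := top_le_norm Q hQ
  refine ⟨autInducedBy_le_autGroup F le_top, syl_of_normal hS hF hn, hnn, hD, hDc, ?_, ?_⟩
  · intro d hd γ hγ
    have h1 : d ∈ AF F := by
      rw [hAF]
      exact Subgroup.mem_sup_right hd
    exact res_mem h1 hγ
  · intro γ hγ hN
    obtain ⟨β, hβ, he⟩ := ext_mem hS hF hn hγ hN
    rw [hAF] at hβ
    obtain ⟨x, d, hd, rfl⟩ := mem_range_sup hβ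
    exact ⟨x, d, hd, fun e => he e⟩

theorem norm_of_ess (hK : HypG K p n) {F : FusionSystem (⊤ : Subgroup (GU K))}
    (hF : F.IsSaturated p) {Q : Subgroup (GU K)} (hE : F.IsEssential p Q) :
    ¬ ∀ γ ∈ F.autGroup Q, NormAut ⊤ γ := by
  have : Fact p.Prime := ⟨hK.pp⟩
  have hfin : Finite (GU K) := finite_GU hK
  exact not_norm_of_ess (Cfsg.Agent.H245.PU.stEss F Q (isP hK) hF hE)

theorem ess_of_norm (H : StTI.{u}) (hK : HypG K p n) (hq : 2 < p ^ n) {F : FusionSystem (⊤ : Subgroup (GU K))}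
    (hF : F.IsSaturated p) {Q : Subgroup (GU K)} (hQ : Q = Qa K ∨ Q = Qb K)
    (h : ¬ ∀ γ ∈ F.autGroup Q, NormAut ⊤ γ) : F.IsEssential p Q := by
  have : Fact p.Prime := ⟨hK.pp⟩
  have hfin : Finite (GU K) := finite_GU hK
  obtain ⟨hTI, hC, hne, -, -⟩ := H hK hq Q hQ
  have hnn := top_le_norm Q hQ
  exact Cfsg.Agent.H546.PU.stTIEss F Q (isP hK) hF le_top hne hnn hC
    (hTI _ (autInducedBy_le_autGroup F le_top) (syl_of_normal (isP hK) hF hnn)) h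

/-- the reduction -/
theorem red_of (H : Pieces.{u}) (hK : HypG K p n) (hq : 2 < p ^ n) (h7 : ¬ (p = 7 ∧ n = 1))
    (main : ∀ F : FusionSystem (⊤ : Subgroup (GU K)), F.IsSaturated p → F.IsEssential p (Qa K) →
      F.IsEssential p (Qb K) → (∀ E, F.IsEssential p E → E = Qa K ∨ E = Qb K) →
      ∀ D : Subgroup (MulAut (GU K)), D ≤ TT K → (Nat.card D).Coprime p →
      AF F = (MulAut.conj : GU K →* MulAut (GU K)).range ⊔ D → F.IsRealizable p)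
    (F : FusionSystem (⊤ : Subgroup (GU K))) (hF : F.IsSaturated p) : F.IsRealizable p := by
  have : Fact p.Prime := ⟨hK.pp⟩
  have hfin : Finite (GU K) := finite_GU hK
  have hS := isP hK
  have hess : ∀ E, F.IsEssential p E → E = Qa K ∨ E = Qb K := fun E hE => ess_cases H hK hq h7 hF hE
  by_cases hEa : F.IsEssential p (Qa K)
  · by_cases hEb : F.IsEssential p (Qb K)
    · obtain ⟨D0, hD0, hD0e⟩ := Cfsg.Agent.H805.PU.stCompl F hS hF
      obtain ⟨θ, hθ⟩ := H.pos hK hq D0 hD0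
      obtain ⟨F', hF', hR, hAF', hess'⟩ := Cfsg.Agent.H805.PU.stTwist F θ hF
      have hcase : ∀ Q : Subgroup (GU K), (Q = Qa K ∨ Q = Qb K) → F'.IsEssential p Q := by
        intro Q hQ
        -- the preimage of `Q` under `θ` is `Qa` or `Qb`
        have h1 : Q.map (θ⁻¹ : MulAut (GU K)).toMonoidHom = Qa K ∨ Q.map (θ⁻¹ : MulAut (GU K)).toMonoidHom = Qb K :=
          (H.ti hK hq Q hQ).2.2.2.2 θ⁻¹
        have h2 : (Q.map (θ⁻¹ : MulAut (GU K)).toMonoidHom).map θ.toMonoidHom = Q := by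
          rw [Subgroup.map_map]
          have : θ.toMonoidHom.comp (θ⁻¹ : MulAut (GU K)).toMonoidHom = MonoidHom.id _ := by
            ext x : 1
            exact MulAut.apply_inv_self _ _ _
          rw [this, Subgroup.map_id]
        rw [← h2]
        apply (hess' _).1
        rcases h1 with h1 | h1
        · rw [h1]; exact hEa
        · rw [h1]; exact hEb
      apply hR
      refine main F' hF' (hcase _ (Or.inl rfl)) (hcase _ (Or.inr rfl))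
        (fun E hE => ess_cases H hK hq h7 hF' hE) (D0.map (MulAut.conj θ).toMonoidHom) ?_ ?_ ?_
      · rintro _ ⟨d, hd, rfl⟩
        exact hθ d hd
      · have : Nat.card (D0.map (MulAut.conj θ).toMonoidHom) = Nat.card D0 :=
          (Nat.card_congr (D0.equivMapOfInjective _ (MulAut.conj θ).injective).toEquiv).symm
        rwa [this]
      · rw [hAF', ← hD0e, Subgroup.map_sup, map_conj_range]
    · exact one_ess H.ti hK hq hF (Or.inl rfl) hEa fun E hE => (hess E hE).resolve_right (by rintro rfl; exact hEb hE)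
  · by_cases hEb : F.IsEssential p (Qb K)
    · exact one_ess H.ti hK hq hF (Or.inr rfl) hEb fun E hE => (hess E hE).resolve_left (by rintro rfl; exact hEa hE)
    · refine Cfsg.Agent.H546.PU.stCon F ⊤ hS hF le_rfl ?_ le_top ?_ ?_
      · exact (Subgroup.normalizer_eq_top_iff.2 inferInstance).ge
      · intro E hE
        rcases hess E hE with h | h
        · subst h; exact absurd hE hEa
        · subst h; exact absurd hE hEb
      · exact ⟨le_rfl, fun γ _ e _ => Subgroup.mem_top _⟩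
where
  one_ess (hTI : StTI.{u}) (hK : HypG K p n) (hq : 2 < p ^ n) {F : FusionSystem (⊤ : Subgroup (GU K))}
      (hF : F.IsSaturated p) {Q : Subgroup (GU K)} (hQ : Q = Qa K ∨ Q = Qb K) (hE : F.IsEssential p Q)
      (hu : ∀ E, F.IsEssential p E → E = Q) : F.IsRealizable p := by
    have : Fact p.Prime := ⟨hK.pp⟩
    have hfin : Finite (GU K) := finite_GU hK
    have hS := isP hK
    obtain ⟨-, hC, hne, -, hmap⟩ := hTI hK hq Q hQ
    refine Cfsg.Agent.H546.PU.stCon F Q hS hF le_top (top_le_norm Q hQ) hC hu ⟨le_top, fun γ hγ e he => ?_⟩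
    have hβ : MulAut.congr Subgroup.topEquiv γ ∈ AF F := ⟨γ, hγ, rfl⟩
    have h1 : Q.map (MulAut.congr Subgroup.topEquiv γ : MulAut (GU K)).toMonoidHom = Q := by
      apply hu
      exact ess_of_norm hTI hK hq hF (hmap _) (not_norm_map hβ rfl (norm_of_ess hK hF hE))
    have h2 : (MulAut.congr Subgroup.topEquiv γ) (e : GU K) ∈
        Q.map (MulAut.congr Subgroup.topEquiv γ : MulAut (GU K)).toMonoidHom := ⟨_, he, rfl⟩
    rw [h1] at h2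
    exact h2

/-! ### the torus -/

omit [Field K] in
theorem tor_unique [Field K] {α β : MulAut (GU K)} {s t : K} {τ : K ≃+* K} (h : IsTor α s t τ) (h' : IsTor β s t τ) :
    α = β :=
  ext_aut fun g => ⟨by rw [h.a, h'.a], by rw [h.b, h'.b], by rw [h.c, h'.c], by rw [h.d, h'.d], by rw [h.e, h'.e],
    by rw [h.f, h'.f]⟩

/-- the cocharacters `t ↦ (t⁻¹, t²)` and `t ↦ (t², t⁻³)` generate the torus -/
theorem full_of {D : Subgroup (MulAut (GU K))} (h1 : HasTor D (fun t => t⁻¹) (fun t => t ^ 2))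
    (h2 : HasTor D (fun t => t ^ 2) (fun t => (t ^ 3)⁻¹)) : Full D := by
  intro s t α hα
  have hs := hα.ne1
  have ht := hα.ne2
  have hu : s ^ 3 * t ^ 2 ≠ 0 := mul_ne_zero (pow_ne_zero _ hs) (pow_ne_zero _ ht)
  have hv : s ^ 2 * t ≠ 0 := mul_ne_zero (pow_ne_zero _ hs) ht
  obtain ⟨β, hβ⟩ := exists_tor (s := (s ^ 3 * t ^ 2)⁻¹) (t := (s ^ 3 * t ^ 2) ^ 2) (RingEquiv.refl K)
    (inv_ne_zero hu) (pow_ne_zero _ hu)
  obtain ⟨δ, hδ⟩ := exists_tor (s := (s ^ 2 * t) ^ 2) (t := ((s ^ 2 * t) ^ 3)⁻¹) (RingEquiv.refl K)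
    (pow_ne_zero _ hv) (inv_ne_zero (pow_ne_zero _ hv))
  have h3 := tor_mul hβ hδ
  have e : α = β * δ := by
    refine tor_unique (τ := RingEquiv.refl K) (s := s) (t := t) hα ?_
    convert h3 using 1
    · show s = (s ^ 3 * t ^ 2)⁻¹ * (s ^ 2 * t) ^ 2
      field_simp
    · show t = (s ^ 3 * t ^ 2) ^ 2 * ((s ^ 2 * t) ^ 3)⁻¹
      field_simp
    · exact RingEquiv.ext fun _ => rfl
  rw [e]
  exact D.mul_mem (h1 _ hu β hβ) (h2 _ hv δ hδ)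

/-! ### Weyl elements do not normalize `Aut_S(Q)` -/

theorem not_norm_wb {γ : MulAut (Qb K)} (h : IsWb γ) : ¬ NormAut ⊤ γ := by
  intro hn
  let c : MulAut (Qb K) := MulAut.conjNormal (x2 (1 : K))
  have hc : ∀ y : Qb K, ((c y : Qb K) : GU K) = x2 1 * (y : GU K) * (x2 1)⁻¹ := fun y => MulAut.conjNormal_apply _ _
  have hcm : c ∈ autInducedBy ⊤ (Qb K) :=
    (mem_autInducedBy_iff _ _ _).2 ⟨x2 1, Subgroup.mem_top _, fun y => by rw [hc]⟩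
  obtain ⟨g, -, hg⟩ := (mem_autInducedBy_iff _ _ _).1 (hn c hcm)
  have h1 := congrArg GU.a (hg (γ ⟨x1 1, x1_mem 1⟩))
  rw [cj_a, MulAut.mul_apply, MulAut.mul_apply, MulAut.inv_apply_self, h.a, h.a, hc, cj_c] at h1
  simp [x1, x2] at h1

theorem not_norm_wa {γ : MulAut (Qa K)} (h : IsWa γ) : ¬ NormAut ⊤ γ := by
  intro hn
  let c : MulAut (Qa K) := MulAut.conjNormal (x1 (1 : K))
  have hc : ∀ y : Qa K, ((c y : Qa K) : GU K) = x1 1 * (y : GU K) * (x1 1)⁻¹ := fun y => MulAut.conjNormal_apply _ _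
  have hcm : c ∈ autInducedBy ⊤ (Qa K) :=
    (mem_autInducedBy_iff _ _ _).2 ⟨x1 1, Subgroup.mem_top _, fun y => by rw [hc]⟩
  obtain ⟨g, -, hg⟩ := (mem_autInducedBy_iff _ _ _).1 (hn c hcm)
  have h1 := congrArg GU.b (hg (γ ⟨x2 1, x2_mem 1⟩))
  rw [cj_b, MulAut.mul_apply, MulAut.mul_apply, MulAut.inv_apply_self, h.b, h.b, hc, cj_e] at h1
  simp [x1, x2] at h1

/-! ### the main case -/

end

/-! ### the final step -/

/-- transport to the whole group, keeping `O_p(F) = 1` -/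
theorem trans_core {Ω : Type u} [Group Ω] {S : Subgroup Ω} [Finite S] {p : ℕ} [Fact p.Prime] (F : FusionSystem S)
    {G0 : Type v} [Group G0] (e : S ≃* G0) (hF : F.IsSaturated p) (hcore : F.core = ⊥) :
    ∃ F' : FusionSystem (⊤ : Subgroup G0), F'.IsSaturated p ∧ F'.core = ⊥ ∧ (F'.IsRealizable p → F.IsRealizable p) := by
  let f : G0 →* Ω := S.subtype.comp e.symm.toMonoidHom
  have hf : Function.Injective f := (Subgroup.subtype_injective S).comp e.symm.injective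
  have hS : S = (⊤ : Subgroup G0).map f := by
    ext x
    constructor
    · intro hx
      refine ⟨e ⟨x, hx⟩, Subgroup.mem_top _, ?_⟩
      show ((e.symm (e ⟨x, hx⟩) : S) : Ω) = x
      rw [e.symm_apply_apply]
    · rintro ⟨y, -, rfl⟩
      exact (e.symm y).2
  have : Finite G0 := Finite.of_equiv _ e.toEquiv
  obtain ⟨F', hF'⟩ := Cfsg.Agent.H759.exists_pull' (hf := hf) hS F
  refine ⟨F', hF'.isSaturated_iff.1 hF, ?_, Cfsg.Agent.H776.Co.isRealizable_push hF'⟩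
  have h1 := hF'.core_eq
  rw [hcore] at h1
  exact (Subgroup.map_eq_bot_iff_of_injective _ hf).1 h1.symm

/-- S5211 from the pieces -/
theorem final_of (hSyl : StSyl.{0}) (hBig : StMainBig.{0}) (h5 : StMain5.{0}) (h4 : StMain4.{0}) (h3 : StMain3.{0})
    (h2 : StMain2.{0}) {Ω : Type u} [Group Ω] {S : Subgroup Ω} [Finite S] (p : ℕ) [Fact p.Prime]
    (F : Cfsg.FusionSystem S) (hF : F.IsSaturated p) (n : ℕ) (hn : n ≠ 0) (h7 : ¬ (p = 7 ∧ n = 1))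
    (T : Sylow p ↥(Cfsg.Lie.G2 (GaloisField p n))) (e : ↥S ≃* ↥(T : Subgroup ↥(Cfsg.Lie.G2 (GaloisField p n))))
    (hcore : F.core = ⊥) : F.IsRealizable p := by
  have hp : p.Prime := Fact.out
  have hK : HypG (GaloisField p n) p n := ⟨hp, by omega, inferInstance, GaloisField.card p n hn, inferInstance⟩
  obtain ⟨e'⟩ := hSyl hK T
  obtain ⟨F', hF', hc', hR⟩ := trans_core F (e.trans e') hF hcore
  apply hR
  rcases Nat.lt_or_ge (p ^ n) 8 with h8 | h8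
  · have hp8 : p < 8 := lt_of_le_of_lt (by simpa using Nat.pow_le_pow_right hp.pos (show 1 ≤ n by omega)) h8
    have hn3 : n < 3 := by
      by_contra hcon
      have h1 : 2 ^ 3 ≤ p ^ n := le_trans (Nat.pow_le_pow_left hp.two_le 3) (Nat.pow_le_pow_right hp.pos (by omega))
      omega
    interval_cases p
    · exact absurd hp (by norm_num)
    · exact absurd hp (by norm_num)
    · interval_cases n
      · exact absurd rfl hn
      · exact h2 hK ⟨rfl, rfl⟩ F' hF' hc'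
      · exact h4 hK ⟨rfl, rfl⟩ F' hF' hc'
    · interval_cases n
      · exact absurd rfl hn
      · exact h3 hK ⟨rfl, rfl⟩ F' hF' hc'
      · norm_num at h8
    · exact absurd hp (by norm_num)
    · interval_cases n
      · exact absurd rfl hn
      · exact h5 hK ⟨rfl, rfl⟩ F' hF' hc'
      · norm_num at h8
    · exact absurd hp (by norm_num)
    · interval_cases n
      · exact absurd rfl hn
      · exact absurd ⟨rfl, rfl⟩ h7
      · norm_num at h8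
  · exact hBig hK h8 F' hF' hc'

end Cfsg.Agent.H103.GT
end

-- part: H103/GT/Swap
section
prune_inst 0x200420342202000018001000000020780000000020000070a00f020a435120250520003eb00c00180298c06008002002000000402800002a00080000010000000352020334ac04160008002004000000000000000000000000000000041000000000000
set_option linter.all false
open scoped Cfsg.Agent.FastGrp

/-!
# S5211: transport by the graph automorphism (`p = 3`) (helper103)

`ρ` the graph automorphism: `ρ(Q_b) = Q_a`, `ρ w_b ρ⁻¹ = w_a`, `ρ tor(s, t) ρ⁻¹ = tor(t, s³)`.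
-/

set_option autoImplicit false

namespace Cfsg.Agent.H103.GT

open Cfsg Cfsg.FusionSystem Cfsg.Agent.H779.G2 Cfsg.Agent.H756.PU Cfsg.Agent.H802

universe u

variable {K : Type u} [Field K]

theorem gr_mem_iff {ρ : MulAut (GU K)} (h : IsGr ρ) (g : GU K) : ρ g ∈ Qa K ↔ g ∈ Qb K := by
  rw [mem_Qa, mem_Qb, h.a]

theorem map_Qb {ρ : MulAut (GU K)} (h : IsGr ρ) : (Qb K).map ρ.toMonoidHom = Qa K := by
  ext y
  constructor
  · rintro ⟨x, hx, rfl⟩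
    exact (gr_mem_iff h x).2 hx
  · intro hy
    refine ⟨ρ.symm y, ?_, ρ.apply_symm_apply y⟩
    apply (gr_mem_iff h _).1
    rw [ρ.apply_symm_apply]
    exact hy

/-- the isomorphism `Q_b ≃* Q_a` induced by `ρ` -/
noncomputable def rb {ρ : MulAut (GU K)} (h : IsGr ρ) : Qb K ≃* Qa K :=
  (ρ.subgroupMap (Qb K)).trans (MulEquiv.subgroupCongr (map_Qb h))

theorem coe_rb {ρ : MulAut (GU K)} (h : IsGr ρ) (x : Qb K) : ((rb h x : Qa K) : GU K) = ρ x := rfl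

/-- conjugation by `ρ`, on automorphisms -/
noncomputable def rB {ρ : MulAut (GU K)} (h : IsGr ρ) : MulAut (Qb K) ≃* MulAut (Qa K) := MulAut.congr (rb h)

theorem coe_rB {ρ : MulAut (GU K)} (h : IsGr ρ) (γ : MulAut (Qb K)) (y : Qa K) :
    ((rB h γ y : Qa K) : GU K) = ρ ((γ ((rb h).symm y) : Qb K) : GU K) := rfl

theorem coe_rB_rb {ρ : MulAut (GU K)} (h : IsGr ρ) (γ : MulAut (Qb K)) (x : Qb K) :
    ((rB h γ (rb h x) : Qa K) : GU K) = ρ ((γ x : Qb K) : GU K) := by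
  rw [coe_rB, MulEquiv.symm_apply_apply]

theorem rB_mem_ind {ρ : MulAut (GU K)} (h : IsGr ρ) (γ : MulAut (Qb K)) :
    rB h γ ∈ autInducedBy ⊤ (Qa K) ↔ γ ∈ autInducedBy ⊤ (Qb K) := by
  rw [mem_autInducedBy_iff, mem_autInducedBy_iff]
  constructor
  · rintro ⟨g, -, hg⟩
    refine ⟨ρ⁻¹ g, Subgroup.mem_top _, fun x => ρ.injective ?_⟩
    have h1 := hg (rb h x)
    rw [coe_rB_rb, coe_rb] at h1
    rw [h1, map_mul, map_mul, map_inv]
    simp only [MulAut.apply_inv_self]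
  · rintro ⟨g, -, hg⟩
    refine ⟨ρ g, Subgroup.mem_top _, fun y => ?_⟩
    obtain ⟨x, rfl⟩ := (rb h).surjective y
    rw [coe_rB_rb, coe_rb, hg x, map_mul, map_mul, map_inv]

theorem rB_norm {ρ : MulAut (GU K)} (h : IsGr ρ) (γ : MulAut (Qb K)) : NormAut ⊤ (rB h γ) ↔ NormAut ⊤ γ := by
  constructor
  · intro hn x hx
    have h1 := hn (rB h x) ((rB_mem_ind h x).2 hx)
    rw [← map_inv, ← map_mul, ← map_mul] at h1
    exact (rB_mem_ind h _).1 h1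
  · intro hn y hy
    obtain ⟨x, rfl⟩ := (rB h).surjective y
    rw [← map_inv, ← map_mul, ← map_mul]
    exact (rB_mem_ind h _).2 (hn x ((rB_mem_ind h x).1 hy))

theorem rB_res {ρ : MulAut (GU K)} (h : IsGr ρ) {γ : MulAut (Qb K)} {d : MulAut (GU K)} :
    IsR (ρ * d * ρ⁻¹) (rB h γ) ↔ IsR d γ := by
  constructor
  · intro hr x
    apply ρ.injective
    have h1 := hr (rb h x)
    rw [coe_rB_rb, coe_rb, MulAut.mul_apply, MulAut.mul_apply, MulAut.inv_apply_self] at h1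
    exact h1
  · intro hr y
    obtain ⟨x, rfl⟩ := (rb h).surjective y
    rw [coe_rB_rb, coe_rb, hr x, MulAut.mul_apply, MulAut.mul_apply, MulAut.inv_apply_self]

theorem gr_mem_TT {ρ : MulAut (GU K)} (h : IsGr ρ) : ρ ∈ TT K := Subgroup.subset_closure (Or.inr h)

/-- the transport of `Par` -/
theorem par_swap {p : ℕ} {ρ : MulAut (GU K)} (h : IsGr ρ) {Γ : Subgroup (MulAut (Qa K))} {D : Subgroup (MulAut (GU K))}
    (hP : Par p (Qa K) Γ D) :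
    Par p (Qb K) (Γ.comap (rB h).toMonoidHom) (D.comap (MulAut.conj ρ).toMonoidHom) where
  indu := fun γ hγ => hP.indu ((rB_mem_ind h γ).2 hγ)
  syl := by
    intro P hPΓ hPp
    obtain ⟨g, hg, hgx⟩ := hP.syl (P.map (rB h).toMonoidHom) (Subgroup.map_le_iff_le_comap.2 hPΓ)
      (hPp.map (rB h).toMonoidHom)
    obtain ⟨g', rfl⟩ := (rB h).surjective g
    refine ⟨g', hg, fun x hx => ?_⟩
    have h1 := hgx (rB h x) ⟨x, hx, rfl⟩
    rw [← map_inv, ← map_mul, ← map_mul] at h1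
    exact (rB_mem_ind h _).1 h1
  nn := by
    intro hn
    apply hP.nn
    intro γ hγ
    obtain ⟨γ', rfl⟩ := (rB h).surjective γ
    exact (rB_norm h _).2 (hn γ' hγ)
  D_le := by
    intro d hd
    have h1 : ρ * d * ρ⁻¹ ∈ TT K := hP.D_le hd
    have h2 : d = ρ⁻¹ * (ρ * d * ρ⁻¹) * ρ := by group
    rw [h2]
    exact (TT K).mul_mem ((TT K).mul_mem ((TT K).inv_mem (gr_mem_TT h)) h1) (gr_mem_TT h)
  D_cop := by
    have : Nat.card (D.comap (MulAut.conj ρ).toMonoidHom) = Nat.card D := by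
      have h1 : (D.comap (MulAut.conj ρ).toMonoidHom).map (MulAut.conj ρ).toMonoidHom = D :=
        Subgroup.map_comap_eq_self_of_surjective (MulAut.conj ρ).surjective D
      conv_rhs => rw [← h1]
      exact Nat.card_congr (Subgroup.equivMapOfInjective _ _ (MulAut.conj ρ).injective).toEquiv
    rw [this]
    exact hP.D_cop
  D_res := by
    intro d hd γ hγ
    exact hP.D_res (ρ * d * ρ⁻¹) hd _ ((rB_res h).2 hγ)
  norm := by
    intro γ hγ hn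
    obtain ⟨x, d, hd, he⟩ := hP.norm (rB h γ) hγ ((rB_norm h γ).2 hn)
    refine ⟨ρ⁻¹ x, ρ⁻¹ * d * ρ, ?_, fun z => ρ.injective ?_⟩
    · show ρ * (ρ⁻¹ * d * ρ) * ρ⁻¹ ∈ D
      have : ρ * (ρ⁻¹ * d * ρ) * ρ⁻¹ = d := by group
      rw [this]
      exact hd
    · have h1 := he (rb h z)
      rw [coe_rB_rb, coe_rb] at h1
      rw [h1, map_mul, map_mul, map_inv]
      simp only [MulAut.mul_apply, MulAut.apply_inv_self]

theorem wa_unique {γ γ' : MulAut (Qa K)} (h : IsWa γ) (h' : IsWa γ') : γ = γ' := by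
  apply MulEquiv.ext
  intro x
  apply Subtype.ext
  refine GU.ext ?_ (by rw [h.b, h'.b]) (by rw [h.c, h'.c]) (by rw [h.d, h'.d]) (by rw [h.e, h'.e]) (by rw [h.f, h'.f])
  rw [mem_Qa.1 (γ x).2, mem_Qa.1 (γ' x).2]

/-- `ρ w_b ρ⁻¹ = w_a` -/
theorem rB_wb {ρ : MulAut (GU K)} (h : IsGr ρ) {γ : MulAut (Qb K)} (hw : IsWb γ) : IsWa (rB h γ) := by
  have key : ∀ x : Qb K, (((rB h γ (rb h x) : Qa K) : GU K).b = ((rb h x : Qa K) : GU K).e ∧
      ((rB h γ (rb h x) : Qa K) : GU K).c = - ((rb h x : Qa K) : GU K).d ∧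
      ((rB h γ (rb h x) : Qa K) : GU K).d = ((rb h x : Qa K) : GU K).c ∧
      ((rB h γ (rb h x) : Qa K) : GU K).e = - ((rb h x : Qa K) : GU K).b ∧
      ((rB h γ (rb h x) : Qa K) : GU K).f = ((rb h x : Qa K) : GU K).f + ((rb h x : Qa K) : GU K).b * ((rb h x : Qa K) : GU K).e
        - 3 * ((rb h x : Qa K) : GU K).c * ((rb h x : Qa K) : GU K).d) := by
    intro x
    have hx : (x : GU K).b = 0 := x.2
    have hx' : ((γ x : Qb K) : GU K).b = 0 := (γ x).2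
    have h3 := h.three
    rw [coe_rB_rb, coe_rb, h.b, h.b, h.c, h.c, h.d, h.d, h.e, h.e, h.f, h.f, hx, hx', hw.a, hw.c, hw.d, hw.e, hw.f]
    refine ⟨?_, ?_, ?_, ?_, ?_⟩
    · ring
    · linear_combination (- ((x : GU K).c ^ 2 * (x : GU K).a)) * h3
    · linear_combination ((x : GU K).c * (x : GU K).a ^ 2) * h3
    · ring
    · linear_combination (2 * (x : GU K).c * (x : GU K).d ^ 2 * (x : GU K).a
        - 4 * (x : GU K).c ^ 2 * (x : GU K).d * (x : GU K).a ^ 2 + 3 * (x : GU K).c ^ 3 * (x : GU K).a ^ 3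
        + (x : GU K).e * (x : GU K).f) * h3
  refine ⟨fun y => ?_, fun y => ?_, fun y => ?_, fun y => ?_, fun y => ?_⟩
  all_goals
    obtain ⟨x, rfl⟩ := (rb h).surjective y
    obtain ⟨k1, k2, k3, k4, k5⟩ := key x
    assumption

theorem gr_tor_conj {ρ α : MulAut (GU K)} {s t : K} {τ : K ≃+* K} (hρ : IsGr ρ) (h : IsTor α s t τ) :
    IsTor (ρ * α * ρ⁻¹) t (s ^ 3) τ := by
  obtain ⟨α', h', e⟩ := gr_tor hρ h
  rw [e, mul_inv_cancel_right]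
  exact h'

theorem full_comap {ρ : MulAut (GU K)} (h : IsGr ρ) {D : Subgroup (MulAut (GU K))} (hD : Full D) :
    Full (D.comap (MulAut.conj ρ).toMonoidHom) := fun s t _ hα => hD t (s ^ 3) _ (gr_tor_conj h hα)

theorem gen_map {ρ : MulAut (GU K)} [Finite K] (h : IsGr ρ) (D : Subgroup (MulAut (GU K))) :
    (Gen (IsWb (K := K)) (D.comap (MulAut.conj ρ).toMonoidHom)).map (rB h).toMonoidHom = Gen (IsWa (K := K)) D := by
  unfold Gen
  rw [MonoidHom.map_closure]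
  congr 1
  ext γ
  constructor
  · rintro ⟨γ', (hγ | hγ) | ⟨d, hd, hγ⟩, rfl⟩
    · exact Or.inl (Or.inl ((rB_mem_ind h γ').2 hγ))
    · exact Or.inl (Or.inr (rB_wb h hγ))
    · exact Or.inr ⟨ρ * d * ρ⁻¹, hd, (rB_res h).2 hγ⟩
  · rintro ((hγ | hγ) | ⟨d, hd, hγ⟩)
    · obtain ⟨γ', rfl⟩ := (rB h).surjective γ
      exact ⟨γ', Or.inl (Or.inl ((rB_mem_ind h γ').1 hγ)), rfl⟩
    · obtain ⟨w, hw⟩ := exists_wb (K := K)
      exact ⟨w, Or.inl (Or.inr hw), wa_unique (rB_wb h hw) hγ⟩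
    · obtain ⟨γ', rfl⟩ := (rB h).surjective γ
      have hd' : ρ * (ρ⁻¹ * d * ρ) * ρ⁻¹ = d := by group
      refine ⟨γ', Or.inr ⟨ρ⁻¹ * d * ρ, ?_, ?_⟩, rfl⟩
      · show ρ * (ρ⁻¹ * d * ρ) * ρ⁻¹ ∈ D
        rw [hd']
        exact hd
      · apply (rB_res h).1
        rw [hd']
        exact hγ

theorem three_eq {n : ℕ} (hK : HypG K 3 n) : (3 : K) = 0 := by
  have := hK.char
  exact_mod_cast CharP.cast_eq_zero K 3

/-- **(La, `p = 3`)** from (Lb) -/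
theorem la_three_of (hLb : StLb.{u}) {n : ℕ} (hK : HypG K 3 n) (hq : 5 ≤ 3 ^ n) (Γ : Subgroup (MulAut (Qa K)))
    (D : Subgroup (MulAut (GU K))) (hP : Par 3 (Qa K) Γ D) :
    HasTor D (fun t => t ^ 2) (fun t => (t ^ 3)⁻¹) ∧ (Full D → Γ = Gen IsWa D) := by
  have := hK.fin
  obtain ⟨ρ, h⟩ := exists_gr (three_eq hK)
  obtain ⟨h1, h2⟩ := hLb hK hq _ _ (par_swap h hP)
  constructor
  · intro t ht α hα
    have ht' : t⁻¹ ≠ 0 := inv_ne_zero ht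
    obtain ⟨β, hβ⟩ := exists_tor (s := t⁻¹) (t := t ^ 2) (RingEquiv.refl K) ht' (pow_ne_zero 2 ht)
    have h3 : ρ * β * ρ⁻¹ ∈ D := h1 t ht β hβ
    have h4 := gr_tor_conj h hβ
    have h5 : α = ρ * β * ρ⁻¹ := by
      apply ext_aut
      intro g
      have e : (t⁻¹) ^ 3 = (t ^ 3)⁻¹ := inv_pow t 3
      rw [e] at h4
      exact ⟨by rw [hα.a, h4.a], by rw [hα.b, h4.b], by rw [hα.c, h4.c], by rw [hα.d, h4.d], by rw [hα.e, h4.e],
        by rw [hα.f, h4.f]⟩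
    rw [h5]
    exact h3
  · intro hD
    have h3 := h2 (full_comap h hD)
    rw [← gen_map h D, ← h3]
    exact (Subgroup.map_comap_eq_self_of_surjective (rB h).surjective Γ).symm

end Cfsg.Agent.H103.GT
end

-- part: H913/GT/Real
section
prune_inst 0x200420402202000018000000000020580000000023000041200a000a4841012505060134f00000111284e04008002002000009402000000a000a0000010000000102000010ac04160008001804000000000000000000000000000000000000000000000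
set_option linter.all false

/-!
# S5211, task G2-REAL-a: `StRealA`
-/

set_option autoImplicit false

namespace Cfsg.Agent.H913.GT

open Cfsg Cfsg.Lie Cfsg.Agent.H779.G2

universe u

variable {K : Type u} [Field K]

/-! ### the group of the pairs -/

variable [Finite K] {ρ : MulAut (Cfsg.Lie.G2 K)}

end Cfsg.Agent.H913.GT

private theorem dce_333983d34509 : _root_.True := by
  try have : _root_.True := by simp only [_root_.Cfsg.Agent.H779.G2.TT.eq_1]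
  exact _root_.True.intro
end

-- part: H771/GT/EThree
section
set_option linter.all false
open scoped Cfsg.Agent.FastGrp

/-!
# S5211, `p = 3`: two lemmas for `StE32` (helper771 for helper647)

* `e32_T` : transfer along the graph automorphism;
* `nn_transfer`, `e32_ess_conj` : if `Q_b` is not essential then no essential subgroup contains a conjugate of `Q_b`.
-/

set_option autoImplicit false

namespace Cfsg.Agent.H771.GT

open Cfsg Cfsg.FusionSystem Cfsg.Agent.H779.G2 Cfsg.Agent.H756.PU Cfsg.Agent.H802 Cfsg.Agent.H103.GT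

universe u

/-- transfer along the graph automorphism -/
theorem e32_T {K : Type u} [Field K] {n : ℕ} [Fact (Nat.Prime 3)] (hK : HypG K 3 n)
    (H : ∀ (F : FusionSystem (⊤ : Subgroup (GU K))), F.IsSaturated 3 → ∀ E, F.IsEssential 3 E →
      ∀ y ∈ E, (∀ e ∈ E, y * e = e * y) → y.b = 0 → y.a ≠ 0 → False) :
    ∀ (F : FusionSystem (⊤ : Subgroup (GU K))), F.IsSaturated 3 → ∀ E, F.IsEssential 3 E →
      ∀ y ∈ E, (∀ e ∈ E, y * e = e * y) → y.a = 0 → y.b ≠ 0 → False := by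
  intro F hF E hE y hy hyc ha hb
  have hfin : Finite K := hK.fin
  have hchar := hK.char
  have h3 : (3 : K) = 0 := by exact_mod_cast CharP.cast_eq_zero K 3
  obtain ⟨ρ, hρ⟩ := exists_gr (K := K) h3
  obtain ⟨F', hF', -, -, hess⟩ := Cfsg.Agent.H805.PU.stTwist F ρ hF
  refine H F' hF' (E.map ρ.toMonoidHom) ((hess E).1 hE) (ρ y) ⟨y, hy, rfl⟩ ?_ ?_ ?_
  · rintro _ ⟨e, he, rfl⟩
    show ρ y * ρ e = ρ e * ρ y
    rw [← map_mul, hyc e he, map_mul]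
  · rw [hρ.b, ha]
    ring
  · rw [hρ.a]
    exact hb

/-- normality of `Aut_S` is transported between two normal conjugate subgroups -/
theorem nn_transfer {G0 : Type u} [Group G0] [Finite G0] {p : ℕ} [Fact p.Prime] {F : FusionSystem (⊤ : Subgroup G0)}
    (hS : IsPGroup p (⊤ : Subgroup G0)) (hF : F.IsSaturated p) {Q Q' : Subgroup G0}
    (hQ : (⊤ : Subgroup G0) ≤ Subgroup.normalizer (Q : Set G0)) (hQ' : (⊤ : Subgroup G0) ≤ Subgroup.normalizer (Q' : Set G0))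
    {φ : Q →* G0} (hφ : φ ∈ F.Hom Q) (hr : φ.range = Q') (h : ∀ γ ∈ F.autGroup Q, NormAut (⊤ : Subgroup G0) γ) :
    ∀ γ ∈ F.autGroup Q', NormAut (⊤ : Subgroup G0) γ := by
  obtain ⟨c, hc⟩ : ∃ c, c = MulAut.congr (isoOf φ (F.injective_of_mem hφ) hr) := ⟨_, rfl⟩
  have hmem : ∀ α : MulAut Q, c α ∈ F.autGroup Q' ↔ α ∈ F.autGroup Q := by
    intro α
    rw [hc]
    exact congr_mem_autGroup_iff hφ hr
  have hA : autInducedBy ⊤ Q ≤ F.autGroup Q := autInducedBy_le_autGroup F le_top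
  have hA' : autInducedBy ⊤ Q' ≤ F.autGroup Q' := autInducedBy_le_autGroup F le_top
  have key : ∀ γ' ∈ F.autGroup Q', ∀ x ∈ autInducedBy ⊤ Q, ∃ z ∈ autInducedBy ⊤ Q, γ' * c x * γ'⁻¹ = c z := by
    intro γ' hγ' x hx
    obtain ⟨γ, rfl⟩ := c.surjective γ'
    refine ⟨γ * x * γ⁻¹, h γ ((hmem γ).1 hγ') x hx, ?_⟩
    rw [map_mul, map_mul, map_inv]
  have h1 : ∀ x ∈ autInducedBy ⊤ Q, c x ∈ autInducedBy ⊤ Q' := by
    have hP : IsPGroup p ((autInducedBy ⊤ Q).map c.toMonoidHom) := (isPGroup_autInducedBy hS Q).map _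
    obtain ⟨g, hg, hgx⟩ := syl_of_normal hS hF hQ' _ (by
      rintro _ ⟨x, hx, rfl⟩
      exact (hmem x).2 (hA hx)) hP
    intro x hx
    obtain ⟨z, hz, e⟩ := key g⁻¹ (inv_mem hg) x hx
    have h2 := hgx (c z) ⟨z, hz, rfl⟩
    rw [← e] at h2
    have e2 : g * (g⁻¹ * c x * g⁻¹⁻¹) * g⁻¹ = c x := by group
    rwa [e2] at h2
  have h2 : ∀ x' ∈ autInducedBy ⊤ Q', ∃ x ∈ autInducedBy ⊤ Q, c x = x' := by
    have hP : IsPGroup p ((autInducedBy ⊤ Q').map c.symm.toMonoidHom) := (isPGroup_autInducedBy hS Q').map _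
    obtain ⟨g, hg, hgx⟩ := syl_of_normal hS hF hQ _ (by
      rintro _ ⟨x, hx, rfl⟩
      apply (hmem _).1
      show c (c.symm x) ∈ _
      rw [MulEquiv.apply_symm_apply]
      exact hA' hx) hP
    intro x' hx'
    refine ⟨c.symm x', ?_, c.apply_symm_apply x'⟩
    have h3 := h g⁻¹ (inv_mem hg) _ (hgx (c.symm x') ⟨x', hx', rfl⟩)
    have e2 : g⁻¹ * (g * c.symm x' * g⁻¹) * g⁻¹⁻¹ = c.symm x' := by group
    rwa [e2] at h3
  intro γ' hγ' x' hx'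
  obtain ⟨x, hx, rfl⟩ := h2 x' hx'
  obtain ⟨z, hz, e⟩ := key γ' hγ' x hx
  rw [e]
  exact h1 z hz

theorem e32_ess_conj {K : Type u} [Field K] {n : ℕ} [Fact (Nat.Prime 3)] (hK : HypG K 3 n) (hTI : StTI.{u})
    (hE31 : StE31.{u}) {F : FusionSystem (⊤ : Subgroup (GU K))} (hF : F.IsSaturated 3)
    (hsmall : ∀ E, F.IsEssential 3 E → ¬ Z4 K ≤ E → Nat.card E ≤ (3 ^ n) ^ 4) (hQ : ¬ F.IsEssential 3 (Qb K)) :
    ∀ E, F.IsEssential 3 E → (∃ R', F.IsConj (Qb K) R' ∧ R' ≤ E) → False := by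
  rintro E hE ⟨R', hR', hle⟩
  have hfinK : Finite K := hK.fin
  have hfin : Finite (GU K) := finite_GU hK
  have hS := isP hK
  have h3n : 3 ≤ 3 ^ n := by
    calc 3 = 3 ^ 1 := by norm_num
      _ ≤ 3 ^ n := Nat.pow_le_pow_right (by norm_num) hK.hn
  have hca : Nat.card (Qa K) = (3 ^ n) ^ 5 := by rw [card_Qa, hK.card]
  have hcb : Nat.card (Qb K) = (3 ^ n) ^ 5 := by rw [card_Qb, hK.card]
  have hcR : Nat.card R' = (3 ^ n) ^ 5 := by rw [← isConj_card_eq hR', hcb]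
  have hZ : Z4 K ≤ E := by
    by_contra hZ
    have h1 := hsmall E hE hZ
    have h2 := Subgroup.card_le_of_le hle
    have h4 : (3 ^ n) ^ 4 < (3 ^ n) ^ 5 := Nat.pow_lt_pow_right (by omega) (by norm_num)
    omega
  rcases hE31 hK (Cfsg.Agent.H245.PU.stEss F E hS hF hE) hZ with rfl | rfl
  · have h1 : R' = Qa K := Subgroup.eq_of_le_of_card_ge hle (by rw [hcR, hca])
    subst h1
    obtain ⟨φ, hφ, hr⟩ := hR'
    refine hQ (ess_of_norm hTI hK (by omega) hF (Or.inr rfl) fun h => ?_)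
    exact norm_of_ess hK hF hE (nn_transfer hS hF (top_le_norm _ (Or.inr rfl)) (top_le_norm _ (Or.inl rfl)) hφ hr h)
  · exact hQ hE

end Cfsg.Agent.H771.GT
end

-- part: H428/U2/Defs
section
set_option linter.all false

/-!
# S5211, `StU2P`: the conclusion (helper428)
-/

set_option autoImplicit false

namespace Cfsg.Agent.H428.U2

universe u

/-- the conclusion of `StU2P` (and `StU2`) for a Sylow `p`-subgroup `P` of the group `L` -/
def Concl {L : Type u} [Group L] (p : ℕ) [Fact p.Prime] (P : Sylow p L) : Prop :=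
    (∀ P' P'' : Sylow p L, P' ≠ P → P'' ≠ P → ∃ x ∈ (P : Subgroup L),
      (P' : Subgroup L).map (MulAut.conj x).toMonoidHom = P'') ∧
    (∀ P' : Sylow p L, P' ≠ P → ∃ x y : L, x ∈ (P : Subgroup L) ∧ x ≠ 1 ∧ y ∈ (P' : Subgroup L) ∧
      (P : Subgroup L).map (MulAut.conj (x * y * x)).toMonoidHom = P' ∧
      (P' : Subgroup L).map (MulAut.conj (x * y * x)).toMonoidHom = P) ∧
    (∃ h ∈ Subgroup.normalizer ((P : Subgroup L) : Set L),
      ∀ k : ℕ, 0 < k → 2 * k < p - 1 → ∀ x ∈ (P : Subgroup L), x ≠ 1 → h ^ k * x * (h ^ k)⁻¹ ≠ x)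

end Cfsg.Agent.H428.U2
end

-- part: H297/GT/Defs
section
set_option linter.all false

/-!
# S5211, (La2): the group theory interface, subgroups of `SL₂(K) × SL₂(K)`, `q = 2ⁿ ≥ 4`
-/

set_option autoImplicit false

namespace Cfsg.Agent.H297.GT

universe u

variable {K : Type u} [Field K]

/-- `SL₂(K)` -/
abbrev S2 (K : Type u) [Field K] := Matrix.SpecialLinearGroup (Fin 2) K

/-- lower unipotent matrices -/
def Lo (u : K) : S2 K := ⟨!![1, 0; u, 1], by simp [Matrix.det_fin_two_of]⟩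

/-- the diagonal matrices `diag(l⁻¹, l)` -/
def dg (l : Kˣ) : S2 K := ⟨!![((l⁻¹ : Kˣ) : K), 0; 0, (l : K)], by simp [Matrix.det_fin_two_of]⟩

/-- the Weyl element -/
def wS : S2 K := ⟨!![0, 1; -1, 0], by simp [Matrix.det_fin_two_of]⟩

/-- the group theory half of (La2) -/
def StGraph : Prop :=
  ∀ {K : Type u} [Field K] [Finite K] [CharP K 2], 4 ≤ Nat.card K → ∀ L : Subgroup (S2 K × S2 K),
    (∀ u : K, (Lo u, Lo (u ^ 2)) ∈ L) →
    (∀ Y : Subgroup (S2 K × S2 K), Y ≤ L → IsPGroup 2 Y → Nat.card Y ≤ Nat.card K) →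
    L ≤ Subgroup.closure {x | x ∈ L ∧ ∃ k : ℕ, x ^ 2 ^ k = 1} →
    (∃ x ∈ L, ∀ u : K, x ≠ (Lo u, Lo (u ^ 2))) →
    (∀ x ∈ L, (∀ u : K, ∃ v : K, x * (Lo u, Lo (u ^ 2)) * x⁻¹ = (Lo v, Lo (v ^ 2))) →
      ∃ (u : K) (l : Kˣ), x = (Lo u * dg l, Lo (u ^ 2) * dg (l ^ 2))) →
    (∀ l : Kˣ, (dg l, dg (l ^ 2)) ∈ L) ∧ ((wS, wS) : S2 K × S2 K) ∈ L ∧
    L ≤ Subgroup.closure ({x | ∃ u : K, x = (Lo u, Lo (u ^ 2))} ∪ {(wS, wS)}) ∧
    ∀ Y : Subgroup (S2 K × S2 K), Y ≤ L → IsPGroup 2 Y → ∃ l ∈ L, ∀ y ∈ Y, ∃ u : K, l * y * l⁻¹ = (Lo u, Lo (u ^ 2))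

end Cfsg.Agent.H297.GT
end
end
end
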